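import Mathlib

set_option autoImplicit false

/-! Piece FIX8 of the team project S2066 (helper10). -/

namespace Cfsg.Agent.Lib.Helper96.J2Out

theorem exists_fixed_of_orderOf_eight {G X : Type*} [Group G] [MulAction G X] [Finite X]
    (hX : Odd (Nat.card X)) (u : G) (hu : orderOf u = 8) : ∃ x : X, u • x = x := by
  have hcard : Nat.card (Subgroup.zpowers u) = 2 ^ 3 := by
    rw [Nat.card_zpowers, hu]; norm_num
  have hP : IsPGroup 2 (Subgroup.zpowers u) := IsPGroup.of_card hcard
  haveI : Fact (Nat.Prime 2) := ⟨Nat.prime_two⟩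
  have hnd : ¬ 2 ∣ Nat.card X := by
    intro h
    exact (Nat.not_even_iff_odd.mpr hX) (even_iff_two_dvd.mpr h)
  obtain ⟨x, hx⟩ := hP.nonempty_fixed_point_of_prime_not_dvd_card X hnd
  refine ⟨x, ?_⟩
  have := hx ⟨u, Subgroup.mem_zpowers u⟩
  exact this

end Cfsg.Agent.Lib.Helper96.J2Out
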