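import Mathlib
import Cfsg.Prelude.Def_Solvable

set_option autoImplicit false

namespace Cfsg.Agent.Lib.Helper96

open MulAction Pointwise

variable {G : Type*} [Group G]

/-- Membership in a conjugate subgroup. -/
theorem mem_conj_smul_iff {H : Subgroup G} {a x : G} :
    x ∈ MulAut.conj a • H ↔ a⁻¹ * x * a ∈ H := by
  rw [Subgroup.mem_pointwise_smul_iff_inv_smul_mem, MulAut.smul_def, MulAut.conj_inv_apply]

/-- Malnormality of a Frobenius complement: if `h ∈ H`, `h ≠ 1` and `g h g⁻¹ ∈ H` then `g ∈ H`. -/
theorem frob_mem_of_conj_mem {H : Subgroup G} (hH : Cfsg.IsFrobeniusComplement H) {g h : G}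
    (hh : h ∈ H) (h1 : h ≠ 1) (hg : g * h * g⁻¹ ∈ H) : g ∈ H := by
  by_contra hgH
  have h2 : g * h * g⁻¹ ∈ H ⊓ (MulAut.conj g • H) := by
    refine ⟨hg, ?_⟩
    change g * h * g⁻¹ ∈ MulAut.conj g • H
    rw [mem_conj_smul_iff]
    have : g⁻¹ * (g * h * g⁻¹) * g = h := by group
    rw [this]; exact hh
  rw [hH.2.2 g hgH, Subgroup.mem_bot] at h2
  apply h1
  have h3 : h = g⁻¹ * (g * h * g⁻¹) * g := by group
  rw [h3, h2]; group

/-- Two conjugates of a Frobenius complement sharing a nonidentity element coincide. -/
theorem frob_inv_mul_mem {H : Subgroup G} (hH : Cfsg.IsFrobeniusComplement H) {a b x : G}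
    (hx : x ≠ 1) (ha : x ∈ MulAut.conj a • H) (hb : x ∈ MulAut.conj b • H) : a⁻¹ * b ∈ H := by
  rw [mem_conj_smul_iff] at ha hb
  have h1 : b⁻¹ * x * b ≠ 1 := by
    intro h; apply hx
    have h3 : x = b * (b⁻¹ * x * b) * b⁻¹ := by group
    rw [h3, h]; group
  apply frob_mem_of_conj_mem hH hb h1
  convert ha using 1; group

/-- An element fixes the coset `aH` iff it lies in the conjugate `aHa⁻¹`. -/
theorem smul_coset_eq_iff {H : Subgroup G} (x a : G) :
    x • (a : G ⧸ H) = (a : G ⧸ H) ↔ x ∈ MulAut.conj a • H := by
  rw [mem_conj_smul_iff]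
  rw [show x • (a : G ⧸ H) = ((x * a : G) : G ⧸ H) from rfl, QuotientGroup.eq]
  constructor
  · intro h; have := H.inv_mem h; convert this using 1; group
  · intro h; have := H.inv_mem h; convert this using 1; group

/-- A nonidentity element lying in a conjugate of a Frobenius complement `H` fixes exactly one
coset of `H`. -/
theorem frob_card_fixedBy_of_mem {H : Subgroup G} (hH : Cfsg.IsFrobeniusComplement H) {x g : G}
    (hx : x ≠ 1) (hg : x ∈ MulAut.conj g • H) [Fintype (fixedBy (G ⧸ H) x)] :
    Fintype.card (fixedBy (G ⧸ H) x) = 1 := by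
  rw [Fintype.card_eq_one_iff]
  refine ⟨⟨(g : G ⧸ H), (smul_coset_eq_iff x g).mpr hg⟩, ?_⟩
  rintro ⟨y, hy⟩
  induction y using QuotientGroup.induction_on with
  | H b =>
    have hb : x ∈ MulAut.conj b • H := (smul_coset_eq_iff x b).mp hy
    apply Subtype.ext
    change (b : G ⧸ H) = (g : G ⧸ H)
    rw [QuotientGroup.eq]
    exact frob_inv_mul_mem hH hx hb hg

/-- An element lying in no conjugate of `H` fixes no coset of `H`. -/
theorem card_fixedBy_of_not_mem {H : Subgroup G} {x : G}
    (hg : ∀ g : G, x ∉ MulAut.conj g • H) [Fintype (fixedBy (G ⧸ H) x)] :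
    Fintype.card (fixedBy (G ⧸ H) x) = 0 := by
  rw [Fintype.card_eq_zero_iff]
  constructor
  rintro ⟨y, hy⟩
  induction y using QuotientGroup.induction_on with
  | H b => exact hg b ((smul_coset_eq_iff x b).mp hy)

/-- The identity fixes every coset. -/
theorem card_fixedBy_one_coset {H : Subgroup G} [Fintype (G ⧸ H)]
    [Fintype (fixedBy (G ⧸ H) (1 : G))] :
    Fintype.card (fixedBy (G ⧸ H) (1 : G)) = H.index := by
  rw [Subgroup.index, Nat.card_eq_fintype_card]
  apply Fintype.card_of_subtype Finset.univ
  intro x
  simp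

/-- The Frobenius kernel has as many elements as the index of the complement. -/
theorem frob_card_kernel [Finite G] {H : Subgroup G} (hH : Cfsg.IsFrobeniusComplement H) :
    Nat.card (Cfsg.frobeniusKernel H) = H.index := by
  classical
  have : Fintype G := Fintype.ofFinite G
  have hB : ∑ g : G, Fintype.card (fixedBy (G ⧸ H) g) = Fintype.card G := by
    have h := sum_card_fixedBy_eq_card_orbits_mul_card_group G (G ⧸ H)
    have h1 : Fintype.card (Quotient (orbitRel G (G ⧸ H))) = 1 := by
      have hsub : Subsingleton (orbitRel.Quotient G (G ⧸ H)) :=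
        (pretransitive_iff_subsingleton_quotient G (G ⧸ H)).mp inferInstance
      have hne : Nonempty (Quotient (orbitRel G (G ⧸ H))) := ⟨Quotient.mk _ ((1 : G) : G ⧸ H)⟩
      exact le_antisymm (Fintype.card_le_one_iff_subsingleton.mpr hsub) Fintype.card_pos
    rw [h, h1, one_mul]
  set A : Finset G := Finset.univ.filter (fun x => x ∈ Cfsg.frobeniusKernel H) with hA
  have hKA : Nat.card (Cfsg.frobeniusKernel H) = A.card := by
    rw [Nat.card_eq_fintype_card, ← Set.toFinset_card]
    congr 1
    ext x
    simp [hA]
  have hf : ∀ x : G, Fintype.card (fixedBy (G ⧸ H) x)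
      = (if x = 1 then H.index else 0) + (if x ∈ Cfsg.frobeniusKernel H then 0 else 1) := by
    intro x
    by_cases hx1 : x = 1
    · subst hx1
      have : (1 : G) ∈ Cfsg.frobeniusKernel H := Or.inl rfl
      simp only [this, if_true, add_zero]
      exact card_fixedBy_one_coset
    · by_cases hxK : x ∈ Cfsg.frobeniusKernel H
      · simp only [hx1, hxK, if_true, if_false, add_zero]
        rcases hxK with h | h
        · exact absurd h hx1
        · exact card_fixedBy_of_not_mem h
      · simp only [hx1, hxK, if_false, zero_add]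
        have : ∃ g : G, x ∈ MulAut.conj g • H := by
          by_contra hcon
          push Not at hcon
          exact hxK (Or.inr hcon)
        obtain ⟨g, hg⟩ := this
        exact frob_card_fixedBy_of_mem hH hx1 hg
  have hsum : ∑ x : G, Fintype.card (fixedBy (G ⧸ H) x)
      = H.index + (Fintype.card G - A.card) := by
    rw [Finset.sum_congr rfl (fun x _ => hf x), Finset.sum_add_distrib]
    congr 1
    · simp
    · have h1 : (∑ x : G, if x ∈ Cfsg.frobeniusKernel H then 0 else 1) = Aᶜ.card := by
        have h2 : Aᶜ = Finset.univ.filter (fun x => x ∉ Cfsg.frobeniusKernel H) := by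
          ext x
          simp [hA]
        rw [h2, Finset.card_filter]
        apply Finset.sum_congr rfl
        intro x _
        by_cases h : x ∈ Cfsg.frobeniusKernel H <;> simp [h]
      rw [h1, Finset.card_compl]
  have hAle : A.card ≤ Fintype.card G := Finset.card_le_univ A
  rw [hKA]
  omega

/-- The index of a Frobenius complement is congruent to `1` modulo its order. -/
theorem frob_index_mod [Finite G] {H : Subgroup G} (hH : Cfsg.IsFrobeniusComplement H) :
    H.index % Nat.card H = 1 % Nat.card H := by
  classical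
  have : Fintype G := Fintype.ofFinite G
  have hB := sum_card_fixedBy_eq_card_orbits_mul_card_group H (G ⧸ H)
  set m := Fintype.card (Quotient (orbitRel H (G ⧸ H))) with hm
  have hf : ∀ h : H, Fintype.card (fixedBy (G ⧸ H) h)
      = (if h = 1 then H.index else 0) + (if h = 1 then 0 else 1) := by
    intro h
    by_cases h1 : h = 1
    · subst h1
      simp only [if_true, add_zero]
      have : Fintype.card (fixedBy (G ⧸ H) (1 : H)) = Fintype.card (fixedBy (G ⧸ H) (1 : G)) := by
        apply Fintype.card_congr
        exact Equiv.subtypeEquivRight (fun y => by simp)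
      rw [this]
      exact card_fixedBy_one_coset
    · simp only [h1, if_false, zero_add]
      have h1' : (h : G) ≠ 1 := fun hh => h1 (Subtype.ext hh)
      have hmem : (h : G) ∈ MulAut.conj (1 : G) • H := by
        rw [mem_conj_smul_iff]; simp
      have : Fintype.card (fixedBy (G ⧸ H) h) = Fintype.card (fixedBy (G ⧸ H) (h : G)) := by
        apply Fintype.card_congr
        exact Equiv.subtypeEquivRight (fun y => by rw [mem_fixedBy, mem_fixedBy]; rfl)
      rw [this]
      exact frob_card_fixedBy_of_mem hH h1' hmem
  have hsum : ∑ h : H, Fintype.card (fixedBy (G ⧸ H) h) = H.index + (Fintype.card H - 1) := by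
    rw [Finset.sum_congr rfl (fun x _ => hf x), Finset.sum_add_distrib]
    congr 1
    · simp
    · have h1 : (∑ x : H, if x = 1 then 0 else 1) = ({(1 : H)} : Finset H)ᶜ.card := by
        have h2 : ({(1 : H)} : Finset H)ᶜ = Finset.univ.filter (fun x => x ≠ 1) := by
          ext x
          simp
        rw [h2, Finset.card_filter]
        apply Finset.sum_congr rfl
        intro x _
        by_cases h : x = 1 <;> simp [h]
      rw [h1, Finset.card_compl, Finset.card_singleton]
  rw [hsum] at hB
  rw [Nat.card_eq_fintype_card]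
  have hpos : 0 < Fintype.card H := Fintype.card_pos
  have h2 : H.index + Fintype.card H = m * Fintype.card H + 1 := by omega
  calc H.index % Fintype.card H = (H.index + Fintype.card H) % Fintype.card H := by
        rw [Nat.add_mod_right]
    _ = (m * Fintype.card H + 1) % Fintype.card H := by rw [h2]
    _ = 1 % Fintype.card H := by rw [Nat.mul_add_mod_self_right]

end Cfsg.Agent.Lib.Helper96
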