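import Cfsg.Agent.Lib.Helper96.Frob5
import Cfsg.Agent.S0035
import Cfsg.Agent.S0039
import Cfsg.Agent.S0041

set_option autoImplicit false

namespace Cfsg.Agent.Lib.Helper96

open MulAction Pointwise

theorem s41 (G : Type*) [Group G] [Finite G] : S41 G :=
  fun A V _ hV hAV hf hA => Cfsg.Agent.S0041.result A V hV hAV hf hA

/-- A Frobenius complement has a normal complement on which it acts fixed-point-freely. -/
theorem frob_exists_kernel {G : Type*} [Group G] [Finite G] {H : Subgroup G}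
    (hH : Cfsg.IsFrobeniusComplement H) :
    ∃ K : Subgroup G, K.Normal ∧ K ≠ ⊥ ∧ Subgroup.IsComplement' K H ∧
      ∀ h ∈ H, h ≠ 1 → K ⊓ Subgroup.centralizer {h} = ⊥ := by
  obtain ⟨K, hKset, hKn, hKc⟩ := Cfsg.Agent.S0035.result H hH
  have hKbot : K ≠ ⊥ := by
    intro h
    have h1 : Nat.card K = H.index := by
      have h2 := frob_card_kernel hH
      rw [← hKset] at h2
      exact h2
    rw [h, Subgroup.card_bot] at h1
    exact hH.2.1 (Subgroup.index_eq_one.mp h1.symm)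
  haveI := hKn
  exact ⟨K, hKn, hKbot, hKc, (Cfsg.Agent.S0039.result K H hKc hKbot hH.1).mp hH⟩

/-- A Frobenius complement contains no proper Frobenius complement. -/
theorem frob_eq_of_le {G : Type*} [Group G] [Finite G] {H H₁ : Subgroup G}
    (hH : Cfsg.IsFrobeniusComplement H) (hH₁ : Cfsg.IsFrobeniusComplement H₁) (hle : H₁ ≤ H) :
    H₁ = H := by
  classical
  by_contra hne
  obtain ⟨K, hKn, hKbot, hKc, hfpf⟩ := frob_exists_kernel hH
  obtain ⟨K₁, hK₁n, hK₁bot, hK₁c, hfpf₁⟩ := frob_exists_kernel hH₁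
  haveI := hKn
  haveI := hK₁n
  have hdisj₁ : K₁ ⊓ H₁ = ⊥ := hK₁c.disjoint.eq_bot
  -- an element of prime order in H₁
  have hc1 : Nat.card H₁ ≠ 1 := by
    intro h; exact hH₁.1 (Subgroup.card_eq_one.mp h)
  have hp : (Nat.card H₁).minFac.Prime := Nat.minFac_prime hc1
  set p := (Nat.card H₁).minFac with hpdef
  haveI := Fact.mk hp
  obtain ⟨y₀, hy₀⟩ := exists_prime_orderOf_dvd_card' (G := H₁) p (Nat.minFac_dvd _)
  have hy₀1 : (y₀ : G) ≠ 1 := by
    intro h
    have h1 : y₀ = 1 := Subtype.ext h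
    rw [h1, orderOf_one] at hy₀
    exact hp.one_lt.ne hy₀
  have hyH : (y₀ : G) ∈ H := hle y₀.2
  -- the normal subgroup N' = K₁ ∩ H of H
  set N' : Subgroup H := K₁.subgroupOf H with hN'
  have hN'bot : N' ≠ ⊥ := by
    obtain ⟨h, hhH, hhH₁⟩ : ∃ h, h ∈ H ∧ h ∉ H₁ := by
      by_contra hcon
      push Not at hcon
      exact hne (le_antisymm hle hcon)
    obtain ⟨⟨k, h₁⟩, hkh⟩ := hK₁c.2 h
    simp only at hkh
    have hk : (k : G) = h * (h₁ : G)⁻¹ := by rw [← hkh]; group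
    have hkH : (k : G) ∈ H := by rw [hk]; exact H.mul_mem hhH (H.inv_mem (hle h₁.2))
    have hk1 : (k : G) ≠ 1 := by
      intro h1
      apply hhH₁
      rw [← hkh, h1, one_mul]
      exact h₁.2
    intro hbot
    have h2 : (⟨(k : G), hkH⟩ : H) ∈ N' := by
      rw [hN', Subgroup.mem_subgroupOf]; exact k.2
    rw [hbot, Subgroup.mem_bot] at h2
    exact hk1 (congrArg Subtype.val h2)
  set y : H := ⟨(y₀ : G), hyH⟩ with hy
  have hyfpf : N' ⊓ Subgroup.centralizer {y} = ⊥ := by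
    rw [eq_bot_iff]
    intro x hx
    rw [Subgroup.mem_inf, hN', Subgroup.mem_subgroupOf, Subgroup.mem_centralizer_iff] at hx
    have h1 : (x : G) ∈ K₁ ⊓ Subgroup.centralizer {(y₀ : G)} := by
      rw [Subgroup.mem_inf, Subgroup.mem_centralizer_iff]
      refine ⟨hx.1, ?_⟩
      intro z hz
      rw [Set.mem_singleton_iff] at hz
      subst hz
      exact congrArg Subtype.val (hx.2 y rfl)
    rw [hfpf₁ _ y₀.2 hy₀1, Subgroup.mem_bot] at h1
    rw [Subgroup.mem_bot]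
    exact Subtype.ext h1
  obtain ⟨V, hVN, hVbot, hVcomm, hVnorm⟩ := fpf_exists_invariant_abelian N' hN'bot y hyfpf
  have hyV : y ∈ Subgroup.normalizer (V : Set H) := by
    apply hVnorm
    have h1 : y⁻¹ * y * y = y := by group
    rw [h1]
    exact Subgroup.mem_zpowers y
  -- the image of V in G is cyclic
  set VG : Subgroup G := V.map H.subtype with hVG
  have hVGH : VG ≤ H := Subgroup.map_subtype_le V
  have hVGcomm : ∀ a ∈ VG, ∀ b ∈ VG, a * b = b * a := by
    intro a ha b hb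
    obtain ⟨a', ha', rfl⟩ := Subgroup.mem_map.mp ha
    obtain ⟨b', hb', rfl⟩ := Subgroup.mem_map.mp hb
    exact congrArg Subtype.val (hVcomm a' ha' b' hb')
  haveI hVGcyc : IsCyclic VG := fpf_isCyclic_of_comm (s41 G) K H hKbot hfpf VG hVGH hVGcomm
  -- an element of prime order in V
  have hcV : Nat.card V ≠ 1 := by
    intro h; exact hVbot (Subgroup.card_eq_one.mp h)
  have hq : (Nat.card V).minFac.Prime := Nat.minFac_prime hcV
  set q := (Nat.card V).minFac with hqdef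
  haveI := Fact.mk hq
  obtain ⟨w₀, hw₀⟩ := exists_prime_orderOf_dvd_card' (G := V) q (Nat.minFac_dvd _)
  set w : G := ((w₀ : H) : G) with hw
  have hwo : orderOf w = q := by
    rw [hw, Subgroup.orderOf_coe, Subgroup.orderOf_coe]; exact hw₀
  have hwVG : w ∈ VG := Subgroup.mem_map.mpr ⟨(w₀ : H), w₀.2, rfl⟩
  have hwK₁ : w ∈ K₁ := by
    have h1 := hVN w₀.2
    rw [hN', Subgroup.mem_subgroupOf] at h1
    exact h1
  -- conjugate of w
  have hconjV : y * (w₀ : H) * y⁻¹ ∈ V :=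
    (Subgroup.mem_set_normalizer_iff.mp hyV (w₀ : H)).mp w₀.2
  have hconjVG : (y₀ : G) * w * (y₀ : G)⁻¹ ∈ VG :=
    Subgroup.mem_map.mpr ⟨y * (w₀ : H) * y⁻¹, hconjV, rfl⟩
  have hnorm : (y₀ : G) * w * (y₀ : G)⁻¹ ∈ Subgroup.zpowers w := by
    apply mem_zpowers_of_orderOf_eq VG hwVG hconjVG
    rw [← MulAut.conj_apply, MulEquiv.orderOf_eq]
  have hdisj : Subgroup.zpowers w ⊓ Subgroup.zpowers (y₀ : G) = ⊥ := by
    rw [eq_bot_iff]
    intro g hg
    rw [Subgroup.mem_inf] at hg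
    have h1 : g ∈ K₁ := (Subgroup.zpowers_le.mpr hwK₁) hg.1
    have h2 : g ∈ H₁ := (Subgroup.zpowers_le.mpr y₀.2) hg.2
    have h3 : g ∈ K₁ ⊓ H₁ := Subgroup.mem_inf.mpr ⟨h1, h2⟩
    rw [hdisj₁] at h3
    exact h3
  have hcomm : w * (y₀ : G) = (y₀ : G) * w :=
    fpf_commute_of_prime_orders (s41 G) K H hKbot hfpf (hVGH hwVG) hyH hp hq hwo
      (by rw [Subgroup.orderOf_coe]; exact hy₀) hnorm hdisj
  have hw1 : w ∈ K₁ ⊓ Subgroup.centralizer {(y₀ : G)} := by
    rw [Subgroup.mem_inf, Subgroup.mem_centralizer_iff]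
    refine ⟨hwK₁, ?_⟩
    intro z hz
    rw [Set.mem_singleton_iff] at hz
    subst hz
    exact hcomm.symm
  rw [hfpf₁ _ y₀.2 hy₀1, Subgroup.mem_bot] at hw1
  rw [hw1, orderOf_one] at hwo
  exact hq.one_lt.ne hwo

/-- All Frobenius complements of a finite group are conjugate. -/
theorem frob_conjugate {G : Type*} [Group G] [Finite G] {H H₀ : Subgroup G}
    (hH : Cfsg.IsFrobeniusComplement H) (hH₀ : Cfsg.IsFrobeniusComplement H₀) :
    ∃ g : G, MulAut.conj g • H₀ = H := by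
  rcases le_total (Nat.card H₀) (Nat.card H) with hle | hle
  · obtain ⟨g, hg⟩ := frob_exists_conj_le hH hH₀ hle
    exact ⟨g, frob_eq_of_le hH (isFrob_conj hH₀ g) hg⟩
  · obtain ⟨g, hg⟩ := frob_exists_conj_le hH₀ hH hle
    have h1 := frob_eq_of_le hH₀ (isFrob_conj hH g) hg
    refine ⟨g⁻¹, ?_⟩
    rw [← h1, map_inv, inv_smul_smul]

end Cfsg.Agent.Lib.Helper96
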