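import Mathlib

set_option autoImplicit false

/-! S2202-SLCYC: a commutative subgroup of odd order of `SL(2,F)`, `F` a finite field of
characteristic 2, is cyclic (common eigenvector over the algebraic closure). -/

namespace Cfsg.Agent.Lib.Helper96.Aic

open Matrix

theorem line2 {K : Type*} [Field K] (N : Matrix (Fin 2) (Fin 2) K) (c : K) (v w : Fin 2 → K)
    (hv : v ≠ 0) (hNv : N *ᵥ v = c • v) (hNw : N *ᵥ w = c • w)
    (hN : ¬ (N 0 0 = c ∧ N 0 1 = 0 ∧ N 1 0 = 0 ∧ N 1 1 = c)) : ∃ a : K, w = a • v := by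
  by_contra hcon
  have hd : v 0 * w 1 - v 1 * w 0 ≠ 0 := by
    intro hd
    apply hcon
    by_cases h0 : v 0 = 0
    · have h1 : v 1 ≠ 0 := by
        intro h1; apply hv; funext i; fin_cases i
        · exact h0
        · exact h1
      refine ⟨w 1 / v 1, ?_⟩
      have hw0 : w 0 = 0 := by
        rw [h0, zero_mul, zero_sub, neg_eq_zero] at hd
        rcases mul_eq_zero.mp hd with h | h
        · exact absurd h h1
        · exact h
      funext i; fin_cases i
      · show w 0 = w 1 / v 1 * v 0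
        rw [hw0, h0, mul_zero]
      · show w 1 = w 1 / v 1 * v 1
        field_simp
    · refine ⟨w 0 / v 0, ?_⟩
      funext i; fin_cases i
      · show w 0 = w 0 / v 0 * v 0
        field_simp
      · show w 1 = w 0 / v 0 * v 1
        field_simp
        linear_combination hd
  have e1 := congrFun hNv 0
  have e2 := congrFun hNv 1
  have e3 := congrFun hNw 0
  have e4 := congrFun hNw 1
  simp only [Matrix.mulVec, dotProduct, Fin.sum_univ_two, Pi.smul_apply, smul_eq_mul] at e1 e2 e3 e4
  apply hN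
  refine ⟨?_, ?_, ?_, ?_⟩
  · have h : (N 0 0 - c) * (v 0 * w 1 - v 1 * w 0) = 0 := by
      linear_combination w 1 * e1 - v 1 * e3
    rcases mul_eq_zero.mp h with h | h
    · exact sub_eq_zero.mp h
    · exact absurd h hd
  · have h : N 0 1 * (v 0 * w 1 - v 1 * w 0) = 0 := by
      linear_combination v 0 * e3 - w 0 * e1
    rcases mul_eq_zero.mp h with h | h
    · exact h
    · exact absurd h hd
  · have h : N 1 0 * (v 0 * w 1 - v 1 * w 0) = 0 := by
      linear_combination w 1 * e2 - v 1 * e4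
    rcases mul_eq_zero.mp h with h | h
    · exact h
    · exact absurd h hd
  · have h : (N 1 1 - c) * (v 0 * w 1 - v 1 * w 0) = 0 := by
      linear_combination v 0 * e4 - w 0 * e2
    rcases mul_eq_zero.mp h with h | h
    · exact sub_eq_zero.mp h
    · exact absurd h hd

theorem sl2_odd_abelian_cyclic (F : Type*) [Field F] [Finite F] [CharP F 2]
    (A : Subgroup (Matrix.SpecialLinearGroup (Fin 2) F)) (hcomm : ∀ a ∈ A, ∀ b ∈ A, a * b = b * a)
    (hodd : Odd (Nat.card A)) : IsCyclic A := by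
  classical
  have hfin : Finite A := Nat.finite_of_card_ne_zero (by
    intro h; rw [h] at hodd; exact absurd hodd (by decide))
  by_cases hbot : ∀ a ∈ A, a = 1
  · have : Subsingleton A := ⟨fun a b => Subtype.ext ((hbot a a.2).trans (hbot b b.2).symm)⟩
    exact isCyclic_of_subsingleton
  push Not at hbot
  obtain ⟨x, hxA, hx1⟩ := hbot
  let K := AlgebraicClosure F
  have hinj : Function.Injective (algebraMap F K) := (algebraMap F K).injective
  have hcharK : CharP K 2 := charP_of_injective_algebraMap hinj 2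
  have h2F : (2 : F) = 0 := CharTwo.two_eq_zero
  have h2K : (2 : K) = 0 := CharTwo.two_eq_zero
  let M : Matrix.SpecialLinearGroup (Fin 2) F → Matrix (Fin 2) (Fin 2) K :=
    fun y => (y : Matrix (Fin 2) (Fin 2) F).map (algebraMap F K)
  have hMap : ∀ (y : Matrix.SpecialLinearGroup (Fin 2) F) (i j : Fin 2),
      M y i j = algebraMap F K ((y : Matrix (Fin 2) (Fin 2) F) i j) := fun y i j => rfl
  have hM1 : M 1 = 1 := by
    show ((1 : Matrix.SpecialLinearGroup (Fin 2) F) : Matrix (Fin 2) (Fin 2) F).map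
      (algebraMap F K) = 1
    rw [Matrix.SpecialLinearGroup.coe_one, Matrix.map_one _ (map_zero _) (map_one _)]
  have hMmul : ∀ a b, M (a * b) = M a * M b := by
    intro a b
    show ((a * b : Matrix.SpecialLinearGroup (Fin 2) F) : Matrix (Fin 2) (Fin 2) F).map
      (algebraMap F K) = _
    rw [Matrix.SpecialLinearGroup.coe_mul, Matrix.map_mul]
  obtain ⟨c, hc⟩ := Module.End.exists_eigenvalue (Matrix.toLin' (M x))
  obtain ⟨v, hv⟩ := hc.exists_hasEigenvector
  have hv0 : v ≠ 0 := hv.2
  have hxv : M x *ᵥ v = c • v := by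
    have := hv.apply_eq_smul
    simpa using this
  have hxns : ¬ (M x 0 0 = c ∧ M x 0 1 = 0 ∧ M x 1 0 = 0 ∧ M x 1 1 = c) := by
    rintro ⟨h00, h01, h10, h11⟩
    apply hx1
    have e01 : (x : Matrix (Fin 2) (Fin 2) F) 0 1 = 0 := by
      apply hinj; rw [← hMap, h01, map_zero]
    have e10 : (x : Matrix (Fin 2) (Fin 2) F) 1 0 = 0 := by
      apply hinj; rw [← hMap, h10, map_zero]
    have e00 : (x : Matrix (Fin 2) (Fin 2) F) 1 1 = (x : Matrix (Fin 2) (Fin 2) F) 0 0 := by
      apply hinj; rw [← hMap, ← hMap, h00, h11]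
    have hdet := x.det_coe
    rw [Matrix.det_fin_two, e01, e10, e00] at hdet
    have h1 : (x : Matrix (Fin 2) (Fin 2) F) 0 0 = 1 := by
      have : ((x : Matrix (Fin 2) (Fin 2) F) 0 0 - 1) ^ 2 = 0 := by
        linear_combination hdet + (1 - (x : Matrix (Fin 2) (Fin 2) F) 0 0) * h2F
      exact sub_eq_zero.mp ((pow_eq_zero_iff (two_ne_zero)).mp this)
    apply Subtype.ext
    ext i j
    fin_cases i <;> fin_cases j
    · simpa using h1
    · simpa using e01
    · simpa using e10
    · simpa using e00.trans h1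
  have hline : ∀ y ∈ A, ∃ a : K, M y *ᵥ v = a • v := by
    intro y hy
    apply line2 (M x) c v (M y *ᵥ v) hv0 hxv _ hxns
    rw [Matrix.mulVec_mulVec, ← hMmul, ← hcomm y hy x hxA, hMmul, ← Matrix.mulVec_mulVec, hxv,
      Matrix.mulVec_smul]
  choose! χ hχ using hline
  have hχ1 : χ 1 = 1 := by
    have h := hχ 1 A.one_mem
    rw [hM1, Matrix.one_mulVec] at h
    have h' : (χ 1 - 1) • v = 0 := by rw [sub_smul, one_smul, ← h, sub_self]
    rcases smul_eq_zero.mp h' with h'' | h''
    · exact sub_eq_zero.mp h''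
    · exact absurd h'' hv0
  have hχmul : ∀ a ∈ A, ∀ b ∈ A, χ (a * b) = χ a * χ b := by
    intro a ha b hb
    have h := hχ (a * b) (A.mul_mem ha hb)
    rw [hMmul, ← Matrix.mulVec_mulVec, hχ b hb, Matrix.mulVec_smul, hχ a ha, smul_smul] at h
    have h' : (χ (a * b) - χ b * χ a) • v = 0 := by rw [sub_smul, ← h, sub_self]
    rcases smul_eq_zero.mp h' with h'' | h''
    · rw [sub_eq_zero.mp h'', mul_comm]
    · exact absurd h'' hv0
  let f : A →* K :=
    { toFun := fun a => χ (a : Matrix.SpecialLinearGroup (Fin 2) F)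
      map_one' := hχ1
      map_mul' := fun a b => hχmul a a.2 b b.2 }
  apply isCyclic_of_injective_ringHom f
  rw [injective_iff_map_eq_one]
  intro a ha
  have ha' : χ (a : Matrix.SpecialLinearGroup (Fin 2) F) = 1 := ha
  have hav : (M a - 1) *ᵥ v = 0 := by
    rw [Matrix.sub_mulVec, hχ a a.2, ha', one_smul, Matrix.one_mulVec, sub_self]
  have hdet0 : (M a - 1).det = 0 := Matrix.exists_mulVec_eq_zero_iff.mp ⟨v, hv0, hav⟩
  rw [Matrix.det_fin_two] at hdet0
  have h01 : (1 : Matrix (Fin 2) (Fin 2) K) 0 1 = 0 := Matrix.one_apply_ne (by decide)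
  have h10 : (1 : Matrix (Fin 2) (Fin 2) K) 1 0 = 0 := Matrix.one_apply_ne (by decide)
  simp only [Matrix.sub_apply, Matrix.one_apply_eq, h01, h10, sub_zero, hMap] at hdet0
  have hdetF := (a : Matrix.SpecialLinearGroup (Fin 2) F).det_coe
  rw [Matrix.det_fin_two] at hdetF
  have hdetK := congrArg (algebraMap F K) hdetF
  rw [map_sub, map_mul, map_mul, map_one] at hdetK
  have htr : ((a : Matrix.SpecialLinearGroup (Fin 2) F) : Matrix (Fin 2) (Fin 2) F) 0 0 +
      ((a : Matrix.SpecialLinearGroup (Fin 2) F) : Matrix (Fin 2) (Fin 2) F) 1 1 = 0 := by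
    apply hinj
    rw [map_add, map_zero]
    linear_combination hdetK - hdet0 + h2K
  have hsq : (a : Matrix.SpecialLinearGroup (Fin 2) F) * a = 1 := by
    apply Subtype.ext
    rw [Matrix.SpecialLinearGroup.coe_mul, Matrix.SpecialLinearGroup.coe_one]
    ext i j
    fin_cases i <;> fin_cases j
    · simp only [Matrix.mul_apply, Fin.sum_univ_two, Fin.zero_eta, Fin.mk_one, Matrix.one_apply_eq]
      linear_combination ((a : Matrix.SpecialLinearGroup (Fin 2) F) : Matrix (Fin 2) (Fin 2) F) 0 0
        * htr - hdetF - h2F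
    · simp only [Matrix.mul_apply, Fin.sum_univ_two, Fin.zero_eta, Fin.mk_one]
      rw [Matrix.one_apply_ne (by decide)]
      linear_combination ((a : Matrix.SpecialLinearGroup (Fin 2) F) : Matrix (Fin 2) (Fin 2) F) 0 1
        * htr
    · simp only [Matrix.mul_apply, Fin.sum_univ_two, Fin.zero_eta, Fin.mk_one]
      rw [Matrix.one_apply_ne (by decide)]
      linear_combination ((a : Matrix.SpecialLinearGroup (Fin 2) F) : Matrix (Fin 2) (Fin 2) F) 1 0
        * htr
    · simp only [Matrix.mul_apply, Fin.sum_univ_two, Fin.zero_eta, Fin.mk_one, Matrix.one_apply_eq]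
      linear_combination ((a : Matrix.SpecialLinearGroup (Fin 2) F) : Matrix (Fin 2) (Fin 2) F) 1 1
        * htr - hdetF - h2F
  have hsqA : a * a = 1 := Subtype.ext hsq
  have hord2 : orderOf a ∣ 2 := orderOf_dvd_of_pow_eq_one (by rw [pow_two]; exact hsqA)
  have hordc : orderOf a ∣ Nat.card A := orderOf_dvd_natCard a
  rcases (Nat.dvd_prime Nat.prime_two).mp hord2 with h | h
  · exact orderOf_eq_one_iff.mp h
  · exfalso
    rw [h] at hordc
    exact (Nat.not_even_iff_odd.mpr hodd) (even_iff_two_dvd.mpr hordc)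

example (F : Type*) [Field F] [Finite F] [CharP F 2]
    (A : Subgroup (Matrix.SpecialLinearGroup (Fin 2) F)) (hcomm : ∀ a ∈ A, ∀ b ∈ A, a * b = b * a)
    (hodd : Odd (Nat.card A)) : IsCyclic A :=
  sl2_odd_abelian_cyclic F A hcomm hodd

end Cfsg.Agent.Lib.Helper96.Aic
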