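import Mathlib
import Cfsg.Agent.H26.Transfer

set_option autoImplicit false

/-! S2202-TRANSFER: a central element of the commutator subgroup lying in a commutative
Sylow subgroup is trivial (transfer). -/

namespace Cfsg.Agent.Lib.Helper96.Aic

open Subgroup

theorem center_inf_commutator_sylow {G : Type*} [Group G] [Finite G] {p : ℕ} [Fact p.Prime]
    (P : Sylow p G) (hP : ∀ a ∈ (P : Subgroup G), ∀ b ∈ (P : Subgroup G), a * b = b * a) {z : G}
    (hzP : z ∈ (P : Subgroup G)) (hzZ : z ∈ Subgroup.center G) (hzC : z ∈ commutator G) : z = 1 := by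
  classical
  let _ : CommGroup (P : Subgroup G) :=
    { (inferInstance : Group (P : Subgroup G)) with
      mul_comm := fun a b => Subtype.ext (hP a a.2 b b.2) }
  have hfi : (P : Subgroup G).FiniteIndex := inferInstance
  let V : G →* (P : Subgroup G) := MonoidHom.transfer (MonoidHom.id (P : Subgroup G))
  have hV : V z = (⟨z, hzP⟩ : (P : Subgroup G)) ^ (P : Subgroup G).index := by
    have := Cfsg.Agent.H26.transfer_eq_pow_of_forall (H := (P : Subgroup G))
      (ϕ := MonoidHom.id (P : Subgroup G)) (⟨z, hzP⟩ : (P : Subgroup G)) (by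
        intro k g₀ hk
        apply Subtype.ext
        have hzk : z ^ k ∈ Subgroup.center G := Subgroup.pow_mem _ hzZ k
        have hc := Subgroup.mem_center_iff.mp hzk g₀
        show g₀⁻¹ * z ^ k * g₀ = z ^ k
        rw [mul_assoc, ← hc, inv_mul_cancel_left])
    simpa using this
  have hker : V z = 1 := by
    have := Abelianization.commutator_subset_ker V hzC
    exact MonoidHom.mem_ker.mp this
  have h1 : z ^ (P : Subgroup G).index = 1 := by
    rw [hV] at hker
    have := congrArg (Subtype.val) hker
    simpa using this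
  obtain ⟨k, hk⟩ := P.isPGroup' ⟨z, hzP⟩
  have h2 : z ^ (p ^ k) = 1 := by
    have := congrArg (Subtype.val) hk
    simpa using this
  have hnd : ¬ p ∣ (P : Subgroup G).index := P.not_dvd_index
  have hcop : Nat.Coprime ((P : Subgroup G).index) (p ^ k) :=
    Nat.Coprime.pow_right k
      (Nat.Coprime.symm ((Nat.Prime.coprime_iff_not_dvd (Fact.out : p.Prime)).mpr hnd))
  exact Cfsg.Agent.H26.eq_one_of_pow_coprime h1 h2 hcop

example {G : Type*} [Group G] [Finite G] {p : ℕ} [Fact p.Prime]
    (P : Sylow p G) (hP : ∀ a ∈ (P : Subgroup G), ∀ b ∈ (P : Subgroup G), a * b = b * a) {z : G}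
    (hzP : z ∈ (P : Subgroup G)) (hzZ : z ∈ Subgroup.center G) (hzC : z ∈ commutator G) : z = 1 :=
  center_inf_commutator_sylow P hP hzP hzZ hzC

end Cfsg.Agent.Lib.Helper96.Aic
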