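import Cfsg.Agent.Lib.Helper96.AicCoset

set_option autoImplicit false

/-! S2202-TIE: in the TI case, the Zassenhaus structure forces exponent two. -/

namespace Cfsg.Agent.Lib.Helper96.Aic

open Subgroup Cfsg.Agent.H26 Cfsg.Agent.H26.AIC

variable {G : Type*} [Group G] [Finite G]

theorem ti_exp2_of_zass (hH : Hyp G) (hTI : TIHyp G) (P : Sylow 2 G) (hP : Good P)
    (hZ : Cfsg.IsZassenhausGroup G (G ⧸ NT P)) : Exp2 G := by
  classical
  let _ : Fintype (G ⧸ NT P) := Fintype.ofFinite _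
  obtain ⟨g0, hg0⟩ := exists_not_mem_NT hP
  have hab : ((1 : G) : G ⧸ NT P) ≠ (g0 : G ⧸ NT P) := by
    intro h
    exact hg0 ((coset_eq_one_iff (NT P) g0).mp h.symm)
  have hstab_a : ∀ d : G, d ∈ MulAction.stabilizer G ((1 : G) : G ⧸ NT P) ↔ d ∈ NT P := by
    intro d
    rw [MulAction.mem_stabilizer_iff, smul_coset_eq_iff, inv_one, one_mul, mul_one]
  have hstab_b : ∀ d : G, d ∈ MulAction.stabilizer G (g0 : G ⧸ NT P) ↔
      g0⁻¹ * d * g0 ∈ NT P := by
    intro d
    rw [MulAction.mem_stabilizer_iff, smul_coset_eq_iff]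
  have hD : (MulAction.stabilizer G ((1 : G) : G ⧸ NT P) ⊓
      MulAction.stabilizer G (g0 : G ⧸ NT P) : Subgroup G) = Dg (NT P) g0 := by
    ext d
    rw [Subgroup.mem_inf, hstab_a, hstab_b, mem_Dg]
  have hne := good_ne_bot hP
  have hFle : MT P ≤ MulAction.stabilizer G ((1 : G) : G ⧸ NT P) :=
    fun m hm => (hstab_a m).mpr (MT_le_NT P hm)
  have hFfix : ∀ u ∈ MT P, u ≠ 1 → ∀ c : G ⧸ NT P, u • c = c → c = ((1 : G) : G ⧸ NT P) := by
    intro u hu hu1 c hc
    induction c using QuotientGroup.induction_on with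
    | H x =>
      rw [smul_coset_eq_iff] at hc
      by_contra hx
      have hxN : x ∉ NT P := fun h => hx ((coset_eq_one_iff (NT P) x).mpr h)
      exact hu1 (ti_Dg_inter hH hTI P hP hxN ((mem_Dg _ _ _).mpr ⟨MT_le_NT P hu, hc⟩) hu)
  have hFab : ∀ u ∈ MT P, ∀ w ∈ MT P, u * w = w * u := fun u hu w hw => MT_comm hH P hne hu hw
  have hmb : ∀ m ∈ MT P, (((m * g0 : G)) : G ⧸ NT P) ≠ ((1 : G) : G ⧸ NT P) := by
    intro m hm h
    have h1 := (coset_eq_one_iff (NT P) (m * g0)).mp h
    have h2 : g0 = m⁻¹ * (m * g0) := by group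
    apply hg0
    rw [h2]
    exact (NT P).mul_mem ((NT P).inv_mem (MT_le_NT P hm)) h1
  have hFcard : Nat.card (MT P) + 1 = Fintype.card (G ⧸ NT P) := by
    let f : MT P → {c : G ⧸ NT P // c ≠ ((1 : G) : G ⧸ NT P)} :=
      fun m => ⟨(((m : G) * g0 : G) : G ⧸ NT P), hmb m m.2⟩
    have hbij : Function.Bijective f := by
      constructor
      · intro m m' hmm
        have h1 : ((((m : G) * g0 : G)) : G ⧸ NT P) = ((((m' : G) * g0 : G)) : G ⧸ NT P) :=
          congrArg Subtype.val hmm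
        rw [coset_eq_iff] at h1
        have hd : (m : G)⁻¹ * (m' : G) ∈ MT P := (MT P).mul_mem ((MT P).inv_mem m.2) m'.2
        have h2 : g0⁻¹ * ((m : G)⁻¹ * (m' : G)) * g0 ∈ NT P := by
          have e : g0⁻¹ * ((m : G)⁻¹ * (m' : G)) * g0 = ((m : G) * g0)⁻¹ * ((m' : G) * g0) := by
            group
          rw [e]; exact h1
        have h3 := ti_Dg_inter hH hTI P hP hg0 ((mem_Dg _ _ _).mpr ⟨MT_le_NT P hd, h2⟩) hd
        apply Subtype.ext
        exact inv_mul_eq_one.mp h3
      · rintro ⟨c, hc⟩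
        induction c using QuotientGroup.induction_on with
        | H x =>
          have hxN : x ∉ NT P := fun h => hc ((coset_eq_one_iff (NT P) x).mpr h)
          obtain ⟨m, hm, hmx⟩ := ti_trans hH hTI P hP hg0 hxN
          refine ⟨⟨m, hm⟩, ?_⟩
          apply Subtype.ext
          exact (coset_eq_iff (NT P) _ _).mpr hmx
    have h1 := Nat.card_eq_of_bijective f hbij
    have h2 := card_ne_add_one (G ⧸ NT P) ((1 : G) : G ⧸ NT P)
    rw [← Nat.card_eq_fintype_card, ← h2, h1]
  have hodd : Odd (Nat.card (MulAction.stabilizer G ((1 : G) : G ⧸ NT P) ⊓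
      MulAction.stabilizer G (g0 : G ⧸ NT P) : Subgroup G)) := by
    rw [hD]; exact Dg_odd hH P hP hg0
  have hMpos : 0 < Nat.card (MT P) := Nat.card_pos
  -- all nonidentity elements of `MT P` are involutions
  have hinvol : ∀ m ∈ MT P, m * m = 1 := by
    rcases Cfsg.Agent.H19.zass_odd_dichotomy hZ hab hodd (MT P) hFle hFcard hFfix hFab with
      h | ⟨h, -⟩
    · rw [hD, ti_Dg_card hH hTI P hP hg0] at h
      let ι : {s : G // orderOf s = 2 ∧ s ∈ (P : Subgroup G)} → {m : MT P // m ≠ 1} :=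
        fun s => ⟨⟨s.1, T_le_MT hH P s.2.2⟩, by
          intro h1
          have h2 : (s.1 : G) = 1 := congrArg Subtype.val h1
          have h3 := s.2.1
          rw [h2, orderOf_one] at h3
          exact absurd h3 (by decide)⟩
      have hιinj : Function.Injective ι := by
        intro s s' hss
        apply Subtype.ext
        have := congrArg (fun m : {m : MT P // m ≠ 1} => ((m : MT P) : G)) hss
        exact this
      have hcard : Nat.card {s : G // orderOf s = 2 ∧ s ∈ (P : Subgroup G)} =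
          Nat.card {m : MT P // m ≠ 1} := by
        have h2 := card_ne_add_one (MT P) 1
        omega
      have hιbij : Function.Bijective ι := (Nat.bijective_iff_injective_and_card ι).mpr ⟨hιinj, hcard⟩
      intro m hm
      by_cases hm1 : m = 1
      · rw [hm1, one_mul]
      · obtain ⟨s, hs⟩ := hιbij.2 ⟨⟨m, hm⟩, fun h => hm1 (congrArg Subtype.val h)⟩
        have hsm : s.1 = m := congrArg (fun m : {m : MT P // m ≠ 1} => ((m : MT P) : G)) hs
        have h2 := s.2.1
        rw [hsm] at h2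
        have := pow_orderOf_eq_one m
        rw [h2, pow_two] at this
        exact this
    · exfalso
      rw [hD] at h
      obtain ⟨u, hu, huP⟩ := exists_inv_mem hne
      have huM : u ∈ MT P := T_le_MT hH P huP
      have h1 : orderOf (⟨u, huM⟩ : MT P) = 2 := by
        rw [← Subgroup.orderOf_coe]; exact hu
      have h2 : 2 ∣ Nat.card (MT P) := by
        rw [← h1]; exact orderOf_dvd_natCard _
      obtain ⟨k, hk⟩ := h2
      omega
  intro t ht c hc
  obtain ⟨R, htR⟩ := exists_syl_of_inv ht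
  have hcR : c ∈ MT R := (mem_MT_iff hH R ht htR c).mpr hc
  obtain ⟨g, rfl⟩ := exists_conj_syl P R
  have h1 := hinvol _ ((mem_MT_smul g P c).mp hcR)
  have h2 : c * c = g * ((g⁻¹ * c * g) * (g⁻¹ * c * g)) * g⁻¹ := by group
  rw [h2, h1]
  group

example (hH : Hyp G) (hTI : TIHyp G) (P : Sylow 2 G) (hP : Good P)
    (hZ : Cfsg.IsZassenhausGroup G (G ⧸ NT P)) : Exp2 G :=
  ti_exp2_of_zass hH hTI P hP hZ

end Cfsg.Agent.Lib.Helper96.Aic
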