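import Cfsg.Agent.Lib.Helper96.AicCoset

set_option autoImplicit false

/-! S2202-ZASS: in the TI case, `G` is a Zassenhaus group on the cosets of `NT P`. -/

namespace Cfsg.Agent.Lib.Helper96.Aic

open Subgroup Cfsg.Agent.H26 Cfsg.Agent.H26.AIC

variable {G : Type*} [Group G] [Finite G]

theorem ti_zass (hH : Hyp G) (hTI : TIHyp G) (hNO : NoOdd G) (P : Sylow 2 G) (hP : Good P) :
    Cfsg.IsZassenhausGroup G (G ⧸ NT P) := by
  classical
  obtain ⟨g0, hg0⟩ := exists_not_mem_NT hP
  have hab : ((1 : G) : G ⧸ NT P) ≠ (g0 : G ⧸ NT P) := by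
    intro h
    exact hg0 ((coset_eq_one_iff (NT P) g0).mp h.symm)
  refine ⟨?_, ?_, ?_, ?_, ?_⟩
  · -- faithful
    constructor
    intro g1 g2 h
    have hcore : g2⁻¹ * g1 ∈ (NT P).normalCore := by
      show ∀ b : G, b * (g2⁻¹ * g1) * b⁻¹ ∈ NT P
      intro x
      have h1 := h ((x⁻¹ : G) : G ⧸ NT P)
      have h2 : (g2⁻¹ * g1) • ((x⁻¹ : G) : G ⧸ NT P) = ((x⁻¹ : G) : G ⧸ NT P) := by
        rw [mul_smul, h1, ← mul_smul, inv_mul_cancel, one_smul]
      have h3 := (smul_coset_eq_iff (NT P) _ _).mp h2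
      rw [inv_inv] at h3
      exact h3
    have hle : (NT P).normalCore ≤ Dg (NT P) g0 := by
      intro d hd
      rw [mem_Dg]
      refine ⟨Subgroup.normalCore_le _ hd, ?_⟩
      have h1 : g0⁻¹ * d * g0⁻¹⁻¹ ∈ NT P := hd g0⁻¹
      rw [inv_inv] at h1
      exact h1
    have hodd : Odd (Nat.card (NT P).normalCore) :=
      Odd.of_dvd_nat (Dg_odd hH P hP hg0) (Subgroup.card_dvd_of_le hle)
    have hbot := hNO _ (Subgroup.normalCore_normal _) hodd
    rw [hbot, Subgroup.mem_bot] at hcore
    exact (inv_mul_eq_one.mp hcore).symm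
  · -- doubly transitive
    rw [MulAction.is_two_pretransitive_iff]
    have key : ∀ x y : G ⧸ NT P, x ≠ y →
        ∃ g : G, g • ((1 : G) : G ⧸ NT P) = x ∧ g • (g0 : G ⧸ NT P) = y := by
      intro x y hxy
      induction x using QuotientGroup.induction_on with
      | H u =>
        induction y using QuotientGroup.induction_on with
        | H w =>
          have huw : u⁻¹ * w ∉ NT P := fun h => hxy ((coset_eq_iff _ _ _).mpr h)
          obtain ⟨m, hm, hmx⟩ := ti_trans hH hTI P hP hg0 huw
          refine ⟨u * m, ?_, ?_⟩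
          · rw [MulAction.Quotient.smul_coe, smul_eq_mul, mul_one, coset_eq_iff]
            have e : (u * m)⁻¹ * u = m⁻¹ := by group
            rw [e]; exact (NT P).inv_mem (MT_le_NT P hm)
          · rw [MulAction.Quotient.smul_coe, smul_eq_mul, coset_eq_iff]
            have e : (u * m * g0)⁻¹ * w = (m * g0)⁻¹ * (u⁻¹ * w) := by group
            rw [e]; exact hmx
    intro x y x' y' hxy hxy'
    obtain ⟨g1, h1a, h1b⟩ := key x y hxy
    obtain ⟨g2, h2a, h2b⟩ := key x' y' hxy'
    refine ⟨g2 * g1⁻¹, ?_, ?_⟩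
    · rw [← h1a, ← mul_smul, inv_mul_cancel_right, h2a]
    · rw [← h1b, ← mul_smul, inv_mul_cancel_right, h2b]
  · -- no nonidentity element fixes three points
    intro g a' b' c' hab' hbc' hac' ha hb hc
    induction a' using QuotientGroup.induction_on with
    | H u =>
      induction b' using QuotientGroup.induction_on with
      | H w =>
        induction c' using QuotientGroup.induction_on with
        | H z =>
          rw [smul_coset_eq_iff] at ha hb hc
          have hx : u⁻¹ * w ∉ NT P := fun h => hab' ((coset_eq_iff _ _ _).mpr h)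
          have hy : u⁻¹ * z ∉ NT P := fun h => hac' ((coset_eq_iff _ _ _).mpr h)
          have hxy : (u⁻¹ * w)⁻¹ * (u⁻¹ * z) ∉ NT P := by
            intro h
            apply hbc'
            rw [coset_eq_iff]
            have e : w⁻¹ * z = (u⁻¹ * w)⁻¹ * (u⁻¹ * z) := by group
            rw [e]; exact h
          by_contra hg1
          have hd1 : u⁻¹ * g * u ≠ 1 := by
            intro h
            apply hg1
            have e : g = u * (u⁻¹ * g * u) * u⁻¹ := by group
            rw [e, h]; group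
          have hd : u⁻¹ * g * u ∈ Dg (NT P) (u⁻¹ * w) := by
            rw [mem_Dg]
            refine ⟨ha, ?_⟩
            have e : (u⁻¹ * w)⁻¹ * (u⁻¹ * g * u) * (u⁻¹ * w) = w⁻¹ * g * w := by group
            rw [e]; exact hb
          have hfix : (u⁻¹ * z)⁻¹ * (u⁻¹ * g * u) * (u⁻¹ * z) ∈ NT P := by
            have e : (u⁻¹ * z)⁻¹ * (u⁻¹ * g * u) * (u⁻¹ * z) = z⁻¹ * g * z := by group
            rw [e]; exact hc
          rcases ti_fix hH hTI P hP hx hd hd1 hfix with h | h
          · exact hy h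
          · exact hxy h
  · -- some nonidentity element fixes two points
    have hcard := ti_Dg_card hH hTI P hP hg0
    obtain ⟨u, v, hu, huP, hv, hvP, huv⟩ := exists_two_inv hH P hP.1
    have hnt : ∃ d ∈ Dg (NT P) g0, d ≠ 1 := by
      by_contra hcon
      push Not at hcon
      have hsub : Subsingleton (Dg (NT P) g0) :=
        ⟨fun x y => Subtype.ext ((hcon x x.2).trans (hcon y y.2).symm)⟩
      have h1 : Nat.card (Dg (NT P) g0) ≤ 1 := Finite.card_le_one_iff_subsingleton.mpr hsub
      rw [hcard] at h1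
      have hsub2 : Subsingleton {s : G // orderOf s = 2 ∧ s ∈ (P : Subgroup G)} :=
        Finite.card_le_one_iff_subsingleton.mp h1
      have h2 : (⟨u, hu, huP⟩ : {s : G // orderOf s = 2 ∧ s ∈ (P : Subgroup G)}) = ⟨v, hv, hvP⟩ :=
        Subsingleton.elim _ _
      exact huv (congrArg Subtype.val h2)
    obtain ⟨d, hd, hd1⟩ := hnt
    rw [mem_Dg] at hd
    refine ⟨d, hd1, ((1 : G) : G ⧸ NT P), (g0 : G ⧸ NT P), hab, ?_, ?_⟩
    · rw [smul_coset_eq_iff, inv_one, one_mul, mul_one]; exact hd.1
    · rw [smul_coset_eq_iff]; exact hd.2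
  · -- no regular normal subgroup
    intro N hN hpre
    by_contra hcon
    push Not at hcon
    have hbij : Function.Bijective (fun n : N => n • ((1 : G) : G ⧸ NT P)) := by
      constructor
      · intro n n' hnn
        have hnn' : n • ((1 : G) : G ⧸ NT P) = n' • ((1 : G) : G ⧸ NT P) := hnn
        have h1 : (n⁻¹ * n') ∈ MulAction.stabilizer N ((1 : G) : G ⧸ NT P) := by
          rw [MulAction.mem_stabilizer_iff, mul_smul, ← hnn', ← mul_smul, inv_mul_cancel, one_smul]
        have h2 : n⁻¹ * n' ∈ (⊥ : Subgroup N) := (hcon _).le h1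
        rw [Subgroup.mem_bot] at h2
        exact inv_mul_eq_one.mp h2
      · intro c
        exact hpre.exists_smul_eq _ c
    have hcard : Nat.card N = Nat.card (G ⧸ NT P) := Nat.card_eq_of_bijective _ hbij
    have hidx : ¬ 2 ∣ (NT P).index := by
      have : Fact (Nat.Prime 2) := ⟨Nat.prime_two⟩
      intro h
      exact P.not_dvd_index (dvd_trans h (Subgroup.index_dvd_of_le Subgroup.le_normalizer))
    have hodd : Odd (Nat.card N) := by
      rw [hcard]
      exact Nat.odd_iff.mpr (Nat.two_dvd_ne_zero.mp hidx)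
    have hbot := hNO N hN hodd
    have h1 : Nat.card N = 1 := by rw [hbot]; exact Subgroup.card_bot
    rw [hcard] at h1
    have hsub : Subsingleton (G ⧸ NT P) := (Nat.card_eq_one_iff_unique.mp h1).1
    exact hab (Subsingleton.elim _ _)

example (hH : Hyp G) (hTI : TIHyp G) (hNO : NoOdd G) (P : Sylow 2 G) (hP : Good P) :
    Cfsg.IsZassenhausGroup G (G ⧸ NT P) :=
  ti_zass hH hTI hNO P hP

end Cfsg.Agent.Lib.Helper96.Aic
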