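import Cfsg.Agent.Lib.Helper96.Frob4
import Cfsg.Agent.S0016

set_option autoImplicit false

namespace Cfsg.Agent.Lib.Helper96

open MulAction Pointwise

/-- Sylow subgroups of a group acting fixed-point-freely are cyclic or generalized quaternion. -/
theorem fpf_sylow_cyclic_or_quaternion {G : Type*} [Group G] [Finite G] (h41 : S41 G)
    (K H : Subgroup G) [K.Normal] (hK : K ≠ ⊥)
    (hfpf : ∀ h ∈ H, h ≠ 1 → K ⊓ Subgroup.centralizer {h} = ⊥)
    (p : ℕ) [Fact p.Prime] (P : Sylow p H) :
    IsCyclic P ∨ ∃ n : ℕ, Nonempty (P ≃* QuaternionGroup (2 ^ n)) := by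
  classical
  have hPg : IsPGroup p (P : Subgroup H) := P.2
  let f : (P : Subgroup H) →* G := H.subtype.comp (P : Subgroup H).subtype
  have hf : Function.Injective f := by
    intro a b hab
    exact Subtype.ext (Subtype.ext hab)
  have hfH : ∀ a : (P : Subgroup H), f a ∈ H := fun a => a.1.2
  have huniq : ∀ X Y : Subgroup (P : Subgroup H), Nat.card X = p → Nat.card Y = p → X = Y := by
    intro X Y hX hY
    have hp : p.Prime := Fact.out
    -- a central element of order p
    have : Nontrivial (P : Subgroup H) := by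
      have h1 : 1 < Nat.card X := by rw [hX]; exact hp.one_lt
      have h2 : Nat.card X ≤ Nat.card (P : Subgroup H) := Subgroup.card_le_card_group X
      exact Finite.one_lt_card_iff_nontrivial.mp (lt_of_lt_of_le h1 h2)
    have := hPg.center_nontrivial
    have hcp : IsPGroup p (Subgroup.center (P : Subgroup H)) := hPg.to_subgroup _
    obtain ⟨k, hk0, hk⟩ := (IsPGroup.nontrivial_iff_card hcp).mp inferInstance
    obtain ⟨z, hz⟩ := exists_prime_orderOf_dvd_card' (G := Subgroup.center (P : Subgroup H)) p
      (by rw [hk]; exact dvd_pow_self p hk0.ne')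
    have hz' : orderOf (z : (P : Subgroup H)) = p := by rw [Subgroup.orderOf_coe]; exact hz
    have key : ∀ X : Subgroup (P : Subgroup H), Nat.card X = p →
        X = Subgroup.zpowers (z : (P : Subgroup H)) := by
      intro X hX
      have h1 : 1 < Nat.card X := by rw [hX]; exact hp.one_lt
      have : Nontrivial X := Finite.one_lt_card_iff_nontrivial.mp h1
      obtain ⟨x, hx⟩ := exists_ne (1 : X)
      have hxo : orderOf (x : (P : Subgroup H)) = p := by
        rw [Subgroup.orderOf_coe]
        have h2 : orderOf x ∣ p := by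
          have h0 := orderOf_dvd_natCard x
          rw [hX] at h0; exact h0
        rcases (Nat.dvd_prime hp).mp h2 with h3 | h3
        · exact absurd (orderOf_eq_one_iff.mp h3) hx
        · exact h3
      -- the abelian subgroup generated by the images
      have hcomm0 : f x * f z = f z * f x := by
        rw [← map_mul, ← map_mul]
        exact congrArg f (Subgroup.mem_center_iff.mp z.2 (x : (P : Subgroup H)))
      have hk2 : ∀ a ∈ ({f x, f z} : Set G), ∀ b ∈ ({f x, f z} : Set G), a * b = b * a := by
        intro a ha b hb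
        rcases ha with rfl | rfl <;> rcases hb with rfl | rfl
        · rfl
        · exact hcomm0
        · exact hcomm0.symm
        · rfl
      have hcomm : ∀ a ∈ Subgroup.closure ({f x, f z} : Set G),
          ∀ b ∈ Subgroup.closure ({f x, f z} : Set G), a * b = b * a := by
        intro a ha b hb
        have h2 := (Subgroup.isMulCommutative_closure hk2).is_comm.comm ⟨a, ha⟩ ⟨b, hb⟩
        exact congrArg Subtype.val h2
      have hBH : Subgroup.closure ({f x, f z} : Set G) ≤ H := by
        rw [Subgroup.closure_le]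
        intro a ha
        rcases ha with rfl | rfl
        · exact hfH _
        · exact hfH _
      have := fpf_isCyclic_of_comm h41 K H hK hfpf _ hBH hcomm
      have hmem := mem_zpowers_of_orderOf_eq (Subgroup.closure ({f x, f z} : Set G))
        (a := f x) (b := f z) (Subgroup.subset_closure (by simp))
        (Subgroup.subset_closure (by simp))
        (by rw [orderOf_injective f hf, orderOf_injective f hf, hxo, hz'])
      obtain ⟨j, hj⟩ := Subgroup.mem_zpowers_iff.mp hmem
      have hzX : (z : (P : Subgroup H)) ∈ X := by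
        have h3 : f ((x : (P : Subgroup H)) ^ j) = f z := by rw [map_zpow]; exact hj
        rw [← hf h3]
        exact X.zpow_mem x.2 j
      symm
      apply Subgroup.eq_of_le_of_card_ge
      · rw [Subgroup.zpowers_le]; exact hzX
      · rw [hX, Nat.card_zpowers, hz']
    rw [key X hX, key Y hY]
  rcases Cfsg.Agent.S0016.result p hPg huniq with h | ⟨_, h⟩
  · left; exact h
  · right; exact h

/-- Two elements of prime order of a group acting fixed-point-freely, one normalizing the cyclic
group generated by the other and generating a disjoint cyclic group, commute. -/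
theorem fpf_commute_of_prime_orders {G : Type*} [Group G] [Finite G] (h41 : S41 G)
    (K H : Subgroup G) [K.Normal] (hK : K ≠ ⊥)
    (hfpf : ∀ h ∈ H, h ≠ 1 → K ⊓ Subgroup.centralizer {h} = ⊥)
    {t z : G} (ht : t ∈ H) (hz : z ∈ H) {p q : ℕ} (hp : p.Prime) (hq : q.Prime)
    (hto : orderOf t = q) (hzo : orderOf z = p)
    (hnorm : z * t * z⁻¹ ∈ Subgroup.zpowers t)
    (hdisj : Subgroup.zpowers t ⊓ Subgroup.zpowers z = ⊥) : t * z = z * t := by
  classical
  set N : Subgroup G := Subgroup.normalizer (Subgroup.zpowers t : Set G) with hN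
  have hzN : z ∈ N := by
    apply Subgroup.mem_normalizer_fintype
    intro n hn
    obtain ⟨j, rfl⟩ := Subgroup.mem_zpowers_iff.mp hn
    have h1 : z * t ^ j * z⁻¹ = (z * t * z⁻¹) ^ j := by
      rw [← MulAut.conj_apply, ← MulAut.conj_apply, map_zpow]
    change z * t ^ j * z⁻¹ ∈ Subgroup.zpowers t
    rw [h1]
    exact Subgroup.zpow_mem _ hnorm j
  have hWN : Subgroup.zpowers t ≤ N := Subgroup.le_normalizer
  have hZN : Subgroup.zpowers z ≤ N := by rw [Subgroup.zpowers_le]; exact hzN
  set W' : Subgroup N := (Subgroup.zpowers t).subgroupOf N with hW'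
  set Z' : Subgroup N := (Subgroup.zpowers z).subgroupOf N with hZ'
  haveI hW'n : W'.Normal := Subgroup.normal_in_normalizer
  have hcW : Nat.card W' = q := by
    rw [hW', Nat.card_congr (Subgroup.subgroupOfEquivOfLe hWN).toEquiv, Nat.card_zpowers, hto]
  have hcZ : Nat.card Z' = p := by
    rw [hZ', Nat.card_congr (Subgroup.subgroupOfEquivOfLe hZN).toEquiv, Nat.card_zpowers, hzo]
  have hinf : W' ⊓ Z' = ⊥ := by
    rw [eq_bot_iff]
    intro x hx
    rw [Subgroup.mem_inf, hW', hZ', Subgroup.mem_subgroupOf, Subgroup.mem_subgroupOf] at hx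
    have h1 : (x : G) ∈ Subgroup.zpowers t ⊓ Subgroup.zpowers z := Subgroup.mem_inf.mpr hx
    rw [hdisj, Subgroup.mem_bot] at h1
    rw [Subgroup.mem_bot]
    exact Subtype.ext h1
  have hrel : W'.relIndex (Z' ⊔ W') = p := by
    rw [Subgroup.relIndex_sup_right, ← Subgroup.inf_relIndex_right, hinf,
      Subgroup.relIndex_bot_left, hcZ]
  have hcB' : Nat.card (Z' ⊔ W' : Subgroup N) = q * p := by
    have h1 := (W'.subgroupOf (Z' ⊔ W')).card_mul_index
    have h2 : Nat.card (W'.subgroupOf (Z' ⊔ W')) = q := by
      rw [Nat.card_congr (Subgroup.subgroupOfEquivOfLe (le_sup_right : W' ≤ Z' ⊔ W')).toEquiv, hcW]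
    have h3 : (W'.subgroupOf (Z' ⊔ W')).index = p := hrel
    rw [h2, h3] at h1
    exact h1.symm
  set B : Subgroup G := (Z' ⊔ W').map N.subtype with hB
  have hcB : Nat.card B = q * p := by
    rw [hB, Subgroup.card_map_of_injective N.subtype_injective, hcB']
  have hBN : B ≤ N := Subgroup.map_subtype_le _
  have hBH : B ≤ H := by
    rw [hB, Subgroup.map_sup, hZ', hW', Subgroup.subgroupOf_map_subtype,
      Subgroup.subgroupOf_map_subtype]
    refine sup_le (inf_le_left.trans ?_) (inf_le_left.trans ?_)
    · rw [Subgroup.zpowers_le]; exact hz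
    · rw [Subgroup.zpowers_le]; exact ht
  have htB : t ∈ B := by
    rw [hB, Subgroup.mem_map]
    refine ⟨⟨t, hWN (Subgroup.mem_zpowers t)⟩, ?_, rfl⟩
    apply Subgroup.mem_sup_right
    rw [hW', Subgroup.mem_subgroupOf]
    exact Subgroup.mem_zpowers t
  have hzB : z ∈ B := by
    rw [hB, Subgroup.mem_map]
    refine ⟨⟨z, hzN⟩, ?_, rfl⟩
    apply Subgroup.mem_sup_left
    rw [hZ', Subgroup.mem_subgroupOf]
    exact Subgroup.mem_zpowers z
  have ht1 : t ≠ 1 := by
    intro h
    rw [h, orderOf_one] at hto
    exact hq.one_lt.ne hto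
  have hcyc : IsCyclic B := by
    refine fpf_isCyclic_core h41 K H hK hfpf B hBH t htB ht1 ?_ (Or.inr ⟨q, p, hq, hp, hcB⟩)
    intro b hb
    exact (Subgroup.mem_set_normalizer_iff''.mp (hBN hb) t).mp (Subgroup.mem_zpowers t)
  have h5 := (IsCyclic.isMulCommutative (α := B)).is_comm.comm ⟨t, htB⟩ ⟨z, hzB⟩
  exact congrArg Subtype.val h5

/-- Conjugation by an element with trivial centralizer in `K` is a fixed-point-free automorphism
of `K`. -/
theorem fpf_conjNormal {G : Type*} [Group G] (K : Subgroup G) [K.Normal] (y : G)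
    (hy : K ⊓ Subgroup.centralizer {y} = ⊥) :
    MonoidHom.FixedPointFree (((MulAut.conjNormal y : MulAut K) : K ≃* K) : K →* K) := by
  intro k hk
  have h1 : y * (k : G) * y⁻¹ = k := by
    have h0 := congrArg Subtype.val hk
    rw [← MulAut.conjNormal_apply y k]; exact h0
  have h2 : (k : G) ∈ K ⊓ Subgroup.centralizer {y} := by
    rw [Subgroup.mem_inf]
    refine ⟨k.2, ?_⟩
    rw [Subgroup.mem_centralizer_iff]
    intro z hz
    rw [Set.mem_singleton_iff] at hz
    subst hz
    calc z * (k : G) = (z * (k : G) * z⁻¹) * z := by group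
      _ = k * z := by rw [h1]
  rw [hy, Subgroup.mem_bot] at h2
  exact Subtype.ext h2

/-- A group acting fixed-point-freely on a nontrivial finite group has at most one involution. -/
theorem fpf_involution_unique {G : Type*} [Group G] [Finite G] (K H : Subgroup G) [K.Normal]
    (hK : K ≠ ⊥) (hfpf : ∀ h ∈ H, h ≠ 1 → K ⊓ Subgroup.centralizer {h} = ⊥)
    {t t' : G} (ht : t ∈ H) (ht' : t' ∈ H) (ht1 : t ≠ 1) (ht'1 : t' ≠ 1)
    (ht2 : t * t = 1) (ht'2 : t' * t' = 1) : t = t' := by
  have hinv : ∀ s : G, s ∈ H → s ≠ 1 → s * s = 1 → ∀ k ∈ K, s * k * s⁻¹ = k⁻¹ := by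
    intro s hs hs1 hs2 k hk
    have hφ := fpf_conjNormal K s (hfpf s hs hs1)
    have h2 : Function.Involutive (((MulAut.conjNormal s : MulAut K) : K ≃* K) : K →* K) := by
      intro x
      apply Subtype.ext
      have h3 : ((MulAut.conjNormal s : MulAut K) ((MulAut.conjNormal s : MulAut K) x) : G)
          = s * (s * (x : G) * s⁻¹) * s⁻¹ := by
        rw [MulAut.conjNormal_apply, MulAut.conjNormal_apply]
      have h4 : s * (s * (x : G) * s⁻¹) * s⁻¹ = (s * s) * x * (s * s)⁻¹ := by group
      exact h3.trans (by rw [h4, hs2]; group)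
    have h5 := congrFun (hφ.coe_eq_inv_of_involutive h2) ⟨k, hk⟩
    have h6 := congrArg Subtype.val h5
    rw [← MulAut.conjNormal_apply s ⟨k, hk⟩]
    exact h6
  by_contra hne
  have hti : t'⁻¹ = t' := inv_eq_of_mul_eq_one_left ht'2
  have htt : t * t' ≠ 1 := by
    intro h
    apply hne
    rw [eq_inv_of_mul_eq_one_left h, hti]
  have hcent : K ≤ Subgroup.centralizer {t * t'} := by
    intro k hk
    rw [Subgroup.mem_centralizer_iff]
    intro x hx
    rw [Set.mem_singleton_iff] at hx
    subst hx
    have h1 := hinv t' ht' ht'1 ht'2 k hk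
    have h2 := hinv t ht ht1 ht2 k⁻¹ (K.inv_mem hk)
    calc t * t' * k = t * (t' * k * t'⁻¹) * t' := by group
      _ = t * k⁻¹ * t' := by rw [h1]
      _ = (t * k⁻¹ * t⁻¹) * (t * t') := by group
      _ = k⁻¹⁻¹ * (t * t') := by rw [h2]
      _ = k * (t * t') := by rw [inv_inv]
  have h3 := hfpf (t * t') (H.mul_mem ht ht') htt
  apply hK
  rw [eq_bot_iff, ← h3]
  exact le_inf le_rfl hcent

/-- A nontrivial group acting fixed-point-freely on a nontrivial finite group has nontrivial
centre. -/
theorem fpf_center_ne_bot {G : Type*} [Group G] [Finite G] (h41 : S41 G)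
    (K H : Subgroup G) [K.Normal] (hK : K ≠ ⊥) (hH : H ≠ ⊥)
    (hfpf : ∀ h ∈ H, h ≠ 1 → K ⊓ Subgroup.centralizer {h} = ⊥) :
    Subgroup.center H ≠ ⊥ := by
  classical
  by_cases hinv : ∃ t ∈ H, t ≠ 1 ∧ t * t = 1
  · obtain ⟨t, ht, ht1, ht2⟩ := hinv
    intro hbot
    have hc : (⟨t, ht⟩ : H) ∈ Subgroup.center H := by
      rw [Subgroup.mem_center_iff]
      intro g
      have h1 : (g : G) * t * (g : G)⁻¹ = t := by
        symm
        apply fpf_involution_unique K H hK hfpf ht
          (H.mul_mem (H.mul_mem g.2 ht) (H.inv_mem g.2)) ht1 ?_ ht2 ?_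
        · intro h
          apply ht1
          have h3 : t = (g : G)⁻¹ * ((g : G) * t * (g : G)⁻¹) * g := by group
          rw [h3, h]; group
        · calc (g : G) * t * (g : G)⁻¹ * ((g : G) * t * (g : G)⁻¹)
              = (g : G) * (t * t) * (g : G)⁻¹ := by group
            _ = 1 := by rw [ht2]; group
      apply Subtype.ext
      change (g : G) * t = t * g
      calc (g : G) * t = ((g : G) * t * (g : G)⁻¹) * g := by group
        _ = t * g := by rw [h1]
    rw [hbot, Subgroup.mem_bot] at hc
    exact ht1 (congrArg Subtype.val hc)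
  · push Not at hinv
    have hodd : ¬ 2 ∣ Nat.card H := by
      intro h2
      obtain ⟨t, ht⟩ := exists_prime_orderOf_dvd_card' (G := H) 2 h2
      have h1 : (t : G) ≠ 1 := by
        intro h
        have h3 : t = 1 := Subtype.ext h
        rw [h3, orderOf_one] at ht
        exact absurd ht (by norm_num)
      have h3 : (t : G) * t = 1 := by
        have h4 : t ^ 2 = 1 := by rw [← ht]; exact pow_orderOf_eq_one t
        have h5 := congrArg Subtype.val h4
        rw [sq] at h5
        exact h5
      exact hinv t t.2 h1 h3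
    haveI : IsZGroup H := ⟨fun p hp P => by
      haveI := Fact.mk hp
      rcases fpf_sylow_cyclic_or_quaternion h41 K H hK hfpf p P with h | ⟨n, ⟨e⟩⟩
      · exact h
      · exfalso
        have h1 : Nat.card (P : Subgroup H) = 4 * 2 ^ n := by
          rw [Nat.card_congr e.toEquiv, Nat.card_eq_fintype_card, QuaternionGroup.card]
        apply hodd
        have h2 : Nat.card (P : Subgroup H) ∣ Nat.card H := Subgroup.card_subgroup_dvd_card _
        rw [h1] at h2
        exact (Dvd.intro (2 * 2 ^ n) (by ring)).trans h2⟩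
    haveI : Nontrivial H := (Subgroup.nontrivial_iff_ne_bot H).mpr hH
    set D : Subgroup H := commutator H with hD
    haveI hDcyc : IsCyclic D := IsZGroup.isCyclic_commutator H
    have hcop : (Nat.card D).Coprime D.index := IsZGroup.coprime_commutator_index H
    have hDlt : D < ⊤ := IsZGroup.commutator_lt H
    obtain ⟨C, hC⟩ := Subgroup.exists_right_complement'_of_coprime hcop
    have hDC : D ⊓ C = ⊥ := hC.disjoint.eq_bot
    have hCcard : D.index = Nat.card C := hC.symm.index_eq_card
    have hCne : Nat.card C ≠ 1 := by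
      rw [← hCcard]
      intro h
      exact hDlt.ne (Subgroup.index_eq_one.mp h)
    have hp : (Nat.card C).minFac.Prime := Nat.minFac_prime hCne
    set p := (Nat.card C).minFac with hpdef
    haveI := Fact.mk hp
    obtain ⟨z₀, hz₀⟩ := exists_prime_orderOf_dvd_card' (G := C) p (Nat.minFac_dvd _)
    set z : H := (z₀ : H) with hzdef
    have hzC : z ∈ C := z₀.2
    have hzo : orderOf z = p := by rw [hzdef, Subgroup.orderOf_coe]; exact hz₀
    have hCcomm : ∀ a ∈ C, ∀ b ∈ C, a * b = b * a := by
      intro a ha b hb
      have h1 : a * b * a⁻¹ * b⁻¹ ∈ D ⊓ C := by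
        refine Subgroup.mem_inf.mpr
          ⟨?_, C.mul_mem (C.mul_mem (C.mul_mem ha hb) (C.inv_mem ha)) (C.inv_mem hb)⟩
        rw [hD, commutator_def, ← commutatorElement_def]
        exact Subgroup.commutator_mem_commutator (Subgroup.mem_top a) (Subgroup.mem_top b)
      rw [hDC, Subgroup.mem_bot] at h1
      calc a * b = (a * b * a⁻¹ * b⁻¹) * (b * a) := by group
        _ = b * a := by rw [h1, one_mul]
    have hDcomm : ∀ a ∈ D, ∀ b ∈ D, a * b = b * a := fun a ha b hb =>
      congrArg Subtype.val ((IsCyclic.isMulCommutative (α := D)).is_comm.comm ⟨a, ha⟩ ⟨b, hb⟩)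
    have hDn : D.Normal := by rw [hD]; infer_instance
    have hzD : ∀ n : ℕ, ∀ x : H, x ∈ D → orderOf x = n → z * x = x * z := by
      intro n
      induction n using Nat.strong_induction_on with
      | _ n ih =>
        intro x hx hxn
        by_cases hn1 : n = 1
        · have h1 : x = 1 := orderOf_eq_one_iff.mp (hxn.trans hn1)
          rw [h1, mul_one, one_mul]
        · have hqp : n.minFac.Prime := Nat.minFac_prime hn1
          set q := n.minFac with hq
          have hqn : q ∣ n := Nat.minFac_dvd n
          have hn0 : 0 < n := hxn ▸ orderOf_pos x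
          have hxq : z * x ^ q = x ^ q * z := by
            apply ih (n / q) (Nat.div_lt_self hn0 hqp.one_lt) (x ^ q) (D.pow_mem hx q)
            rw [orderOf_pow' x hqp.ne_zero, hxn, Nat.gcd_eq_right hqn]
          by_contra hcon
          set t : H := z * x * z⁻¹ * x⁻¹ with ht
          have ht1 : t ≠ 1 := by
            intro h
            apply hcon
            calc z * x = (z * x * z⁻¹ * x⁻¹) * (x * z) := by group
              _ = x * z := by rw [← ht, h, one_mul]
          have hzxz : z * x * z⁻¹ ∈ D := hDn.conj_mem x hx z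
          have htD : t ∈ D := D.mul_mem hzxz (D.inv_mem hx)
          have htq : t ^ q = 1 := by
            have hcomm : Commute (z * x * z⁻¹) x⁻¹ := hDcomm _ hzxz _ (D.inv_mem hx)
            rw [ht, hcomm.mul_pow, conj_pow, hxq, mul_inv_cancel_right, inv_pow, mul_inv_cancel]
          haveI := Fact.mk hqp
          have hto : orderOf t = q := orderOf_eq_prime htq ht1
          have hztz : z * t * z⁻¹ ∈ Subgroup.zpowers t := by
            apply mem_zpowers_of_orderOf_eq D htD (hDn.conj_mem t htD z)
            rw [← MulAut.conj_apply, MulEquiv.orderOf_eq]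
          have hPQ : (t : G) * (z : G) = (z : G) * (t : G) := by
            apply fpf_commute_of_prime_orders h41 K H hK hfpf t.2 z.2 hp hqp
            · rw [Subgroup.orderOf_coe]; exact hto
            · rw [Subgroup.orderOf_coe]; exact hzo
            · obtain ⟨j, hj⟩ := Subgroup.mem_zpowers_iff.mp hztz
              rw [Subgroup.mem_zpowers_iff]
              refine ⟨j, ?_⟩
              have h2 := congrArg Subtype.val hj
              simpa using h2
            · rw [eq_bot_iff]
              intro g hg
              rw [Subgroup.mem_inf] at hg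
              obtain ⟨i, hi⟩ := Subgroup.mem_zpowers_iff.mp hg.1
              obtain ⟨j, hj⟩ := Subgroup.mem_zpowers_iff.mp hg.2
              have h1 : t ^ i = z ^ j := by
                apply Subtype.ext
                rw [Subgroup.coe_zpow, Subgroup.coe_zpow, hi, hj]
              have h2 : t ^ i ∈ D ⊓ C :=
                Subgroup.mem_inf.mpr ⟨D.zpow_mem htD i, h1 ▸ C.zpow_mem hzC j⟩
              rw [hDC, Subgroup.mem_bot] at h2
              rw [Subgroup.mem_bot, ← hi, ← Subgroup.coe_zpow, h2]
              rfl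
          have htz : t * z = z * t := Subtype.ext hPQ
          have hzt : ∀ i : ℕ, z * t ^ i * z⁻¹ = t ^ i := by
            intro i
            have h1 : Commute z (t ^ i) := (Commute.pow_right htz.symm i)
            rw [h1.eq, mul_inv_cancel_right]
          have hzx : z * x * z⁻¹ = t * x := by rw [ht]; group
          have hiter : ∀ i : ℕ, z ^ i * x * (z ^ i)⁻¹ = t ^ i * x := by
            intro i
            induction i with
            | zero => simp
            | succ i ihi =>
              calc z ^ (i + 1) * x * (z ^ (i + 1))⁻¹ = z * (z ^ i * x * (z ^ i)⁻¹) * z⁻¹ := by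
                    rw [pow_succ']; group
                _ = z * (t ^ i * x) * z⁻¹ := by rw [ihi]
                _ = (z * t ^ i * z⁻¹) * (z * x * z⁻¹) := by group
                _ = t ^ i * (t * x) := by rw [hzt i, hzx]
                _ = t ^ (i + 1) * x := by rw [pow_succ]; group
          have h3 := hiter p
          have hzp : z ^ p = 1 := by rw [← hzo]; exact pow_orderOf_eq_one z
          rw [hzp, one_mul, inv_one, mul_one] at h3
          have h4 : t ^ p = 1 := by
            calc t ^ p = (t ^ p * x) * x⁻¹ := by group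
              _ = 1 := by rw [← h3, mul_inv_cancel]
          have h5 : q ∣ p := hto ▸ orderOf_dvd_of_pow_eq_one h4
          have h6 : q = p := (Nat.prime_dvd_prime_iff_eq hqp hp).mp h5
          have h7 : q ∣ Nat.card D := by
            have h8 := orderOf_dvd_natCard (⟨t, htD⟩ : D)
            rw [Subgroup.orderOf_mk, hto] at h8
            exact h8
          have h8 : p ∣ D.index := by rw [hCcard]; exact Nat.minFac_dvd _
          have h9 : p ∣ Nat.gcd (Nat.card D) D.index := Nat.dvd_gcd (h6 ▸ h7) h8
          rw [hcop] at h9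
          exact hp.one_lt.ne' (Nat.dvd_one.mp h9)
    intro hbot
    have hzc : z ∈ Subgroup.center H := by
      rw [Subgroup.mem_center_iff]
      intro g
      obtain ⟨⟨d, c⟩, hdc⟩ := hC.2 g
      simp only at hdc
      rw [← hdc]
      have h1 := hzD _ d d.2 rfl
      have h2 := hCcomm z hzC c c.2
      calc (d : H) * c * z = d * (c * z) := by group
        _ = d * (z * c) := by rw [h2]
        _ = (d * z) * c := by group
        _ = (z * d) * c := by rw [h1]
        _ = z * (d * c) := by group
    rw [hbot, Subgroup.mem_bot] at hzc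
    rw [hzc, orderOf_one] at hzo
    exact hp.one_lt.ne hzo

end Cfsg.Agent.Lib.Helper96
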