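import Mathlib
import Cfsg.Prelude.Def_Characters
import Cfsg.Agent.H82.Irr
import Cfsg.Agent.H19.ExtLin
import Cfsg.Agent.H4.Frob
import Cfsg.Agent.H83.MinNormal
import Cfsg.Agent.Lib.Clifford
import Cfsg.Agent.S4448
import Cfsg.Agent.S4449

/-!
# Invariant characters over invariant linear characters (helper96)

`linear_goUp`: `N ≤ G` normal in `Γ`, `(|Γ:G|, |G:N|) = 1`, `Γ/G` or `G/N` solvable, and `κ` a
`Γ`-invariant linear character of `N`; then some irreducible character of `G` over `κ` is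
`Γ`-invariant.  The proof twists by an invariant linear character of `G` (obtained from the
transfer) so that the kernel of the remaining linear character has index prime to `|Γ:G|`, and
then passes to the quotient by that kernel, where `G` becomes a normal Hall subgroup and the
coprime-action theorems S4448 / S4449 apply to a complement.
-/

set_option autoImplicit false
set_option linter.style.haveILetI false
set_option linter.deprecated false
open Cfsg
open scoped ComplexConjugate Pointwise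

namespace Cfsg.Agent.Lib.Helper96

universe u v

/-- Pulling back along a surjective homomorphism preserves the inner product. -/
theorem classInner_comp_surj {A : Type u} {B : Type v} [Group A] [Group B] [Fintype A] [Fintype B]
    (f : A →* B) (hf : Function.Surjective f) (F H : B → ℂ) :
    classInner (fun a => F (f a)) (fun a => H (f a)) = classInner F H := by
  classical
  unfold classInner
  have hfib : ∀ b : B, (Finset.univ.filter (fun a : A => f a = b)).card =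
      (Finset.univ.filter (fun a : A => f a = 1)).card := by
    intro b
    exact MonoidHom.card_fiber_eq_of_mem_range f (hf b) (hf 1)
  set c := (Finset.univ.filter (fun a : A => f a = 1)).card with hc
  have hsum : ∀ φ : B → ℂ, ∑ a : A, φ (f a) = (c : ℂ) * ∑ b : B, φ b := by
    intro φ
    rw [Finset.sum_comp φ f, Finset.mul_sum]
    have himg : (Finset.univ : Finset A).image f = Finset.univ := by
      ext b
      simp only [Finset.mem_image, Finset.mem_univ, true_and, iff_true]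
      exact hf b
    rw [himg]
    refine Finset.sum_congr rfl fun b _ => ?_
    rw [hfib b, nsmul_eq_mul]
  have hcard : (Nat.card A : ℂ) = (c : ℂ) * (Nat.card B : ℂ) := by
    have h1 := hsum (fun _ => 1)
    simp only [Finset.sum_const, Finset.card_univ, nsmul_eq_mul, mul_one] at h1
    rw [Nat.card_eq_fintype_card, Nat.card_eq_fintype_card, h1]
  have hc0 : (c : ℂ) ≠ 0 := by
    intro h0
    rw [h0, zero_mul] at hcard
    have : (Nat.card A : ℂ) ≠ 0 := by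
      have : 0 < Nat.card A := Nat.card_pos
      exact_mod_cast this.ne'
    exact this hcard
  have hB0 : (Nat.card B : ℂ) ≠ 0 := by
    have : 0 < Nat.card B := Nat.card_pos
    exact_mod_cast this.ne'
  rw [hsum (fun b => F b * conj (H b)), hcard]
  field_simp

/-- An irreducible character trivial on the kernel of a surjective homomorphism descends. -/
theorem exists_deflate_of_surj {A : Type u} {B : Type v} [Group A] [Group B] [Finite A]
    (f : A →* B) (hf : Function.Surjective f) {χ : A → ℂ} (hχ : IsIrrCharacter A χ)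
    (hker : ∀ a : A, f a = 1 → χ a = χ 1) :
    ∃ χ' : B → ℂ, IsIrrCharacter B χ' ∧ ∀ a : A, χ' (f a) = χ a := by
  obtain ⟨χ'', hχ''⟩ := Cfsg.Agent.H82.exists_deflate f.ker ⟨χ, hχ⟩ (fun x hx => hker x hx)
  let e : A ⧸ f.ker ≃* B := QuotientGroup.quotientKerEquivOfSurjective f hf
  refine ⟨fun b => χ''.1 (e.symm b), Cfsg.Agent.Clifford.isIrrCharacter_comp_equiv e.symm χ''.2, ?_⟩
  intro a
  have h1 : e.symm (f a) = QuotientGroup.mk a := by
    rw [MulEquiv.symm_apply_eq]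
    rfl
  show χ''.1 (e.symm (f a)) = χ a
  rw [h1]
  have h2 := congrArg (fun ψ : IrrCharacter A => ψ.1 a) hχ''
  simpa [Cfsg.Agent.H82.inflate_apply] using h2

/-- Splitting an invariant linear character of `N` as the restriction of an invariant linear
character of `G` times an invariant linear character whose kernel has index prime to `|Γ:G|`. -/
theorem exists_twist {Γ : Type u} [Group Γ] [Finite Γ] (G N : Subgroup Γ) [hG : G.Normal]
    [hN : N.Normal] (hNG : N ≤ G)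
    (hcop : (G.index).Coprime (N.relIndex G)) (κ : N →* ℂˣ)
    (hinv : ∀ (x : Γ) (n : N), κ ⟨x * n * x⁻¹, hN.conj_mem n n.2 x⟩ = κ n) :
    ∃ (ν : G →* ℂˣ) (κ₁ : N →* ℂˣ),
      (∀ n : N, κ n = κ₁ n * ν ⟨n, hNG n.2⟩) ∧
      (∀ (x : Γ) (g : G), ν ⟨x * g * x⁻¹, hG.conj_mem g g.2 x⟩ = ν g) ∧
      (∀ (x : Γ) (n : N), κ₁ ⟨x * n * x⁻¹, hN.conj_mem n n.2 x⟩ = κ₁ n) ∧
      (κ₁.ker.index).Coprime G.index := by
  classical
  haveI hN'n : (N.subgroupOf G).Normal := Subgroup.normal_subgroupOf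
  let e : ↥(N.subgroupOf G) ≃* ↥N := Subgroup.subgroupOfEquivOfLe hNG
  set lam : ↥(N.subgroupOf G) → ℂ := fun n' => ((κ (e n') : ℂˣ) : ℂ) with hlam
  have hlamchar : IsCharacter ↥(N.subgroupOf G) lam :=
    Cfsg.Agent.H4.isCharacter_of_isIrrCharacter (Cfsg.Agent.H82.linChar (κ.comp e.toMonoidHom)).2
  have hlam1 : lam 1 = 1 := by simp [hlam]
  have hlaminv : ∀ (g : G) (n : ↥(N.subgroupOf G)),
      lam ⟨g * n * g⁻¹, hN'n.conj_mem (n : G) n.2 g⟩ = lam n := by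
    intro g n
    have h1 := hinv (g : Γ) (e n)
    show ((κ (e ⟨g * n * g⁻¹, _⟩) : ℂˣ) : ℂ) = ((κ (e n) : ℂˣ) : ℂ)
    rw [← h1]
    rfl
  obtain ⟨μ, hμ⟩ := Cfsg.Agent.H19.exists_hom_pow_index (N.subgroupOf G) lam hlaminv
    (N.subgroupOf G) le_rfl lam hlamchar hlam1 (fun n => rfl)
  set n₀ := (N.subgroupOf G).index with hn₀
  have hn₀' : N.relIndex G = n₀ := rfl
  set μ₀ : ↥G →* ℂˣ := μ.toHomUnits with hμ₀
  have hμ₀N : ∀ n : N, μ₀ ⟨n, hNG n.2⟩ = κ n ^ n₀ := by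
    intro n
    apply Units.ext
    rw [hμ₀, MonoidHom.coe_toHomUnits, Units.val_pow_eq_pow_val]
    have h1 := hμ (e.symm n)
    have h2 : ((e.symm n : ↥(N.subgroupOf G)) : G) = ⟨n, hNG n.2⟩ := by
      apply Subtype.ext
      rfl
    rw [h2] at h1
    rw [h1]
    show ((κ (e (e.symm n)) : ℂˣ) : ℂ) ^ n₀ = _
    rw [MulEquiv.apply_symm_apply]
  set m := G.index with hm
  set M := m ^ Nat.card N with hM
  have hcopM : (n₀ * n₀).Coprime M := by
    have h1 : n₀.Coprime m := hcop.symm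
    exact Nat.Coprime.pow_right _ (Nat.Coprime.mul_left h1 h1)
  obtain ⟨a, b, hab⟩ : ∃ a b : ℤ, ((n₀ : ℤ) * n₀) * a + (M : ℤ) * b = 1 := by
    refine ⟨Nat.gcdA (n₀ * n₀) M, Nat.gcdB (n₀ * n₀) M, ?_⟩
    have h := Nat.gcd_eq_gcd_ab (n₀ * n₀) M
    rw [show (n₀ * n₀).gcd M = 1 from hcopM] at h
    rw [← Nat.cast_mul, ← h]
    simp
  refine ⟨μ₀ ^ ((n₀ : ℤ) * a), (κ ^ M) ^ b, ?_, ?_, ?_, ?_⟩
  · intro n
    rw [MonoidHom.zpow_apply, MonoidHom.zpow_apply, MonoidHom.pow_apply, hμ₀N]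
    rw [← zpow_natCast (κ n) M, ← zpow_mul, ← zpow_natCast (κ n) n₀, ← zpow_mul, ← zpow_add]
    have h1 : (M : ℤ) * b + (n₀ : ℤ) * ((n₀ : ℤ) * a) = 1 := by linarith
    rw [h1, zpow_one]
  · intro x g
    have key : μ₀ ⟨x * g * x⁻¹, hG.conj_mem g g.2 x⟩ ^ n₀ = μ₀ g ^ n₀ := by
      rw [← map_pow, ← map_pow]
      have hmem : g ^ n₀ ∈ N.subgroupOf G := Subgroup.pow_index_mem (N.subgroupOf G) g
      rw [Subgroup.mem_subgroupOf] at hmem
      set y : N := ⟨((g ^ n₀ : G) : Γ), hmem⟩ with hy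
      have h1 : (⟨x * g * x⁻¹, hG.conj_mem g g.2 x⟩ : G) ^ n₀ =
          ⟨((⟨x * y * x⁻¹, hN.conj_mem y y.2 x⟩ : N) : Γ), hNG (hN.conj_mem y y.2 x)⟩ := by
        apply Subtype.ext
        show ((⟨x * g * x⁻¹, hG.conj_mem g g.2 x⟩ : G) ^ n₀ : G).1 = x * ((g ^ n₀ : G) : Γ) * x⁻¹
        rw [Subgroup.coe_pow, Subgroup.coe_pow]
        exact conj_pow
      have h2 : g ^ n₀ = ⟨(y : Γ), hNG y.2⟩ := by
        apply Subtype.ext
        rfl
      rw [h1, h2, hμ₀N, hμ₀N, hinv x y]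
    rw [MonoidHom.zpow_apply, MonoidHom.zpow_apply, zpow_mul, zpow_mul, zpow_natCast, zpow_natCast,
      key]
  · intro x n
    rw [MonoidHom.zpow_apply, MonoidHom.zpow_apply, MonoidHom.pow_apply, MonoidHom.pow_apply,
      hinv x n]
  · apply Nat.Coprime.symm
    apply Nat.coprime_of_dvd
    intro p hp hpm hpi
    haveI : Fact p.Prime := ⟨hp⟩
    have hNcard : Nat.card N ≠ 0 := Nat.card_pos.ne'
    obtain ⟨a', r, hr, hNr⟩ := Nat.exists_eq_pow_mul_and_not_dvd hNcard p hp.ne_one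
    have ha' : a' ≤ Nat.card N := by
      have h1 : a' < p ^ a' := Nat.lt_pow_self hp.one_lt
      have h2 : p ^ a' ≤ Nat.card N := by
        rw [hNr]
        exact Nat.le_mul_of_pos_right _ (Nat.pos_of_ne_zero (fun h0 => hr (h0 ▸ dvd_zero p)))
      omega
    have hdiv : Nat.card N ∣ M * r := by
      rw [hNr]
      apply Nat.mul_dvd_mul _ dvd_rfl
      calc p ^ a' ∣ p ^ Nat.card N := pow_dvd_pow p ha'
        _ ∣ m ^ Nat.card N := pow_dvd_pow_of_dvd hpm _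
    have hpow : ∀ y : N, ((κ ^ M) ^ b) y ^ r = 1 := by
      intro y
      rw [MonoidHom.zpow_apply, MonoidHom.pow_apply, ← zpow_natCast, ← zpow_mul, mul_comm,
        zpow_mul, zpow_natCast, ← pow_mul]
      obtain ⟨c, hc⟩ := hdiv
      have h1 : κ y ^ (M * r) = 1 := by
        rw [hc, pow_mul, ← map_pow, pow_card_eq_one', map_one, one_pow]
      rw [h1, one_zpow]
    have hcardQ : p ∣ Nat.card (↥N ⧸ ((κ ^ M) ^ b).ker) := hpi
    obtain ⟨xq, hxq⟩ := exists_prime_orderOf_dvd_card' p hcardQ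
    obtain ⟨x, rfl⟩ := QuotientGroup.mk_surjective xq
    have hxr : (QuotientGroup.mk x : ↥N ⧸ ((κ ^ M) ^ b).ker) ^ r = 1 := by
      rw [← QuotientGroup.mk_pow, QuotientGroup.eq_one_iff, MonoidHom.mem_ker, map_pow]
      exact hpow x
    have := orderOf_dvd_of_pow_eq_one hxr
    rw [hxq] at this
    exact hr this

/-- The case where the kernel of the invariant linear character has index prime to `|Γ:G|`:
pass to the quotient by the kernel, where `G` becomes a normal Hall subgroup. -/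
theorem coprime_goUp {Γ : Type u} [Group Γ] [Fintype Γ] (G N : Subgroup Γ) [hG : G.Normal]
    [hN : N.Normal] [Fintype G] [Fintype N] (hNG : N ≤ G)
    (hcop : (G.index).Coprime (N.relIndex G))
    (hsolv : Group.IsSolvable (Γ ⧸ G) ∨ Group.IsSolvable (G ⧸ N.subgroupOf G))
    (κ : N →* ℂˣ)
    (hinv : ∀ (x : Γ) (n : N), κ ⟨x * n * x⁻¹, hN.conj_mem n n.2 x⟩ = κ n)
    (hd : (κ.ker.index).Coprime G.index) :
    ∃ χ : G → ℂ, IsIrrCharacter G χ ∧
      classInner (fun n : N => χ ⟨n, hNG n.2⟩) (fun n => ((κ n : ℂˣ) : ℂ)) ≠ 0 ∧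
      ∀ (x : Γ) (g : G), χ ⟨x * g * x⁻¹, hG.conj_mem g g.2 x⟩ = χ g := by
  classical
  set K : Subgroup Γ := κ.ker.map N.subtype with hK
  have hKN : K ≤ N := by
    rintro _ ⟨n, -, rfl⟩
    exact n.2
  have hKmem : ∀ n : N, (n : Γ) ∈ K ↔ κ n = 1 := by
    intro n
    constructor
    · rintro ⟨n', hn', h⟩
      have : n' = n := Subtype.ext h
      rw [← this]
      exact hn'
    · intro h
      exact ⟨n, h, rfl⟩
  haveI hKn : K.Normal := by
    constructor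
    intro k hk x
    have hkN : k ∈ N := hKN hk
    have h1 := (hKmem ⟨k, hkN⟩).mp hk
    have h2 := hinv x ⟨k, hkN⟩
    rw [h1] at h2
    exact (hKmem ⟨x * k * x⁻¹, hN.conj_mem k hkN x⟩).mpr h2
  have hKrel : K.relIndex N = κ.ker.index := by
    show (K.subgroupOf N).index = κ.ker.index
    have : K.subgroupOf N = κ.ker :=
      Subgroup.comap_map_eq_self_of_injective (Subgroup.subtype_injective N) κ.ker
    rw [this]
  let q : Γ →* Γ ⧸ K := QuotientGroup.mk' K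
  have hq : Function.Surjective q := QuotientGroup.mk'_surjective K
  have hqker : q.ker = K := QuotientGroup.ker_mk' K
  letI : Fintype (Γ ⧸ K) := Fintype.ofFinite _
  set G₁ : Subgroup (Γ ⧸ K) := G.map q with hG₁
  set N₁ : Subgroup (Γ ⧸ K) := N.map q with hN₁
  haveI hG₁n : G₁.Normal := Subgroup.Normal.map hG q hq
  haveI hN₁n : N₁.Normal := Subgroup.Normal.map hN q hq
  letI : Fintype G₁ := Fintype.ofFinite _
  letI : Fintype N₁ := Fintype.ofFinite _
  have hN₁G₁ : N₁ ≤ G₁ := Subgroup.map_mono hNG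
  have hcardG₁ : Nat.card G₁ = κ.ker.index * N.relIndex G := by
    rw [← hKrel, Subgroup.relIndex_mul_relIndex K N G hKN hNG]
    have h1 : q.ker.relIndex G = Nat.card G₁ := Subgroup.relIndex_ker G q
    have h2 : q.ker.relIndex G = K.relIndex G := by rw [hqker]
    rw [← h1, h2]
  have hcardN₁ : N₁.relIndex G₁ = N.relIndex G := by
    have h1 := Subgroup.relIndex_comap N₁ q G
    have h2 : N₁.comap q = N := by
      rw [hN₁, Subgroup.comap_map_eq, hqker]
      exact sup_eq_left.mpr hKN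
    rw [h2] at h1
    exact h1.symm
  have hidxG₁ : G₁.index = G.index :=
    Subgroup.index_map_eq G hq (by rw [hqker]; exact hKN.trans hNG)
  have hcopG₁ : (Nat.card G₁).Coprime G₁.index := by
    rw [hcardG₁, hidxG₁]
    exact Nat.Coprime.mul_left hd hcop.symm
  obtain ⟨S₁, hS₁⟩ := Subgroup.exists_right_complement'_of_coprime hcopG₁
  have hS₁card : Nat.card S₁ = G.index := by
    rw [← hidxG₁]
    exact hS₁.symm.index_eq_card.symm
  -- the restricted quotient maps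
  let qG : ↥G →* ↥G₁ := q.subgroupMap G
  have hqG : Function.Surjective qG := q.subgroupMap_surjective G
  let qN : ↥N →* ↥N₁ := q.subgroupMap N
  have hqN : Function.Surjective qN := q.subgroupMap_surjective N
  have hkerN : qN.ker ≤ κ.ker := by
    intro n hn
    rw [MonoidHom.mem_ker] at hn ⊢
    have h1 : q (n : Γ) = 1 := congrArg Subtype.val hn
    have h2 : (n : Γ) ∈ q.ker := h1
    rw [hqker] at h2
    exact (hKmem n).mp h2
  let κ' : ↥N₁ →* ℂˣ := qN.liftOfSurjective hqN ⟨κ, hkerN⟩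
  have hκ' : ∀ n : N, κ' (qN n) = κ n := fun n =>
    MonoidHom.liftOfRightInverse_comp_apply qN _ _ ⟨κ, hkerN⟩ n
  let θ₁ : IrrCharacter ↥N₁ := Cfsg.Agent.H82.linChar κ'
  have hnorm : ∀ s ∈ S₁, ∀ g ∈ G₁, s * g * s⁻¹ ∈ G₁ := fun s _ g hg => hG₁n.conj_mem g hg s
  have hNnormal : ∀ g ∈ G₁, ∀ n ∈ N₁, g * n * g⁻¹ ∈ N₁ := fun g _ n hn => hN₁n.conj_mem n hn g
  have hNS : ∀ s ∈ S₁, ∀ n ∈ N₁, s * n * s⁻¹ ∈ N₁ := fun s _ n hn => hN₁n.conj_mem n hn s
  have hθinv : ∀ s ∈ S₁, ∀ g g' : N₁, (g' : Γ ⧸ K) = s * g * s⁻¹ →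
      (θ₁ : N₁ → ℂ) g' = (θ₁ : N₁ → ℂ) g := by
    intro s _ g g' hgg'
    obtain ⟨x, rfl⟩ := hq s
    obtain ⟨n, rfl⟩ := hqN g
    have h1 : g' = qN ⟨x * n * x⁻¹, hN.conj_mem n n.2 x⟩ := by
      apply Subtype.ext
      rw [hgg']
      show q x * q (n : Γ) * (q x)⁻¹ = q (x * n * x⁻¹)
      rw [map_mul, map_mul, map_inv]
    rw [h1]
    show ((κ' (qN _) : ℂˣ) : ℂ) = ((κ' (qN n) : ℂˣ) : ℂ)
    rw [hκ', hκ', hinv x n]
  have hex : ∃ χ₁ : IrrCharacter ↥G₁,
      classInner (fun n : N₁ => (χ₁ : G₁ → ℂ) ⟨n, hN₁G₁ n.2⟩) (θ₁ : N₁ → ℂ) ≠ 0 ∧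
      (∀ s ∈ S₁, ∀ g g' : G₁, (g' : Γ ⧸ K) = s * g * s⁻¹ →
        (χ₁ : G₁ → ℂ) g' = (χ₁ : G₁ → ℂ) g) := by
    rcases hsolv with hs | hs
    · have hsolvS : Group.IsSolvable ↥S₁ := by
        have hle : G ≤ G₁.comap q := Subgroup.le_comap_map q G
        let φ : Γ ⧸ G →* (Γ ⧸ K) ⧸ G₁ := QuotientGroup.map G G₁ q hle
        have hφ : Function.Surjective φ := by
          intro y
          obtain ⟨y₀, rfl⟩ := QuotientGroup.mk_surjective y
          obtain ⟨x, rfl⟩ := hq y₀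
          exact ⟨QuotientGroup.mk x, rfl⟩
        haveI : Group.IsSolvable ((Γ ⧸ K) ⧸ G₁) := solvable_of_surjective hφ
        let ψ : ↥S₁ →* (Γ ⧸ K) ⧸ G₁ := (QuotientGroup.mk' G₁).comp S₁.subtype
        have hψ : Function.Injective ψ := by
          rw [← MonoidHom.ker_eq_bot_iff, eq_bot_iff]
          intro s hs'
          rw [MonoidHom.mem_ker] at hs'
          have h1 : (s : Γ ⧸ K) ∈ G₁ := (QuotientGroup.eq_one_iff _).mp hs'
          have h2 : (s : Γ ⧸ K) ∈ G₁ ⊓ S₁ := ⟨h1, s.2⟩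
          rw [hS₁.disjoint.eq_bot] at h2
          exact Subtype.ext h2
        exact solvable_of_solvable_injective hψ
      exact Cfsg.Agent.S4449.result G₁ S₁ N₁ hnorm hN₁G₁ hNnormal hNS
        (by rw [hS₁card, ← hidxG₁]; exact hcopG₁) hsolvS θ₁ hθinv
    · haveI : (N₁.subgroupOf G₁).Normal := Subgroup.normal_subgroupOf
      have hsolvQ : Group.IsSolvable (↥G₁ ⧸ N₁.subgroupOf G₁) := by
        have hle : N.subgroupOf G ≤ (N₁.subgroupOf G₁).comap qG := by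
          intro g hg
          rw [Subgroup.mem_subgroupOf] at hg
          rw [Subgroup.mem_comap, Subgroup.mem_subgroupOf]
          exact Subgroup.mem_map_of_mem q hg
        let φ : ↥G ⧸ N.subgroupOf G →* ↥G₁ ⧸ N₁.subgroupOf G₁ :=
          QuotientGroup.map _ _ qG hle
        have hφ : Function.Surjective φ := by
          intro y
          obtain ⟨y₀, rfl⟩ := QuotientGroup.mk_surjective y
          obtain ⟨x, rfl⟩ := hqG y₀
          exact ⟨QuotientGroup.mk x, rfl⟩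
        exact solvable_of_surjective hφ
      exact Cfsg.Agent.S4448.result G₁ S₁ N₁ hnorm hN₁G₁ hNS
        (by rw [hS₁card, hcardN₁]; exact hcop.symm) hsolvQ θ₁ hθinv
  obtain ⟨χ₁, hχ₁θ, hχ₁inv⟩ := hex
  refine ⟨fun g => χ₁.1 (qG g), Cfsg.Agent.H4.isIrrCharacter_comp_surjective qG hqG χ₁.2, ?_, ?_⟩
  · have h1 := classInner_comp_surj qN hqN (fun n : N₁ => (χ₁ : G₁ → ℂ) ⟨n, hN₁G₁ n.2⟩)
      (θ₁ : N₁ → ℂ)
    have h2 : (fun a : N => (θ₁ : N₁ → ℂ) (qN a)) = fun n => ((κ n : ℂˣ) : ℂ) := by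
      funext n
      show ((κ' (qN n) : ℂˣ) : ℂ) = _
      rw [hκ']
    rw [h2] at h1
    rw [← h1] at hχ₁θ
    exact hχ₁θ
  · intro x g
    have hx : q x ∈ ((G₁ : Set (Γ ⧸ K)) * (S₁ : Set (Γ ⧸ K))) := by
      rw [Subgroup.IsComplement.mul_eq hS₁]
      trivial
    obtain ⟨g₁, hg₁, s₁, hs₁, hgs⟩ := Set.mem_mul.mp hx
    set u : G₁ := ⟨s₁ * (qG g : Γ ⧸ K) * s₁⁻¹, hG₁n.conj_mem _ (qG g).2 s₁⟩ with hu
    have h1 : χ₁.1 u = χ₁.1 (qG g) := hχ₁inv s₁ hs₁ (qG g) u rfl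
    have hcf := Cfsg.Agent.H4.isClassFunction_of_isCharacter
      (Cfsg.Agent.H4.isCharacter_of_isIrrCharacter χ₁.2)
    have h2 := hcf u ⟨g₁, hg₁⟩
    show χ₁.1 (qG ⟨x * g * x⁻¹, hG.conj_mem g g.2 x⟩) = χ₁.1 (qG g)
    rw [← h1, ← h2]
    refine congrArg χ₁.1 (Subtype.ext ?_)
    show q (x * g * x⁻¹) = g₁ * (s₁ * q (g : Γ) * s₁⁻¹) * g₁⁻¹
    rw [map_mul, map_mul, map_inv, ← hgs]
    group

/-- **Linear case**: a `Γ`-invariant linear character of `N` lies under a `Γ`-invariant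
irreducible character of `G`, when `(|Γ:G|, |G:N|) = 1` and `Γ/G` or `G/N` is solvable. -/
theorem linear_goUp {Γ : Type u} [Group Γ] [Fintype Γ] (G N : Subgroup Γ) [hG : G.Normal]
    [hN : N.Normal] [Fintype G] [Fintype N] (hNG : N ≤ G)
    (hcop : (G.index).Coprime (N.relIndex G))
    (hsolv : Group.IsSolvable (Γ ⧸ G) ∨ Group.IsSolvable (G ⧸ N.subgroupOf G))
    (κ : N →* ℂˣ)
    (hinv : ∀ (x : Γ) (n : N), κ ⟨x * n * x⁻¹, hN.conj_mem n n.2 x⟩ = κ n) :
    ∃ χ : G → ℂ, IsIrrCharacter G χ ∧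
      classInner (fun n : N => χ ⟨n, hNG n.2⟩) (fun n => ((κ n : ℂˣ) : ℂ)) ≠ 0 ∧
      ∀ (x : Γ) (g : G), χ ⟨x * g * x⁻¹, hG.conj_mem g g.2 x⟩ = χ g := by
  classical
  obtain ⟨ν, κ₁, hκ, hνinv, hκ₁inv, hd⟩ := exists_twist G N hNG hcop κ hinv
  obtain ⟨χ', hχ', hχ'κ, hχ'inv⟩ := coprime_goUp G N hNG hcop hsolv κ₁ hκ₁inv hd
  refine ⟨fun g => ((ν g : ℂˣ) : ℂ) * χ' g, ?_, ?_, ?_⟩
  · exact Cfsg.Agent.H83.isIrrCharacter_linear_mul (Cfsg.Agent.H82.linChar ν) ⟨χ', hχ'⟩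
      (Cfsg.Agent.H82.linChar_one ν)
  · have h0 : classInner (fun n : N => ((ν ⟨n, hNG n.2⟩ : ℂˣ) : ℂ) * χ' ⟨n, hNG n.2⟩)
        (fun n => ((κ n : ℂˣ) : ℂ)) =
        classInner (fun n : N => χ' ⟨n, hNG n.2⟩) (fun n => ((κ₁ n : ℂˣ) : ℂ)) := by
      unfold classInner
      congr 1
      refine Finset.sum_congr rfl fun n _ => ?_
      show ((ν ⟨n, hNG n.2⟩ : ℂˣ) : ℂ) * χ' ⟨n, hNG n.2⟩ * conj ((κ n : ℂˣ) : ℂ) =
        χ' ⟨n, hNG n.2⟩ * conj ((κ₁ n : ℂˣ) : ℂ)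
      rw [hκ n, Units.val_mul, map_mul]
      have h1 : ((ν ⟨n, hNG n.2⟩ : ℂˣ) : ℂ) * conj ((ν ⟨n, hNG n.2⟩ : ℂˣ) : ℂ) = 1 :=
        Cfsg.Agent.H83.irr_linear_mul_conj (Cfsg.Agent.H82.linChar ν)
          (Cfsg.Agent.H82.linChar_one ν) ⟨n, hNG n.2⟩
      linear_combination (χ' ⟨n, hNG n.2⟩ * conj ((κ₁ n : ℂˣ) : ℂ)) * h1
    rw [h0]
    exact hχ'κ
  · intro x g
    show ((ν ⟨x * g * x⁻¹, _⟩ : ℂˣ) : ℂ) * χ' ⟨x * g * x⁻¹, _⟩ = ((ν g : ℂˣ) : ℂ) * χ' g
    rw [hνinv x g, hχ'inv x g]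

end Cfsg.Agent.Lib.Helper96
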