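import Mathlib
import Cfsg.Prelude.Def_Characters
import Cfsg.Agent.H4.Center
import Cfsg.Agent.H4.EquivChar
import Cfsg.Agent.H4.Induction
import Cfsg.Agent.Lib.Helper96.ProjLift3

/-!
# Multiplicities and the exponent set (helper96)

* `natCast_mem_expSet'` : for any representation `ρ` of `G`, the multiplicity of the irreducible
  `σ` in the restriction of `ρ` to `N` lies in the exponent set `expSet N σ`.
* `ext_of_ind` : if `G / N` is a `p`-group, `E ⊔ N = ⊤` and a character `ψ` of `E` has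
  `[ψ|(E ⊓ N), ϑ|(E ⊓ N)]` prime to `p`, the invariant irreducible character `ϑ` of `N`
  extends to `G`.
-/

set_option autoImplicit false
set_option linter.unusedSectionVars false
set_option linter.style.haveILetI false

namespace Cfsg.Agent.Lib.Helper96

open Module Representation Cfsg Cfsg.Agent.H4
open scoped ComplexConjugate

universe u v w

section Mult

variable {G : Type u} [Group G] (N : Subgroup G) [hN : N.Normal]
  {V : Type v} [AddCommGroup V] [Module ℂ V] [FiniteDimensional ℂ V]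
  {W : Type w} [AddCommGroup W] [Module ℂ W] [FiniteDimensional ℂ W]
  (ρ : Representation ℂ G V) (σ : Representation ℂ N W)

/-- The space of `N`-intertwiners has dimension the multiplicity (general form). -/
theorem finrank_interSubG' [Fintype N] (e : ℕ)
    (h : classInner (fun n : N => ρ.character (n : G)) σ.character = e) :
    finrank ℂ (interSubG N ρ σ) = e := by
  let ρN : Representation ℂ N V := ρ.comp N.subtype
  let L : interSubG N ρ σ ≃ₗ[ℂ] IntertwiningMap σ ρN :=
    { toFun := fun φ => ⟨φ.1, φ.2⟩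
      map_add' := fun a b => rfl
      map_smul' := fun c a => rfl
      invFun := fun F => ⟨F.toLinearMap, F.isIntertwining'⟩
      left_inv := fun φ => rfl
      right_inv := fun F => rfl }
  have h1 := classInner_character σ ρN
  have h2 : ρN.character = fun n : N => ρ.character (n : G) := rfl
  rw [h2, h] at h1
  rw [LinearEquiv.finrank_eq L]
  exact_mod_cast h1.symm

/-- The multiplicity of `σ` in the restriction of any representation of `G` lies in the
exponent set. -/
theorem natCast_mem_expSet' [Fintype N] (e : ℕ)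
    (h : classInner (fun n : N => ρ.character (n : G)) σ.character = e) :
    (e : ℤ) ∈ expSet N σ := by
  refine ⟨(bigChar N ρ σ)⁻¹, fun n => ?_, fun c => ?_⟩
  · rw [MonoidHom.inv_apply, bigChar_sigmaElt, inv_one]
  · rw [MonoidHom.inv_apply, bigChar_scalarElt, finrank_interSubG' N ρ σ e h, inv_pow, inv_inv,
      zpow_natCast]

end Mult

section ExtInd

variable {G : Type u} [Group G]

/-- The extension by zero of an invariant function on a normal subgroup is a class function. -/
theorem extZero_isClassFunction (N : Subgroup G) [hN : N.Normal] (ϑ : N → ℂ)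
    (hinv : ∀ (g : G) (n : N), ϑ ⟨g * n * g⁻¹, hN.conj_mem (n : G) n.2 g⟩ = ϑ n) :
    IsClassFunction G (extendByZero N ϑ) := by
  intro g h
  by_cases hg : g ∈ N
  · rw [extendByZero_of_mem N ϑ hg, extendByZero_of_mem N ϑ (hN.conj_mem g hg h)]
    exact hinv h ⟨g, hg⟩
  · have hg' : h * g * h⁻¹ ∉ N := by
      intro hc
      apply hg
      have := hN.conj_mem _ hc h⁻¹
      simpa [mul_assoc] using this
    rw [extendByZero_of_not_mem N ϑ hg, extendByZero_of_not_mem N ϑ hg']

/-- Orders of `G`, `N`, `E` and `E ⊓ N`. -/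
theorem card_mul_card_inf (E N : Subgroup G) [hN : N.Normal] :
    Nat.card G * Nat.card ↥(E ⊓ N) = (E ⊔ N).index * Nat.card N * Nat.card E := by
  have h1 : Nat.card N * N.index = Nat.card G := Subgroup.card_mul_index N
  have h2 : N.relIndex (E ⊔ N) * (E ⊔ N).index = N.index :=
    Subgroup.relIndex_mul_index le_sup_right
  have h3 : N.relIndex (E ⊔ N) = N.relIndex E := Subgroup.relIndex_sup_right E N
  have h4 : Nat.card ↥(E ⊓ N) * N.relIndex E = Nat.card E := by
    have h5 := Subgroup.relIndex_mul_relIndex ⊥ (E ⊓ N) E bot_le inf_le_left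
    rw [Subgroup.relIndex_bot_left, Subgroup.relIndex_bot_left] at h5
    have h6 : (E ⊓ N).relIndex E = N.relIndex E := by
      rw [inf_comm, Subgroup.inf_relIndex_right]
    rw [h6] at h5
    exact h5
  rw [← h1, ← h2, h3, ← h4]
  ring

/-- Multiplicity of `ϑ` in the restriction to `N` of a function induced from `E`. -/
theorem inner_res_ind [Fintype G] (N : Subgroup G) [hN : N.Normal] [Fintype N] (ϑ : N → ℂ)
    (hinv : ∀ (g : G) (n : N), ϑ ⟨g * n * g⁻¹, hN.conj_mem (n : G) n.2 g⟩ = ϑ n)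
    (E : Subgroup G) [Fintype E] [Fintype ↥(E ⊓ N)] (ψ : E → ℂ) :
    (Nat.card N : ℂ) / (Nat.card G : ℂ) * classInner (fun n : N => indFun E ψ (n : G)) ϑ =
      (Nat.card ↥(E ⊓ N) : ℂ) / (Nat.card E : ℂ) *
        classInner (fun y : ↥(E ⊓ N) => ψ ⟨y, y.2.1⟩) (fun y : ↥(E ⊓ N) => ϑ ⟨y, y.2.2⟩) := by
  have hG0 : (Nat.card G : ℂ) ≠ 0 := (neZero_card_complex G).out
  have hN0 : (Nat.card N : ℂ) ≠ 0 := (neZero_card_complex N).out
  have hE0 : (Nat.card E : ℂ) ≠ 0 := (neZero_card_complex E).out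
  have hM0 : (Nat.card ↥(E ⊓ N) : ℂ) ≠ 0 := (neZero_card_complex ↥(E ⊓ N)).out
  have hfr := frobenius_reciprocity E ψ (extendByZero N ϑ) (extZero_isClassFunction N ϑ hinv)
  have hL : classInner (indFun E ψ) (extendByZero N ϑ) =
      (Nat.card N : ℂ) / (Nat.card G : ℂ) * classInner (fun n : N => indFun E ψ (n : G)) ϑ := by
    unfold classInner
    have h1 : ∑ g : G, indFun E ψ g * conj (extendByZero N ϑ g) =
        ∑ n : N, indFun E ψ (n : G) * conj (ϑ n) := by
      have h2 : ∀ g : G, indFun E ψ g * conj (extendByZero N ϑ g) =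
          extendByZero N (fun n => conj (ϑ n)) g * indFun E ψ g := by
        intro g
        by_cases hg : g ∈ N
        · rw [extendByZero_of_mem N _ hg, extendByZero_of_mem N _ hg]
          ring
        · rw [extendByZero_of_not_mem N _ hg, extendByZero_of_not_mem N _ hg]
          simp
      simp only [h2]
      rw [sum_extendByZero_mul N (fun n => conj (ϑ n)) (indFun E ψ)]
      refine Finset.sum_congr rfl fun n _ => ?_
      ring
    rw [h1]
    field_simp
  have hR : classInner ψ (fun e : E => extendByZero N ϑ (e : G)) =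
      (Nat.card ↥(E ⊓ N) : ℂ) / (Nat.card E : ℂ) *
        classInner (fun y : ↥(E ⊓ N) => ψ ⟨y, y.2.1⟩) (fun y : ↥(E ⊓ N) => ϑ ⟨y, y.2.2⟩) := by
    unfold classInner
    have h1 : ∑ e : E, ψ e * conj (extendByZero N ϑ (e : G)) =
        ∑ y : ↥(E ⊓ N), ψ ⟨y, y.2.1⟩ * conj (ϑ ⟨y, y.2.2⟩) := by
      rw [← sum_extendByZero_mul E ψ (fun g => conj (extendByZero N ϑ g))]
      have h2 : ∀ g : G, extendByZero E ψ g * conj (extendByZero N ϑ g) =
          extendByZero (E ⊓ N)
            (fun y : ↥(E ⊓ N) => ψ ⟨y, y.2.1⟩ * conj (ϑ ⟨y, y.2.2⟩)) g := by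
        intro g
        by_cases hg : g ∈ E ⊓ N
        · rw [extendByZero_of_mem (E ⊓ N) _ hg, extendByZero_of_mem E ψ hg.1,
            extendByZero_of_mem N ϑ hg.2]
        · rw [extendByZero_of_not_mem (E ⊓ N) _ hg]
          by_cases hgE : g ∈ E
          · have hgN : g ∉ N := fun h => hg ⟨hgE, h⟩
            rw [extendByZero_of_not_mem N ϑ hgN]
            simp
          · rw [extendByZero_of_not_mem E ψ hgE]
            simp
      simp only [h2]
      rw [sum_extendByZero]
    rw [h1]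
    field_simp
  rw [← hL, hfr, hR]

/-- If `G / N` is a `p`-group, `E ⊔ N = ⊤`, and a character `ψ` of `E` has multiplicity prime
to `p` against the invariant irreducible character `ϑ` on `E ⊓ N`, then `ϑ` extends to `G`. -/
theorem ext_of_ind [Fintype G] (p : ℕ) [hp : Fact p.Prime] (N : Subgroup G) [hN : N.Normal]
    (hind : ∃ k : ℕ, N.index = p ^ k) (ϑ : N → ℂ) (hϑ : IsIrrCharacter N ϑ)
    (hinv : ∀ (g : G) (n : N), ϑ ⟨g * n * g⁻¹, hN.conj_mem (n : G) n.2 g⟩ = ϑ n)
    (E : Subgroup G) (hE : E ⊔ N = ⊤) (ψ : E → ℂ) (hψ : IsCharacter E ψ)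
    [Fintype ↥(E ⊓ N)] (b : ℕ) (hb : ¬ p ∣ b)
    (hbψ : classInner (fun y : ↥(E ⊓ N) => ψ ⟨y, y.2.1⟩)
      (fun y : ↥(E ⊓ N) => ϑ ⟨y, y.2.2⟩) = b) :
    ∃ χ : G → ℂ, IsIrrCharacter G χ ∧ ∀ n : N, χ n = ϑ n := by
  classical
  haveI : Fintype N := Fintype.ofFinite N
  haveI : Fintype E := Fintype.ofFinite E
  have hG0 : (Nat.card G : ℂ) ≠ 0 := (neZero_card_complex G).out
  have hN0 : (Nat.card N : ℂ) ≠ 0 := (neZero_card_complex N).out
  have hE0 : (Nat.card E : ℂ) ≠ 0 := (neZero_card_complex E).out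
  have hM0 : (Nat.card ↥(E ⊓ N) : ℂ) ≠ 0 := (neZero_card_complex ↥(E ⊓ N)).out
  have h1 := inner_res_ind N ϑ hinv E ψ
  obtain ⟨d', σ, hσirr, hσχ⟩ := hϑ
  haveI := hσirr
  have hinv' : ∀ (g : G) (n : N), σ.character (cjG N g n) = σ.character n := by
    intro g n
    rw [hσχ]
    exact hinv g n
  obtain ⟨mm, ρ, hρ⟩ := isCharacter_indFun E ψ hψ
  have hmult : classInner (fun n : N => ρ.character (n : G)) σ.character = b := by
    rw [hρ, hσχ]
    rw [hbψ] at h1
    have hcard := card_mul_card_inf E N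
    rw [hE, Subgroup.index_top, one_mul] at hcard
    have hcardC : (Nat.card G : ℂ) * (Nat.card ↥(E ⊓ N) : ℂ) =
        (Nat.card N : ℂ) * (Nat.card E : ℂ) := by exact_mod_cast hcard
    have hκ0 : (Nat.card N : ℂ) / (Nat.card G : ℂ) ≠ 0 := div_ne_zero hN0 hG0
    apply mul_left_cancel₀ hκ0
    rw [h1]
    field_simp
    linear_combination (b : ℂ) * hcardC
  have hb_mem : (b : ℤ) ∈ expSet N σ := natCast_mem_expSet' N ρ σ b hmult
  have hidx : ((N.index : ℕ) : ℤ) ∈ expSet N σ := index_mem_expSet N σ hinv'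
  have hcop : Nat.Coprime N.index b := by
    obtain ⟨k, hk⟩ := hind
    rw [hk]
    exact Nat.Coprime.pow_left k ((Nat.Prime.coprime_iff_not_dvd hp.out).mpr hb)
  obtain ⟨τ, hτ⟩ := ext_of_one_mem N σ hinv' (one_mem_expSet_of_coprime N σ hcop hidx hb_mem)
  have hτirr := irreducible_of_ext N σ τ hτ
  refine ⟨τ.character, isIrrCharacter_of_irreducible τ hτirr, fun n => ?_⟩
  rw [← hσχ]
  show LinearMap.trace ℂ _ (τ n) = LinearMap.trace ℂ _ (σ n)
  rw [hτ n]

end ExtInd

end Cfsg.Agent.Lib.Helper96
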