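import Mathlib
import Cfsg.Prelude.Def_Characters
import Cfsg.Agent.H4.Ito
import Cfsg.Agent.H19.LinChar
import Cfsg.Agent.H19.ExtLin
import Cfsg.Agent.Lib.Helper96.ProjLift4

/-!
# Extending characters from `E ⊓ N` to an elementary subgroup `E` (helper96)

* `irr_one_of_comm` : irreducible characters of abelian groups have degree one.
* `inf_commutator_trivial` : if `P ⊓ N` is central in `P` and each of its linear characters
  extends to `P`, then `N` meets the commutator subgroup of `P` trivially.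
* `commutator_trivial_of_elementary` : the same for a `p`-elementary subgroup `E`, when `P` is a
  Sylow `p`-subgroup.
* `exists_char_ext` : if `N` meets the commutator subgroup of `E` trivially, every irreducible
  character of `E ⊓ N` is the restriction of a character of `E`.
-/

set_option autoImplicit false
set_option linter.unusedSectionVars false
set_option linter.style.haveILetI false

namespace Cfsg.Agent.Lib.Helper96

open Cfsg Cfsg.Agent Cfsg.Agent.H4
open scoped ComplexConjugate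
open scoped commutatorElement
open scoped Pointwise

universe u

section Abelian

/-- Irreducible characters of abelian groups have degree one. -/
theorem irr_one_of_comm {A : Type u} [Group A] [Finite A] (hcomm : ∀ a b : A, a * b = b * a)
    {φ : A → ℂ} (hφ : IsIrrCharacter A φ) : φ 1 = 1 := by
  obtain ⟨n, ρ, hirr, rfl⟩ := hφ
  haveI := hirr
  have h1 := ito_dvd_index ρ (⊤ : Subgroup A) (fun a _ b _ => hcomm a b)
  rw [Subgroup.index_top, Nat.dvd_one] at h1
  rw [Representation.char_one, h1]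
  simp

/-- Homomorphisms to `ℂˣ` separate the points of a finite abelian group. -/
theorem exists_hom_ne_one {A : Type u} [Group A] [Finite A] (hcomm : ∀ a b : A, a * b = b * a)
    {a : A} (ha : a ≠ 1) : ∃ f : A →* ℂˣ, f a ≠ 1 := by
  letI : CommGroup A := { (inferInstance : Group A) with mul_comm := hcomm }
  exact CommGroup.exists_apply_ne_one_of_hasEnoughRootsOfUnity A ℂ ha

end Abelian

section Comm

variable {G : Type u} [Group G]

/-- If `P ⊓ N` is central in `P` and every linear character of `P ⊓ N` extends to `P`, then `N`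
meets the commutator subgroup of `P` trivially. -/
theorem inf_commutator_trivial [Finite G] (P N : Subgroup G)
    (hcent : ∀ x ∈ P ⊓ N, ∀ y ∈ P, x * y = y * x)
    (hlin : ∀ lam : ↥(P ⊓ N) → ℂ, IsCharacter ↥(P ⊓ N) lam → lam 1 = 1 →
      ∃ μ : ↥P → ℂ, IsCharacter ↥P μ ∧ μ 1 = 1 ∧ ∀ x : ↥(P ⊓ N), μ ⟨(x : G), x.2.1⟩ = lam x) :
    ∀ y ∈ ⁅P, P⁆, y ∈ N → y = 1 := by
  intro y hy hyN
  by_contra hne
  have hPP : ⁅P, P⁆ ≤ P := Subgroup.commutator_le.mpr (fun a ha b hb =>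
    P.mul_mem (P.mul_mem (P.mul_mem ha hb) (P.inv_mem ha)) (P.inv_mem hb))
  have hyP : y ∈ P := hPP hy
  have hcomm : ∀ a b : ↥(P ⊓ N), a * b = b * a := fun a b =>
    Subtype.ext (hcent a a.2 b b.2.1)
  have hne' : (⟨y, ⟨hyP, hyN⟩⟩ : ↥(P ⊓ N)) ≠ 1 := fun h => hne (congrArg Subtype.val h)
  obtain ⟨f, hf⟩ := exists_hom_ne_one hcomm hne'
  let f' : ↥(P ⊓ N) →* ℂ := (Units.coeHom ℂ).comp f
  obtain ⟨μ, hμ, hμ1, hμres⟩ := hlin (fun x => f' x) (H19.isCharacter_of_monoidHom f')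
    (by show ((f 1 : ℂˣ) : ℂ) = 1; rw [map_one]; rfl)
  let μh : ↥P →* ℂ := H19.linCharHom μ hμ hμ1
  -- `μ` is trivial on commutators
  let K : Subgroup G :=
    { carrier := {g | ∃ hg : g ∈ P, μ ⟨g, hg⟩ = 1}
      mul_mem' := by
        rintro a b ⟨ha, ha1⟩ ⟨hb, hb1⟩
        refine ⟨P.mul_mem ha hb, ?_⟩
        have := H19.linChar_mul μ hμ hμ1 ⟨a, ha⟩ ⟨b, hb⟩
        rw [ha1, hb1, mul_one] at this
        exact this
      one_mem' := ⟨P.one_mem, hμ1⟩
      inv_mem' := by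
        rintro a ⟨ha, ha1⟩
        refine ⟨P.inv_mem ha, ?_⟩
        have := H19.linChar_inv μ hμ hμ1 ⟨a, ha⟩
        rw [ha1, inv_one] at this
        exact this }
  have hK : ⁅P, P⁆ ≤ K := by
    rw [Subgroup.commutator_le]
    intro a ha b hb
    refine ⟨P.mul_mem (P.mul_mem (P.mul_mem ha hb) (P.inv_mem ha)) (P.inv_mem hb), ?_⟩
    have h1 : (⟨⁅a, b⁆, P.mul_mem (P.mul_mem (P.mul_mem ha hb) (P.inv_mem ha)) (P.inv_mem hb)⟩ : ↥P)
        = (⟨a, ha⟩ : ↥P) * ⟨b, hb⟩ * (⟨a, ha⟩ : ↥P)⁻¹ * (⟨b, hb⟩ : ↥P)⁻¹ := rfl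
    rw [h1, H19.linChar_mul μ hμ hμ1, H19.linChar_mul μ hμ hμ1, H19.linChar_mul μ hμ hμ1,
      H19.linChar_inv μ hμ hμ1, H19.linChar_inv μ hμ hμ1]
    have ha0 := H19.linChar_ne_zero μ hμ hμ1 ⟨a, ha⟩
    have hb0 := H19.linChar_ne_zero μ hμ hμ1 ⟨b, hb⟩
    field_simp
  obtain ⟨hyP', hy1⟩ := hK hy
  apply hf
  have h2 := hμres ⟨y, ⟨hyP, hyN⟩⟩
  have h3 : ((f ⟨y, ⟨hyP, hyN⟩⟩ : ℂˣ) : ℂ) = 1 := by
    rw [← hy1]
    exact h2.symm
  exact Units.ext h3

/-- Commutators only depend on the arguments modulo central factors. -/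
theorem comm_central_mul {X : Type*} [Group X] {a b z z' : X} (hz : z ∈ Subgroup.center X)
    (hz' : z' ∈ Subgroup.center X) : ⁅z * a, z' * b⁆ = ⁅a, b⁆ := by
  rw [Subgroup.mem_center_iff] at hz hz'
  rw [commutatorElement_def, commutatorElement_def]
  calc z * a * (z' * b) * (z * a)⁻¹ * (z' * b)⁻¹
      = z * a * (b * z') * (z * a)⁻¹ * (b * z')⁻¹ := by rw [← hz' b]
    _ = z * a * b * (z' * (a⁻¹ * z⁻¹)) * z'⁻¹ * b⁻¹ := by group
    _ = z * a * b * ((a⁻¹ * z⁻¹) * z') * z'⁻¹ * b⁻¹ := by rw [← hz' (a⁻¹ * z⁻¹)]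
    _ = z * (a * b * a⁻¹) * z⁻¹ * b⁻¹ := by group
    _ = (a * b * a⁻¹) * z * z⁻¹ * b⁻¹ := by rw [← hz (a * b * a⁻¹)]
    _ = a * b * a⁻¹ * b⁻¹ := by group

/-- If `N` meets the commutator subgroup of a Sylow `p`-subgroup trivially, it meets the
commutator subgroup of every `p`-elementary subgroup trivially. -/
theorem commutator_trivial_of_elementary [Finite G] (p : ℕ) [hp : Fact p.Prime] (N : Subgroup G)
    [hN : N.Normal] (P : Sylow p G)
    (hP : ∀ y ∈ ⁅(P : Subgroup G), (P : Subgroup G)⁆, y ∈ N → y = 1)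
    (E : Subgroup G) (hE : IsElementary p E) :
    ∀ y ∈ ⁅E, E⁆, y ∈ N → y = 1 := by
  classical
  obtain ⟨x, hx, hxcop, k, hk⟩ := hE
  obtain ⟨R⟩ : Nonempty (Sylow p ↥E) := inferInstance
  have hCR : Subgroup.zpowers x ⊔ (R : Subgroup E) = ⊤ := by
    rw [← Subgroup.index_eq_one]
    have h3 : (Subgroup.zpowers x ⊔ (R : Subgroup E)).index ∣ (Subgroup.zpowers x).index :=
      Subgroup.index_dvd_of_le le_sup_left
    have h4 : (Subgroup.zpowers x ⊔ (R : Subgroup E)).index ∣ (R : Subgroup E).index :=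
      Subgroup.index_dvd_of_le le_sup_right
    rw [hk] at h3
    obtain ⟨j, -, hj⟩ := (Nat.dvd_prime_pow hp.out).mp h3
    rcases j with _ | j
    · simpa using hj
    · exfalso
      have h6 : p ∣ (R : Subgroup E).index := by
        refine dvd_trans ?_ h4
        rw [hj]
        exact dvd_pow_self p (Nat.succ_ne_zero j)
      exact R.not_dvd_index h6
  have hCcen : Subgroup.zpowers x ≤ Subgroup.center ↥E := Subgroup.zpowers_le.mpr hx
  haveI hCn : (Subgroup.zpowers x).Normal := by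
    constructor
    intro z hz g
    have hzc := Subgroup.mem_center_iff.mp (hCcen hz) g
    have h1 : g * z * g⁻¹ = z := by
      rw [hzc, mul_inv_cancel_right]
    rw [h1]
    exact hz
  have hdecomp : ∀ a : ↥E, ∃ c ∈ Subgroup.zpowers x, ∃ r ∈ (R : Subgroup E), a = c * r := by
    intro a
    have ha : a ∈ Subgroup.zpowers x ⊔ (R : Subgroup E) := by
      rw [hCR]
      exact Subgroup.mem_top a
    have h1 := Subgroup.normal_mul (Subgroup.zpowers x) (R : Subgroup E)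
    have ha' : a ∈ ((Subgroup.zpowers x : Set ↥E) * ((R : Subgroup E) : Set ↥E)) := by
      rw [← h1]
      exact ha
    obtain ⟨c, hc, r, hr, hcr⟩ := Set.mem_mul.mp ha'
    exact ⟨c, hc, r, hr, hcr.symm⟩
  have hR0 : IsPGroup p ((R : Subgroup E).map E.subtype) := R.isPGroup'.map E.subtype
  obtain ⟨P', hP'⟩ := hR0.exists_le_sylow
  obtain ⟨g, hg⟩ := MulAction.exists_smul_eq G P P'
  have hconj : ∀ r ∈ (R : Subgroup E), g⁻¹ * (r : G) * g ∈ (P : Subgroup G) := by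
    intro r hr
    have h1 : (r : G) ∈ (P' : Subgroup G) := hP' ⟨r, hr, rfl⟩
    rw [← hg, Sylow.coe_subgroup_smul] at h1
    obtain ⟨s, hs, hsr⟩ := (Subgroup.mem_smul_pointwise_iff_exists _ _ _).mp h1
    have h2 : g * s * g⁻¹ = (r : G) := hsr
    rw [← h2]
    have h3 : g⁻¹ * (g * s * g⁻¹) * g = s := by group
    rw [h3]
    exact hs
  let K : Subgroup G :=
    (⁅(P : Subgroup G), (P : Subgroup G)⁆).comap (MulAut.conj g⁻¹).toMonoidHom
  have hK : ⁅E, E⁆ ≤ K := by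
    rw [Subgroup.commutator_le]
    intro a ha b hb
    obtain ⟨c, hc, r, hr, hacr⟩ := hdecomp ⟨a, ha⟩
    obtain ⟨c', hc', r', hr', hbcr⟩ := hdecomp ⟨b, hb⟩
    have h1 : ⁅(⟨a, ha⟩ : ↥E), (⟨b, hb⟩ : ↥E)⁆ = ⁅r, r'⁆ := by
      rw [hacr, hbcr]
      exact comm_central_mul (hCcen hc) (hCcen hc')
    have h2 : ⁅a, b⁆ = ⁅(r : G), (r' : G)⁆ := congrArg Subtype.val h1
    show (MulAut.conj g⁻¹) ⁅a, b⁆ ∈ ⁅(P : Subgroup G), (P : Subgroup G)⁆
    rw [h2, map_commutatorElement]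
    apply Subgroup.commutator_mem_commutator
    · have := hconj r hr
      simpa [MulAut.conj_apply] using this
    · have := hconj r' hr'
      simpa [MulAut.conj_apply] using this
  intro y hy hyN
  have h1 : (MulAut.conj g⁻¹) y ∈ ⁅(P : Subgroup G), (P : Subgroup G)⁆ := hK hy
  have h2 : (MulAut.conj g⁻¹) y ∈ N := by
    rw [MulAut.conj_apply]
    exact hN.conj_mem y hyN g⁻¹
  have h3 := hP _ h1 h2
  exact (MulEquiv.map_eq_one_iff _).mp h3

/-- If `N` meets the commutator subgroup of `E` trivially, every irreducible character of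
`E ⊓ N` is the restriction of a character of `E`. -/
theorem exists_char_ext [Finite G] (E N : Subgroup G)
    (htriv : ∀ y ∈ ⁅E, E⁆, y ∈ N → y = 1) (φ : ↥(E ⊓ N) → ℂ)
    (hφ : IsIrrCharacter ↥(E ⊓ N) φ) :
    ∃ ψ : E → ℂ, IsCharacter E ψ ∧ ∀ y : ↥(E ⊓ N), ψ ⟨(y : G), y.2.1⟩ = φ y := by
  classical
  have hcomm : ∀ a b : ↥(E ⊓ N), a * b = b * a := by
    intro a b
    have h1 : ⁅(a : G), (b : G)⁆ ∈ ⁅E, E⁆ := Subgroup.commutator_mem_commutator a.2.1 b.2.1
    have h2 : ⁅(a : G), (b : G)⁆ ∈ N :=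
      N.mul_mem (N.mul_mem (N.mul_mem a.2.2 b.2.2) (N.inv_mem a.2.2)) (N.inv_mem b.2.2)
    have h3 := htriv _ h1 h2
    apply Subtype.ext
    have h4 : Commute (a : G) (b : G) := commutatorElement_eq_one_iff_commute.mp h3
    exact h4.eq
  have hφ1 : φ 1 = 1 := irr_one_of_comm hcomm hφ
  have hφc := isCharacter_of_isIrrCharacter hφ
  let φh : ↥(E ⊓ N) →* ℂˣ := (H19.linCharHom φ hφc hφ1).toHomUnits
  have hφh : ∀ y, ((φh y : ℂˣ) : ℂ) = φ y := fun y => rfl
  let f : ↥(E ⊓ N) →* Abelianization ↥E :=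
    (Abelianization.of).comp (Subgroup.inclusion (inf_le_left : E ⊓ N ≤ E))
  have hf : Function.Injective f := by
    rw [injective_iff_map_eq_one]
    intro a ha
    have h1 : (Subgroup.inclusion (inf_le_left : E ⊓ N ≤ E) a) ∈ commutator ↥E := by
      rw [← Abelianization.ker_of]
      exact ha
    have h2 : (a : G) ∈ ⁅E, E⁆ := by
      have h3 : (commutator ↥E).map E.subtype = ⁅E, E⁆ := by
        rw [commutator_def, Subgroup.map_commutator, ← MonoidHom.range_eq_map,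
          Subgroup.range_subtype]
      rw [← h3]
      exact ⟨_, h1, rfl⟩
    exact Subtype.ext (htriv _ h2 a.2.2)
  let e : ↥(E ⊓ N) ≃* f.range := MonoidHom.ofInjective hf
  let φ' : f.range →* ℂˣ := φh.comp e.symm.toMonoidHom
  obtain ⟨Ψ, hΨ⟩ := MonoidHom.domRestrict_surjective (M := ℂ) f.range φ'
  let ψh : ↥E →* ℂ := (Units.coeHom ℂ).comp (Ψ.comp Abelianization.of)
  refine ⟨fun x => ψh x, H19.isCharacter_of_monoidHom ψh, fun y => ?_⟩
  show ((Ψ (f y) : ℂˣ) : ℂ) = φ y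
  have h1 : Ψ (f y) = φ' ⟨f y, ⟨y, rfl⟩⟩ := by
    rw [← hΨ]
    rfl
  rw [h1]
  show ((φh (e.symm ⟨f y, ⟨y, rfl⟩⟩) : ℂˣ) : ℂ) = φ y
  have h2 : e.symm ⟨f y, ⟨y, rfl⟩⟩ = y := by
    rw [MulEquiv.symm_apply_eq]
    rfl
  rw [h2, hφh]

end Comm

end Cfsg.Agent.Lib.Helper96
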