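import Cfsg.Agent.H26.AIC.L6

set_option autoImplicit false

/-! Helper lemmas for S2202 layer 7 (coset action on `G ⧸ NT P`). -/

namespace Cfsg.Agent.Lib.Helper96.Aic

open Subgroup Cfsg.Agent.H26 Cfsg.Agent.H26.AIC

variable {G : Type*} [Group G]

theorem smul_coset_eq_iff (H : Subgroup G) (g x : G) :
    g • (x : G ⧸ H) = (x : G ⧸ H) ↔ x⁻¹ * g * x ∈ H := by
  rw [MulAction.Quotient.smul_coe, QuotientGroup.eq, smul_eq_mul]
  constructor
  · intro h
    have h' := H.inv_mem h
    have e : ((g * x)⁻¹ * x)⁻¹ = x⁻¹ * g * x := by group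
    rw [e] at h'
    exact h'
  · intro h
    have h' := H.inv_mem h
    have e : (x⁻¹ * g * x)⁻¹ = (g * x)⁻¹ * x := by group
    rw [e] at h'
    exact h'

theorem coset_eq_one_iff (H : Subgroup G) (x : G) :
    (x : G ⧸ H) = ((1 : G) : G ⧸ H) ↔ x ∈ H := by
  rw [QuotientGroup.eq, mul_one]
  exact H.inv_mem_iff

theorem coset_eq_iff (H : Subgroup G) (x y : G) :
    (x : G ⧸ H) = (y : G ⧸ H) ↔ x⁻¹ * y ∈ H := QuotientGroup.eq

theorem card_ne_add_one (α : Type*) [Finite α] (a : α) :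
    Nat.card {c : α // c ≠ a} + 1 = Nat.card α := by
  classical
  have := Fintype.ofFinite α
  rw [Nat.card_eq_fintype_card, Nat.card_eq_fintype_card]
  have h := Fintype.card_subtype_compl (fun c : α => c = a)
  rw [Fintype.card_subtype_eq] at h
  have hpos : 0 < Fintype.card α := Fintype.card_pos_iff.mpr ⟨a⟩
  have h' : Fintype.card {c : α // c ≠ a} = Fintype.card α - 1 := by convert h
  omega

theorem exists_not_mem_NT {P : Sylow 2 G} (hP : Good P) : ∃ g0 : G, g0 ∉ NT P := by
  by_contra hcon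
  push Not at hcon
  apply hP.2
  exact Subgroup.normalizer_eq_top_iff.mp (eq_top_iff.mpr fun x _ => hcon x)

end Cfsg.Agent.Lib.Helper96.Aic
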