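import Mathlib
import Cfsg.Agent.H59.FRDefs
import Cfsg.Agent.S4565

/-!
# S4563-A2 (helper96, for helper59): in the local fully ramified setting with `G ⧸ M` cyclic,
the multiplicity of a character of `M` over `θ` in `ξ` is `1`.
-/

set_option autoImplicit false

namespace Cfsg.Agent.Lib.Helper96.FR

open Cfsg Cfsg.Agent.Clifford Cfsg.Agent.H59.FR Cfsg.Agent.H4

universe u

/-- the quotient of an intermediate subgroup embeds into the quotient of the group. -/
theorem isCyclic_quot_subgroupOf {G : Type u} [Group G] (M I : Subgroup G) [M.Normal]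
    (h : IsCyclic (G ⧸ M)) : IsCyclic (↥I ⧸ M.subgroupOf I) := by
  let f : ↥I ⧸ M.subgroupOf I →* G ⧸ M :=
    QuotientGroup.map (M.subgroupOf I) M I.subtype (fun x hx => hx)
  have hf : Function.Injective f := by
    rw [injective_iff_map_eq_one]
    intro x
    induction x using QuotientGroup.induction_on with
    | H x =>
      intro hx
      have h1 : ((x : G) : G ⧸ M) = 1 := hx
      rw [QuotientGroup.eq_one_iff] at h1 ⊢
      exact h1
  exact isCyclic_of_injective f hf

theorem a2 : A2Stmt.{u} := by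
  classical
  intro G _ _ Z M _ _ _ θ ξ e₁ hL hcyc η hη c hc hsq
  letI : Fintype G := Fintype.ofFinite G
  obtain ⟨hηirr, -⟩ := hη
  have hMI : M ≤ inertia M η :=
    le_inertia M (isClassFunction_of_isCharacter (isCharacter_of_isIrrCharacter hηirr))
  have hc0 : c ≠ 0 := by
    rintro rfl
    have h0 : M.relIndex (inertia M η) ≠ 0 := by
      show (M.subgroupOf (inertia M η)).index ≠ 0
      exact Subgroup.index_ne_zero_of_finite
    apply h0
    rw [← hsq]
    norm_num
  have h1 : classInner (fun n : ↥M => ξ n) η ≠ 0 := by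
    rw [hc]
    exact_mod_cast hc0
  letI : Fintype ↥(inertia M η) := Fintype.ofFinite _
  obtain ⟨ψ, hψ, -, hψc⟩ := clifford_corr_surj hηirr hMI rfl hL.irrξ h1
  have h1' : classInner (fun n : ↥M => ψ ⟨n, hMI n.2⟩) η ≠ 0 := by
    rw [hψc]
    exact h1
  have hres := res_eq_smul_of_le_inertia hηirr hMI le_rfl hψ h1'
  rw [hψc, hc] at hres
  by_cases hIM : inertia M η ≤ M
  · -- the inertia group is `M`: the index is `1`
    have h2 : M.relIndex (inertia M η) = 1 := Subgroup.relIndex_eq_one.2 hIM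
    rw [h2] at hsq
    exact (Nat.pow_eq_one.1 hsq).resolve_right (by norm_num)
  · exfalso
    let ε : ↥(M.subgroupOf (inertia M η)) ≃* ↥M := Subgroup.subgroupOfEquivOfLe hMI
    have hθ' : IsIrrCharacter ↥(M.subgroupOf (inertia M η)) (fun z => η (ε z)) :=
      isIrrCharacter_comp_equiv ε hηirr
    have hfr : ∃ (θ' : Cfsg.IrrCharacter ↥(M.subgroupOf (inertia M η))) (e : ℕ),
        e ^ 2 = (M.subgroupOf (inertia M η)).index ∧
          ∀ z : ↥(M.subgroupOf (inertia M η)), ((⟨ψ, hψ⟩ : Cfsg.IrrCharacter ↥(inertia M η)) : ↥(inertia M η) → ℂ) z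
            = (e : ℂ) * (θ' : ↥(M.subgroupOf (inertia M η)) → ℂ) z := by
      refine ⟨⟨_, hθ'⟩, c, hsq, ?_⟩
      intro z
      have h3 := congrFun hres (ε z)
      simp only [Pi.smul_apply, smul_eq_mul] at h3
      rw [← h3]
      show ψ (z : ↥(inertia M η)) = ψ ⟨((ε z : ↥M) : G), _⟩
      congr 1
    have hZ : M.subgroupOf (inertia M η) ≠ ⊤ := by
      intro h
      exact hIM (Subgroup.subgroupOf_eq_top.1 h)
    have hQ : IsCyclic (↥(inertia M η) ⧸ M.subgroupOf (inertia M η)) := isCyclic_quot_subgroupOf M (inertia M η) hcyc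
    have hC : IsCyclic ↥(⊤ : Subgroup (↥(inertia M η) ⧸ M.subgroupOf (inertia M η))) := inferInstance
    refine Cfsg.Agent.S4565.result (M.subgroupOf (inertia M η)) ⟨ψ, hψ⟩ hfr hZ ⊤ hC ?_
    ext x
    simp only [Subgroup.mem_centralizer_iff, Subgroup.mem_top, iff_true]
    intro y _
    let _ := IsCyclic.commGroup (α := ↥(inertia M η) ⧸ M.subgroupOf (inertia M η))
    exact mul_comm y x

end Cfsg.Agent.Lib.Helper96.FR
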