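import Mathlib
import Cfsg.Prelude.Def_Characters
import Cfsg.Agent.H4.Irr
import Cfsg.Agent.H4.Chars
import Cfsg.Agent.H83.Basic

/-!
# Averaging a function over the cosets of a subgroup (helper96)

For a finite group `N` and a subgroup `H`, `hAvg H f g = |H|⁻¹ ∑_{u ∈ H} f (g u)`.

* `hAvg_mul_right`, `hAvg_hAvg`, `sum_sub_hAvg` : elementary properties;
* `hAvg_isClassFunction` : for `H` normal the average of a class function is a class function;
* `hAvg_irr` : for `H` normal and `ϑ` irreducible, `hAvg H ϑ = c • ϑ` with `c = 0` or `c = 1`;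
* `classInner_hAvg_left` : averaging is self-adjoint;
* `classInner_cauchy` : the Cauchy-Schwarz inequality for `classInner`;
* `card_le_sum_normSq_sub_hAvg` : for a character `ψ` of `N` with `hAvg H ψ ≠ ψ`, the
  function `ψ - hAvg H ψ` has norm at least one, in the form `|N| ≤ ∑ |ψ g - hAvg H ψ g|²`.
-/

set_option autoImplicit false

namespace Cfsg.Agent.Lib.Helper96

open Cfsg Cfsg.Agent.H4
open scoped ComplexConjugate

section Avg

variable {N : Type*} [Group N] [Fintype N] (H : Subgroup N)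

open Classical in
/-- The average of `f` over the coset `g H`. -/
noncomputable def hAvg (f : N → ℂ) : N → ℂ :=
  fun g => (Nat.card H : ℂ)⁻¹ * ∑ u : N, if u ∈ H then f (g * u) else 0

open Classical in
theorem hAvg_apply (f : N → ℂ) (g : N) :
    hAvg H f g = (Nat.card H : ℂ)⁻¹ * ∑ u : N, if u ∈ H then f (g * u) else 0 := rfl

open Classical in
theorem sum_mem_const (c : ℂ) : (∑ u : N, if u ∈ H then c else 0) = (Nat.card H : ℂ) * c := by
  rw [← Finset.sum_filter, Finset.sum_const, nsmul_eq_mul]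
  congr 2
  rw [Nat.card_eq_fintype_card, Fintype.card_subtype]

theorem card_ne_zero_complex : (Nat.card H : ℂ) ≠ 0 := by
  exact_mod_cast (Nat.card_pos (α := H)).ne'

theorem hAvg_mul_right (f : N → ℂ) (g : N) {u : N} (hu : u ∈ H) :
    hAvg H f (g * u) = hAvg H f g := by
  classical
  rw [hAvg_apply, hAvg_apply]
  congr 1
  rw [← Equiv.sum_comp (Equiv.mulLeft u) (fun v => if v ∈ H then f (g * v) else 0)]
  refine Finset.sum_congr rfl fun v _ => ?_
  simp only [Equiv.coe_mulLeft]
  rw [mul_assoc]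
  have : (u * v ∈ H) ↔ v ∈ H := H.mul_mem_cancel_left hu
  simp only [this]

theorem hAvg_hAvg (f : N → ℂ) : hAvg H (hAvg H f) = hAvg H f := by
  classical
  funext g
  rw [hAvg_apply]
  have : ∀ u : N, (if u ∈ H then hAvg H f (g * u) else 0) = if u ∈ H then hAvg H f g else 0 := by
    intro u
    split_ifs with hu
    · exact hAvg_mul_right H f g hu
    · rfl
  simp only [this]
  rw [sum_mem_const, ← mul_assoc, inv_mul_cancel₀ (card_ne_zero_complex H), one_mul]

theorem hAvg_smul (c : ℂ) (f : N → ℂ) : hAvg H (c • f) = c • hAvg H f := by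
  classical
  funext g
  rw [hAvg_apply, Pi.smul_apply, hAvg_apply, smul_eq_mul]
  have : ∀ u : N, (if u ∈ H then (c • f) (g * u) else 0) = c * if u ∈ H then f (g * u) else 0 := by
    intro u
    split_ifs <;> simp
  simp only [this, ← Finset.mul_sum]
  ring

open Classical in
/-- The sum of `f - hAvg H f` over a coset vanishes. -/
theorem sum_sub_hAvg (f : N → ℂ) (g : N) :
    (∑ u : N, if u ∈ H then (f (g * u) - hAvg H f (g * u)) else 0) = 0 := by
  have : ∀ u : N, (if u ∈ H then (f (g * u) - hAvg H f (g * u)) else 0) =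
      (if u ∈ H then f (g * u) else 0) - if u ∈ H then hAvg H f g else 0 := by
    intro u
    split_ifs with hu
    · rw [hAvg_mul_right H f g hu]
    · simp
  simp only [this, Finset.sum_sub_distrib]
  rw [sum_mem_const, hAvg_apply, ← mul_assoc, mul_inv_cancel₀ (card_ne_zero_complex H), one_mul,
    sub_self]

theorem hAvg_isClassFunction [hH : H.Normal] {f : N → ℂ} (hf : IsClassFunction N f) :
    IsClassFunction N (hAvg H f) := by
  classical
  intro g x
  rw [hAvg_apply, hAvg_apply]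
  congr 1
  rw [← Equiv.sum_comp (MulAut.conj x⁻¹).toEquiv (fun v => if v ∈ H then f (g * v) else 0)]
  refine Finset.sum_congr rfl fun v _ => ?_
  simp only [MulEquiv.toEquiv_eq_coe, EquivLike.coe_coe, MulAut.conj_apply, inv_inv]
  have h1 : (x⁻¹ * v * x ∈ H) ↔ v ∈ H := by
    constructor
    · intro h
      have := hH.conj_mem _ h x
      simpa [mul_assoc] using this
    · intro h
      have := hH.conj_mem _ h x⁻¹
      simpa [mul_assoc] using this
  simp only [h1]
  split_ifs with hv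
  · have h2 := hf (g * (x⁻¹ * v * x)) x
    rw [← h2]
    congr 1
    group
  · rfl

/-- For `H` normal, the average of an irreducible character is proportional to it. -/
theorem hAvg_irr_mul [hH : H.Normal] {ϑ : N → ℂ} (hϑ : IsIrrCharacter N ϑ) (g : N) :
    hAvg H ϑ g * ϑ 1 = hAvg H ϑ 1 * ϑ g := by
  classical
  have hN : (Nat.card N : ℂ) ≠ 0 := by exact_mod_cast (Nat.card_pos (α := N)).ne'
  have h1 : ϑ 1 ≠ 0 := Cfsg.Agent.H83.IsIrrCharacter.one_ne_zero hϑ
  have key : ∀ y : N, ∑ x : N, ϑ (x * y * x⁻¹ * g) = (Nat.card N : ℂ) * ϑ y * ϑ g / ϑ 1 :=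
    fun y => Cfsg.Agent.H83.irr_sum_conj_mul hϑ y g
  -- sum over `y ∈ H`
  have e1 : (∑ y : N, if y ∈ H then ∑ x : N, ϑ (x * y * x⁻¹ * g) else 0) =
      (Nat.card N : ℂ) * ∑ y : N, if y ∈ H then ϑ (g * y) else 0 := by
    have : ∀ y : N, (if y ∈ H then ∑ x : N, ϑ (x * y * x⁻¹ * g) else 0) =
        ∑ x : N, if y ∈ H then ϑ (x * y * x⁻¹ * g) else 0 := by
      intro y
      split_ifs
      · rfl
      · simp
    simp only [this]
    rw [Finset.sum_comm]
    have h2 : ∀ x : N, (∑ y : N, if y ∈ H then ϑ (x * y * x⁻¹ * g) else 0) =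
        ∑ y : N, if y ∈ H then ϑ (g * y) else 0 := by
      intro x
      rw [← Equiv.sum_comp (MulAut.conj x).toEquiv (fun v => if v ∈ H then ϑ (g * v) else 0)]
      refine Finset.sum_congr rfl fun v _ => ?_
      simp only [MulEquiv.toEquiv_eq_coe, EquivLike.coe_coe, MulAut.conj_apply]
      have h3 : (x * v * x⁻¹ ∈ H) ↔ v ∈ H := by
        constructor
        · intro h
          have := hH.conj_mem _ h x⁻¹
          simpa [mul_assoc] using this
        · intro h
          exact hH.conj_mem _ h x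
      simp only [h3]
      split_ifs
      · exact Cfsg.Agent.H83.IsIrrCharacter.mul_comm hϑ _ _
      · rfl
    simp only [h2, Finset.sum_const, Finset.card_univ, nsmul_eq_mul, Nat.card_eq_fintype_card]
  have e2 : (∑ y : N, if y ∈ H then ∑ x : N, ϑ (x * y * x⁻¹ * g) else 0) =
      (Nat.card N : ℂ) * (∑ y : N, if y ∈ H then ϑ (1 * y) else 0) * ϑ g / ϑ 1 := by
    have : ∀ y : N, (if y ∈ H then ∑ x : N, ϑ (x * y * x⁻¹ * g) else 0) =
        (Nat.card N : ℂ) * (if y ∈ H then ϑ (1 * y) else 0) * ϑ g / ϑ 1 := by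
      intro y
      split_ifs
      · rw [key y, one_mul]
      · simp
    simp only [this]
    rw [← Finset.sum_div, ← Finset.sum_mul, ← Finset.mul_sum]
  have e3 : (∑ y : N, if y ∈ H then ϑ (g * y) else 0) * ϑ 1 =
      (∑ y : N, if y ∈ H then ϑ (1 * y) else 0) * ϑ g := by
    have h4 := e1.symm.trans e2
    have h5 : (Nat.card N : ℂ) * ((∑ y : N, if y ∈ H then ϑ (g * y) else 0) * ϑ 1) =
        (Nat.card N : ℂ) * ((∑ y : N, if y ∈ H then ϑ (1 * y) else 0) * ϑ g) := by
      rw [← mul_assoc, h4]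
      field_simp
    exact mul_left_cancel₀ hN h5
  rw [hAvg_apply, hAvg_apply, mul_assoc, e3, mul_assoc]

theorem hAvg_irr [hH : H.Normal] {ϑ : N → ℂ} (hϑ : IsIrrCharacter N ϑ) :
    hAvg H ϑ = 0 ∨ hAvg H ϑ = ϑ := by
  have h1 : ϑ 1 ≠ 0 := Cfsg.Agent.H83.IsIrrCharacter.one_ne_zero hϑ
  set c : ℂ := hAvg H ϑ 1 / ϑ 1 with hc
  have hscal : hAvg H ϑ = c • ϑ := by
    funext g
    rw [Pi.smul_apply, smul_eq_mul, hc, div_mul_eq_mul_div, ← hAvg_irr_mul H hϑ g]
    field_simp
  have hcc : c * c = c := by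
    have h2 := hAvg_hAvg H ϑ
    rw [hscal, hAvg_smul, hscal] at h2
    have h3 := congrFun h2 1
    simp only [Pi.smul_apply, smul_eq_mul] at h3
    have h4 : (c * c - c) * ϑ 1 = 0 := by linear_combination h3
    rcases mul_eq_zero.mp h4 with h5 | h5
    · linear_combination h5
    · exact absurd h5 h1
  have hc01 : c = 0 ∨ c = 1 := by
    have : c * (c - 1) = 0 := by linear_combination hcc
    rcases mul_eq_zero.mp this with h | h
    · exact Or.inl h
    · exact Or.inr (by linear_combination h)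
  rcases hc01 with h | h
  · left; rw [hscal, h, zero_smul]
  · right; rw [hscal, h, one_smul]

/-- Averaging is self-adjoint for `classInner`. -/
theorem classInner_hAvg_left (f ϑ : N → ℂ) :
    classInner (hAvg H f) ϑ = classInner f (hAvg H ϑ) := by
  classical
  unfold classInner
  congr 1
  have hq : conj ((Nat.card H : ℂ)⁻¹) = (Nat.card H : ℂ)⁻¹ := by
    rw [map_inv₀, Complex.conj_natCast]
  -- left side
  have eL : ∑ g : N, hAvg H f g * conj (ϑ g) =
      (Nat.card H : ℂ)⁻¹ * ∑ u : N, ∑ g : N, if u ∈ H then f (g * u) * conj (ϑ g) else 0 := by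
    rw [Finset.sum_comm, Finset.mul_sum]
    refine Finset.sum_congr rfl fun g _ => ?_
    rw [hAvg_apply, mul_assoc, Finset.sum_mul]
    congr 1
    refine Finset.sum_congr rfl fun u _ => ?_
    split_ifs <;> simp
  have eR : ∑ g : N, f g * conj (hAvg H ϑ g) =
      (Nat.card H : ℂ)⁻¹ * ∑ u : N, ∑ g : N, if u ∈ H then f g * conj (ϑ (g * u⁻¹)) else 0 := by
    rw [Finset.sum_comm, Finset.mul_sum]
    refine Finset.sum_congr rfl fun g _ => ?_
    rw [hAvg_apply, map_mul, hq, map_sum, ← mul_assoc, mul_comm (f g), mul_assoc, Finset.mul_sum]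
    congr 1
    rw [← Equiv.sum_comp (Equiv.inv N)]
    refine Finset.sum_congr rfl fun u _ => ?_
    simp only [Equiv.inv_apply, inv_mem_iff]
    split_ifs <;> simp
  rw [eL, eR]
  congr 1
  refine Finset.sum_congr rfl fun u _ => ?_
  rw [← Equiv.sum_comp (Equiv.mulRight u)
    (fun g => if u ∈ H then f g * conj (ϑ (g * u⁻¹)) else 0)]
  refine Finset.sum_congr rfl fun g _ => ?_
  simp only [Equiv.coe_mulRight, mul_inv_cancel_right]

end Avg

section CS

variable {N : Type*} [Group N] [Fintype N]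

theorem classInner_self_re (f : N → ℂ) :
    (classInner f f).re = (Nat.card N : ℝ)⁻¹ * ∑ g : N, Complex.normSq (f g) := by
  unfold classInner
  have h1 : ∑ g : N, f g * conj (f g) = ((∑ g : N, Complex.normSq (f g) : ℝ) : ℂ) := by
    push_cast
    refine Finset.sum_congr rfl fun g _ => ?_
    rw [Complex.mul_conj]
  rw [h1]
  have h2 : ((Nat.card N : ℂ)⁻¹) = (((Nat.card N : ℝ)⁻¹ : ℝ) : ℂ) := by push_cast; rfl
  rw [h2, ← Complex.ofReal_mul, Complex.ofReal_re]

/-- Cauchy-Schwarz for `classInner`. -/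
theorem classInner_cauchy (f g : N → ℂ) :
    Complex.normSq (classInner f g) ≤ (classInner f f).re * (classInner g g).re := by
  rw [classInner_self_re, classInner_self_re]
  unfold classInner
  rw [Complex.normSq_mul]
  have hc : Complex.normSq ((Nat.card N : ℂ)⁻¹) = (Nat.card N : ℝ)⁻¹ * (Nat.card N : ℝ)⁻¹ := by
    rw [Complex.normSq_inv, Complex.normSq_natCast, mul_inv]
  rw [hc]
  have hpos : (0 : ℝ) ≤ (Nat.card N : ℝ)⁻¹ := by positivity
  have key : Complex.normSq (∑ x : N, f x * conj (g x)) ≤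
      (∑ x : N, Complex.normSq (f x)) * ∑ x : N, Complex.normSq (g x) := by
    have h1 : ‖∑ x : N, f x * conj (g x)‖ ≤ ∑ x : N, ‖f x‖ * ‖g x‖ := by
      refine (norm_sum_le _ _).trans (le_of_eq ?_)
      refine Finset.sum_congr rfl fun x _ => ?_
      rw [norm_mul, RCLike.norm_conj]
    have h2 : (∑ x : N, ‖f x‖ * ‖g x‖) ^ 2 ≤ (∑ x : N, ‖f x‖ ^ 2) * ∑ x : N, ‖g x‖ ^ 2 :=
      Finset.sum_mul_sq_le_sq_mul_sq _ _ _
    have h3 : Complex.normSq (∑ x : N, f x * conj (g x)) = ‖∑ x : N, f x * conj (g x)‖ ^ 2 :=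
      Complex.normSq_eq_norm_sq _
    rw [h3]
    have h4 : ‖∑ x : N, f x * conj (g x)‖ ^ 2 ≤ (∑ x : N, ‖f x‖ * ‖g x‖) ^ 2 :=
      pow_le_pow_left₀ (norm_nonneg _) h1 2
    refine (h4.trans h2).trans (le_of_eq ?_)
    congr 1 <;> exact Finset.sum_congr rfl fun x _ => (Complex.normSq_eq_norm_sq _).symm
  calc (Nat.card N : ℝ)⁻¹ * (Nat.card N : ℝ)⁻¹ * Complex.normSq (∑ x : N, f x * conj (g x))
      ≤ (Nat.card N : ℝ)⁻¹ * (Nat.card N : ℝ)⁻¹ *
        ((∑ x : N, Complex.normSq (f x)) * ∑ x : N, Complex.normSq (g x)) :=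
        mul_le_mul_of_nonneg_left key (mul_nonneg hpos hpos)
    _ = _ := by ring

end CS

section Main

variable {N : Type*} [Group N] [Fintype N] (H : Subgroup N)

/-- For a character `ψ` of `N` and a normal subgroup `H` with `hAvg H ψ ≠ ψ`, the class function
`ψ - hAvg H ψ` has norm at least one. -/
theorem card_le_sum_normSq_sub_hAvg [hH : H.Normal] {ψ : N → ℂ} (hψ : IsCharacter N ψ)
    (hne : hAvg H ψ ≠ ψ) :
    (Nat.card N : ℝ) ≤ ∑ g : N, Complex.normSq (ψ g - hAvg H ψ g) := by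
  classical
  set f : N → ℂ := ψ - hAvg H ψ with hf
  have hfc : IsClassFunction N f :=
    isClassFunction_sub (isClassFunction_of_isCharacter hψ)
      (hAvg_isClassFunction H (isClassFunction_of_isCharacter hψ))
  have hf0 : f ≠ 0 := by
    intro h0
    apply hne
    have : ψ - hAvg H ψ = 0 := h0
    exact (sub_eq_zero.mp this).symm
  have hex : ∃ ϑ : IrrCharacter N, classInner f ϑ.1 ≠ 0 := by
    by_contra hall
    push Not at hall
    exact hf0 (eq_zero_of_inner_irr_eq_zero hfc hall)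
  obtain ⟨ϑ, hϑ⟩ := hex
  obtain ⟨d, hd⟩ := classInner_isCharacter_nat hψ (isCharacter_of_isIrrCharacter ϑ.2)
  have hval : classInner f ϑ.1 = (d : ℂ) ∧ d ≠ 0 := by
    have e1 : classInner f ϑ.1 = classInner ψ ϑ.1 - classInner ψ (hAvg H ϑ.1) := by
      rw [hf, classInner_sub_left, classInner_hAvg_left]
    rcases hAvg_irr H ϑ.2 with h0 | h1
    · rw [h0, classInner_zero_right, sub_zero, hd] at e1
      refine ⟨e1, ?_⟩
      intro hd0
      rw [e1, hd0] at hϑ
      exact hϑ (by simp)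
    · rw [h1, sub_self] at e1
      exact absurd e1 hϑ
  obtain ⟨hval, hd0⟩ := hval
  have hcs := classInner_cauchy f ϑ.1
  rw [hval, irr_inner_self ϑ, Complex.one_re, mul_one, Complex.normSq_natCast,
    classInner_self_re] at hcs
  have hd1 : (1 : ℝ) ≤ (d : ℝ) * (d : ℝ) := by
    have : 1 ≤ d := Nat.one_le_iff_ne_zero.mpr hd0
    have h1 : (1 : ℝ) ≤ (d : ℝ) := by exact_mod_cast this
    nlinarith
  have hNpos : (0 : ℝ) < (Nat.card N : ℝ) := by exact_mod_cast Nat.card_pos (α := N)
  have h2 : (1 : ℝ) ≤ (Nat.card N : ℝ)⁻¹ * ∑ g : N, Complex.normSq (f g) := hd1.trans hcs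
  have h3 : (Nat.card N : ℝ) * 1 ≤ (Nat.card N : ℝ) *
      ((Nat.card N : ℝ)⁻¹ * ∑ g : N, Complex.normSq (f g)) :=
    mul_le_mul_of_nonneg_left h2 hNpos.le
  rw [mul_one, ← mul_assoc, mul_inv_cancel₀ hNpos.ne', one_mul] at h3
  exact h3

end Main

end Cfsg.Agent.Lib.Helper96
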