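import Mathlib
import Cfsg.Prelude.Def_Characters
import Cfsg.Agent.Lib.Helper96.FTAvg
import Cfsg.Agent.Lib.Helper96.DadeExt
import Cfsg.Agent.Lib.Clifford
import Cfsg.Agent.H4.RealClasses
import Cfsg.Agent.H4.CharBasic

/-!
# The Feit-Thompson degree bound for an abelian subgroup (helper96)

`ft_bound` : let `H` be an abelian subgroup of `G` with `H ∩ Z(G) = 1` such that the centralizer
of a non-central element meets at most one conjugate of `H` nontrivially, and let `χ` be an
irreducible character of `G` not constant on `H`.  Then `|H| · |a|² < χ(1)²` where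
`a = hAvg H χ 1 = [χ|H, 1_H]`.
-/

set_option autoImplicit false

namespace Cfsg.Agent.Lib.Helper96

open Cfsg Cfsg.Agent.H4
open scoped ComplexConjugate

section Tools

variable {G : Type*} [Group G]

/-- If `g` normalises `H` and centralises no nontrivial element of `H`, then every element of
the coset `g H` is conjugate to `g`; so a class function is constant on `g H`. -/
theorem classFunction_mul_of_fpf [Finite G] (H : Subgroup G) {χ : G → ℂ}
    (hχ : IsClassFunction G χ) {g : G} (hg : g ∈ Subgroup.normalizer (H : Set G))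
    (hfp : ∀ y ∈ H, g * y = y * g → y = 1) : ∀ u ∈ H, χ (g * u) = χ g := by
  have hmem : ∀ k : H, g⁻¹ * (k : G)⁻¹ * g * k ∈ H := by
    intro k
    have h1 : g⁻¹ * (k : G)⁻¹ * g ∈ H :=
      (Subgroup.mem_normalizer_iff''.mp hg _).mp (inv_mem k.2)
    exact mul_mem h1 k.2
  let f : H → H := fun k => ⟨g⁻¹ * (k : G)⁻¹ * g * k, hmem k⟩
  have hinj : Function.Injective f := by
    intro k k' hkk
    have h1 : g⁻¹ * (k : G)⁻¹ * g * k = g⁻¹ * (k' : G)⁻¹ * g * k' := congrArg Subtype.val hkk
    have h2 : g * ((k : G) * (k' : G)⁻¹) = ((k : G) * (k' : G)⁻¹) * g := by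
      have h3 : (k : G)⁻¹ * g * k = (k' : G)⁻¹ * g * k' := by
        have := congrArg (fun t => g * t) h1
        simpa [mul_assoc] using this
      have h4 : g * k = (k : G) * ((k' : G)⁻¹ * g * k') := by
        rw [← h3]; group
      calc g * ((k : G) * (k' : G)⁻¹) = (g * k) * (k' : G)⁻¹ := by group
        _ = (k : G) * ((k' : G)⁻¹ * g * k') * (k' : G)⁻¹ := by rw [h4]
        _ = ((k : G) * (k' : G)⁻¹) * g := by group
    have h5 := hfp _ (mul_mem k.2 (inv_mem k'.2)) h2
    apply Subtype.ext
    exact mul_inv_eq_one.mp h5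
  have hsurj : Function.Surjective f := Finite.injective_iff_surjective.mp hinj
  intro u hu
  obtain ⟨k, hk⟩ := hsurj ⟨u, hu⟩
  have h1 : g⁻¹ * (k : G)⁻¹ * g * k = u := congrArg Subtype.val hk
  have h2 : g * u = (k : G)⁻¹ * g * (k : G)⁻¹⁻¹ := by
    rw [← h1]; group
  rw [h2]
  exact hχ g _

/-- Double counting over the conjugates of a subset. -/
theorem card_mul_sum_le [Fintype G] [DecidableEq G] (S : Finset G) (F : G → ℝ)
    (hF : ∀ g x : G, F (x * g * x⁻¹) = F g) (hF0 : ∀ g, 0 ≤ F g) (c : G → ℕ)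
    (hc : ∀ g' : G, (Finset.univ.filter (fun x : G => x⁻¹ * g' * x ∈ S)).card ≤ c g') :
    (Fintype.card G : ℝ) * ∑ g ∈ S, F g ≤ ∑ g' : G, F g' * (c g' : ℝ) := by
  have h1 : ∀ x : G, ∑ g ∈ S, F g = ∑ g' : G, if x⁻¹ * g' * x ∈ S then F g' else 0 := by
    intro x
    rw [← Equiv.sum_comp (MulAut.conj x).toEquiv (fun g' => if x⁻¹ * g' * x ∈ S then F g' else 0)]
    have : ∀ g : G, (if x⁻¹ * ((MulAut.conj x).toEquiv g) * x ∈ S then
        F ((MulAut.conj x).toEquiv g) else 0) = if g ∈ S then F g else 0 := by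
      intro g
      have e1 : x⁻¹ * ((MulAut.conj x).toEquiv g) * x = g := by
        simp [mul_assoc]
      have e2 : F ((MulAut.conj x).toEquiv g) = F g := by
        simpa using hF g x
      rw [e1, e2]
    simp only [this]
    rw [← Finset.sum_filter]
    congr 1
    ext g
    simp
  have h2 : (Fintype.card G : ℝ) * ∑ g ∈ S, F g =
      ∑ x : G, ∑ g' : G, if x⁻¹ * g' * x ∈ S then F g' else 0 := by
    rw [← Finset.card_univ, ← nsmul_eq_mul, ← Finset.sum_const]
    exact Finset.sum_congr rfl fun x _ => h1 x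
  rw [h2, Finset.sum_comm]
  refine Finset.sum_le_sum fun g' _ => ?_
  rw [← Finset.sum_filter, Finset.sum_const, nsmul_eq_mul, mul_comm]
  exact mul_le_mul_of_nonneg_left (by exact_mod_cast hc g') (hF0 g')

end Tools

section Bound

variable {G : Type*} [Group G] [Fintype G]

/-- **Feit-Thompson**: the degree bound for an abelian subgroup `H` such that centralizers of
non-central elements meet at most one conjugate of `H` nontrivially. -/
theorem ft_bound (H : Subgroup G)
    (hab : ∀ a ∈ H, ∀ b ∈ H, a * b = b * a) (hZ : H ⊓ Subgroup.center G = ⊥)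
    (hone : ∀ g : G, g ∉ Subgroup.center G → ∀ a b : G,
      Subgroup.centralizer ({g} : Set G) ⊓ H.map (MulAut.conj a).toMonoidHom ≠ ⊥ →
      Subgroup.centralizer ({g} : Set G) ⊓ H.map (MulAut.conj b).toMonoidHom ≠ ⊥ →
      H.map (MulAut.conj a).toMonoidHom = H.map (MulAut.conj b).toMonoidHom)
    (χ : G → ℂ) (hχ : IsIrrCharacter G χ) (hker : ∃ h ∈ H, χ h ≠ χ 1) :
    (Nat.card H : ℝ) * Complex.normSq (hAvg H χ 1) < Complex.normSq (χ 1) := by
  classical
  obtain ⟨h0, hh0, hχh0⟩ := hker
  have hh01 : h0 ≠ 1 := fun h => hχh0 (by rw [h])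
  have hχc : IsClassFunction G χ :=
    isClassFunction_of_isCharacter (isCharacter_of_isIrrCharacter hχ)
  set ω : G → ℂ := hAvg H χ with hω
  set χ' : G → ℂ := fun g => χ g - ω g with hχ'
  set P : G → Prop := fun g => ∃ y ∈ H, y ≠ 1 ∧ g * y = y * g with hP
  set Nn : Subgroup G := Subgroup.normalizer (H : Set G) with hNn
  set F : G → ℝ := fun g => Complex.normSq (χ g) with hFdef
  have hF0 : ∀ g, 0 ≤ F g := fun g => Complex.normSq_nonneg _
  have hFc : ∀ g x : G, F (x * g * x⁻¹) = F g := fun g x => by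
    show Complex.normSq (χ (x * g * x⁻¹)) = Complex.normSq (χ g)
    rw [hχc g x]
  set q : ℝ := (Nat.card H : ℝ) with hq
  set M : ℝ := (Nat.card Nn : ℝ) with hM
  have hMpos : 0 < M := by rw [hM]; exact_mod_cast Nat.card_pos (α := Nn)
  have hGpos : (0 : ℝ) < (Fintype.card G : ℝ) := by exact_mod_cast Fintype.card_pos (α := G)
  have hχ1 : χ 1 ≠ 0 := Cfsg.Agent.H83.IsIrrCharacter.one_ne_zero hχ
  -- (T) total sum
  have hT : ∑ g : G, F g = (Fintype.card G : ℝ) := by
    have h1 := irr_inner_self (⟨χ, hχ⟩ : IrrCharacter G)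
    have h2 := classInner_self_re χ
    rw [h1, Complex.one_re, Nat.card_eq_fintype_card] at h2
    have h3 : (Fintype.card G : ℝ) * 1 =
        (Fintype.card G : ℝ) * ((Fintype.card G : ℝ)⁻¹ * ∑ g : G, F g) := by rw [← h2]
    rw [mul_one, ← mul_assoc, mul_inv_cancel₀ hGpos.ne', one_mul] at h3
    exact h3.symm
  -- central elements satisfy P
  have hZP : ∀ z ∈ Subgroup.center G, P z := by
    intro z hz
    exact ⟨h0, hh0, hh01, (Subgroup.mem_center_iff.mp hz h0).symm⟩
  -- P is stable under right multiplication by H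
  have hPmul : ∀ (g u : G), u ∈ H → (P (g * u) ↔ P g) := by
    intro g u hu
    constructor
    · rintro ⟨y, hy, hy1, hc⟩
      refine ⟨y, hy, hy1, ?_⟩
      have h1 : u * y = y * u := hab u hu y hy
      have h2 : g * y * u = y * g * u := by
        calc g * y * u = g * (y * u) := by group
          _ = g * (u * y) := by rw [h1]
          _ = g * u * y := by group
          _ = y * (g * u) := hc
          _ = y * g * u := by group
      exact mul_right_cancel h2
    · rintro ⟨y, hy, hy1, hc⟩
      refine ⟨y, hy, hy1, ?_⟩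
      have h1 : u * y = y * u := hab u hu y hy
      calc g * u * y = g * (u * y) := by group
        _ = g * (y * u) := by rw [h1]
        _ = g * y * u := by group
        _ = y * g * u := by rw [hc]
        _ = y * (g * u) := by group
  -- χ' vanishes on the elements of the normalizer acting fixed point freely
  have hχ'0 : ∀ g ∈ Nn, ¬ P g → χ' g = 0 := by
    intro g hg hnP
    have hfp : ∀ y ∈ H, g * y = y * g → y = 1 := by
      intro y hy hc
      by_contra hy1
      exact hnP ⟨y, hy, hy1, hc⟩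
    have h1 := classFunction_mul_of_fpf H hχc hg hfp
    show χ g - ω g = 0
    rw [hω, hAvg_apply]
    have h2 : ∀ u : G, (if u ∈ H then χ (g * u) else 0) = if u ∈ H then χ g else 0 := by
      intro u
      split_ifs with hu
      · exact h1 u hu
      · rfl
    simp only [h2]
    rw [sum_mem_const, ← mul_assoc, inv_mul_cancel₀ (card_ne_zero_complex H), one_mul, sub_self]
  -- (L2)
  have hL2 : M ≤ ∑ g ∈ Finset.univ.filter P, Complex.normSq (χ' g) := by
    have hle : H ≤ Nn := Subgroup.le_normalizer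
    haveI : (H.subgroupOf Nn).Normal := Subgroup.normal_in_normalizer
    let ψ : Nn → ℂ := fun g => χ g
    have hψ : IsCharacter Nn ψ := isCharacter_restrict Nn (isCharacter_of_isIrrCharacter hχ)
    have havg : ∀ g : Nn, hAvg (H.subgroupOf Nn) ψ g = ω g := by
      intro g
      rw [hω, hAvg_apply, hAvg_apply]
      congr 1
      · rw [Nat.card_congr (Subgroup.subgroupOfEquivOfLe hle).toEquiv]
      · have e1 : ∑ u : G, (if u ∈ H then χ ((g : G) * u) else 0) =
            ∑ u ∈ Finset.univ.filter (· ∈ Nn), (if u ∈ H then χ ((g : G) * u) else 0) := by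
          symm
          apply Finset.sum_subset (Finset.subset_univ _)
          intro u _ hu
          have : u ∉ H := fun h => hu (by simpa using hle h)
          simp [this]
        rw [e1, Finset.sum_subtype (Finset.univ.filter (· ∈ Nn)) (p := (· ∈ Nn))
          (fun x => by simp)]
        refine Finset.sum_congr rfl fun u _ => ?_
        simp only [Subgroup.mem_subgroupOf]
        rfl
    have hne : hAvg (H.subgroupOf Nn) ψ ≠ ψ := by
      intro heq
      have h1 := congrFun heq ⟨h0, hle hh0⟩
      have h2 := congrFun heq 1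
      have h3 : hAvg (H.subgroupOf Nn) ψ ((1 : Nn) * ⟨h0, hle hh0⟩) =
          hAvg (H.subgroupOf Nn) ψ 1 :=
        hAvg_mul_right _ ψ 1 (by rw [Subgroup.mem_subgroupOf]; exact hh0)
      rw [one_mul, h1, h2] at h3
      exact hχh0 h3
    have h4 := card_le_sum_normSq_sub_hAvg (H.subgroupOf Nn) hψ hne
    have h5 : ∑ g : Nn, Complex.normSq (ψ g - hAvg (H.subgroupOf Nn) ψ g) =
        ∑ g ∈ Finset.univ.filter (· ∈ Nn), Complex.normSq (χ' g) := by
      rw [Finset.sum_subtype (Finset.univ.filter (· ∈ Nn)) (p := (· ∈ Nn)) (fun x => by simp)]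
      refine Finset.sum_congr rfl fun g _ => ?_
      rw [havg g]
    rw [h5] at h4
    have h6 : ∑ g ∈ Finset.univ.filter (· ∈ Nn), Complex.normSq (χ' g) =
        ∑ g ∈ (Finset.univ.filter (· ∈ Nn)).filter P, Complex.normSq (χ' g) := by
      symm
      apply Finset.sum_filter_of_ne
      intro g hg hne0
      by_contra hnP
      apply hne0
      rw [hχ'0 g (by simpa using hg) hnP, map_zero]
    have h7 : ∑ g ∈ (Finset.univ.filter (· ∈ Nn)).filter P, Complex.normSq (χ' g) ≤
        ∑ g ∈ Finset.univ.filter P, Complex.normSq (χ' g) := by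
      apply Finset.sum_le_sum_of_subset_of_nonneg
      · intro g hg
        simp only [Finset.mem_filter, Finset.mem_univ, true_and] at hg ⊢
        exact hg.2
      · intro g _ _
        exact Complex.normSq_nonneg _
    calc M ≤ _ := h4
      _ = _ := h6
      _ ≤ _ := h7
  -- cross term
  have hcross : ∑ g ∈ Finset.univ.filter P, ω g * conj (χ' g) = 0 := by
    set Φ : G → ℂ := fun g => ω g * conj (χ' g) with hΦ
    have h1 : ∀ u ∈ H, ∑ g ∈ Finset.univ.filter P, Φ (g * u) =
        ∑ g ∈ Finset.univ.filter P, Φ g := by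
      intro u hu
      apply Finset.sum_equiv (Equiv.mulRight u)
      · intro g
        simp only [Finset.mem_filter, Finset.mem_univ, true_and, Equiv.coe_mulRight]
        exact (hPmul g u hu).symm
      · intro g _
        rfl
    have h2 : (Nat.card H : ℂ) * ∑ g ∈ Finset.univ.filter P, Φ g =
        ∑ g ∈ Finset.univ.filter P, ∑ u : G, if u ∈ H then Φ (g * u) else 0 := by
      rw [Finset.sum_comm, ← sum_mem_const H]
      refine Finset.sum_congr rfl fun u _ => ?_
      split_ifs with hu
      · exact (h1 u hu).symm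
      · simp
    have h3 : ∀ g : G, (∑ u : G, if u ∈ H then Φ (g * u) else 0) = 0 := by
      intro g
      have h4 : ∀ u : G, (if u ∈ H then Φ (g * u) else 0) =
          ω g * conj (if u ∈ H then (χ (g * u) - hAvg H χ (g * u)) else 0) := by
        intro u
        split_ifs with hu
        · show ω (g * u) * conj (χ (g * u) - ω (g * u)) = _
          rw [hω, hAvg_mul_right H χ g hu]
        · simp
      simp only [h4]
      rw [← Finset.mul_sum, ← map_sum, sum_sub_hAvg, map_zero, mul_zero]
    simp only [h3, Finset.sum_const_zero] at h2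
    exact (mul_eq_zero.mp h2).resolve_left (card_ne_zero_complex H)
  -- (L1)
  have hL1 : ∑ g ∈ Finset.univ.filter P, F g =
      ∑ g ∈ Finset.univ.filter P, Complex.normSq (ω g) +
        ∑ g ∈ Finset.univ.filter P, Complex.normSq (χ' g) := by
    have h1 : ∀ g : G, F g =
        Complex.normSq (ω g) + Complex.normSq (χ' g) + 2 * (ω g * conj (χ' g)).re := by
      intro g
      have h2 : χ g = ω g + χ' g := by rw [hχ']; ring
      show Complex.normSq (χ g) = _
      rw [h2, Complex.normSq_add]
    simp only [h1, Finset.sum_add_distrib]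
    rw [← Finset.mul_sum, ← Complex.re_sum, hcross]
    simp
  -- (L3)
  have hL3 : q * ∑ z ∈ Finset.univ.filter (· ∈ Subgroup.center G), Complex.normSq (ω z) ≤
      ∑ g ∈ Finset.univ.filter P, Complex.normSq (ω g) := by
    set Zs := Finset.univ.filter (· ∈ Subgroup.center G) with hZs
    set Hs := Finset.univ.filter (· ∈ H) with hHs
    have hinj : Set.InjOn (fun p : G × G => p.1 * p.2) (Zs ×ˢ Hs : Finset (G × G)) := by
      rintro ⟨z, h⟩ hp ⟨z', h'⟩ hp' heq
      simp only [Finset.coe_product, Set.mem_prod, Finset.mem_coe, hZs, hHs, Finset.mem_filter,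
        Finset.mem_univ, true_and] at hp hp'
      have heq' : z * h = z' * h' := heq
      have h1 : h * h'⁻¹ = z⁻¹ * z' := by
        have h2 : h = z⁻¹ * z' * h' := by
          rw [mul_assoc, ← heq']; group
        rw [h2]; group
      have h2 : h * h'⁻¹ ∈ H ⊓ Subgroup.center G :=
        Subgroup.mem_inf.mpr
          ⟨mul_mem hp.2 (inv_mem hp'.2), by rw [h1]; exact mul_mem (inv_mem hp.1) hp'.1⟩
      rw [hZ, Subgroup.mem_bot] at h2
      have h3 : h = h' := mul_inv_eq_one.mp h2
      have h4 : z = z' := by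
        rw [h3] at heq'
        exact mul_right_cancel heq'
      rw [h3, h4]
    have himg : (Zs ×ˢ Hs).image (fun p : G × G => p.1 * p.2) ⊆ Finset.univ.filter P := by
      intro g hg
      obtain ⟨⟨z, h⟩, hp, rfl⟩ := Finset.mem_image.mp hg
      simp only [Finset.mem_product, hZs, hHs, Finset.mem_filter, Finset.mem_univ,
        true_and] at hp
      simp only [Finset.mem_filter, Finset.mem_univ, true_and]
      exact (hPmul z h hp.2).mpr (hZP z hp.1)
    have h1 : ∑ g ∈ (Zs ×ˢ Hs).image (fun p : G × G => p.1 * p.2), Complex.normSq (ω g) =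
        q * ∑ z ∈ Zs, Complex.normSq (ω z) := by
      rw [Finset.sum_image hinj, Finset.sum_product, Finset.mul_sum]
      refine Finset.sum_congr rfl fun z _ => ?_
      have h2 : ∀ h ∈ Hs, Complex.normSq (ω (z * h)) = Complex.normSq (ω z) := by
        intro h hh
        simp only [hHs, Finset.mem_filter, Finset.mem_univ, true_and] at hh
        rw [hω, hAvg_mul_right H χ z hh]
      rw [Finset.sum_congr rfl h2, Finset.sum_const, nsmul_eq_mul]
      congr 1
      rw [hq, hHs, Nat.card_eq_fintype_card, Fintype.card_subtype]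
    rw [← h1]
    exact Finset.sum_le_sum_of_subset_of_nonneg himg (fun g _ _ => Complex.normSq_nonneg _)
  -- (S) central elements act as scalars
  have hS : ∀ z ∈ Subgroup.center G,
      Complex.normSq (ω z) * Complex.normSq (χ 1) = F z * Complex.normSq (ω 1) := by
    intro z hz
    have hmul : ∀ u : G, χ (z * u) * χ 1 = χ z * χ u := by
      intro u
      have h1 := Cfsg.Agent.H83.irr_sum_conj_mul hχ z u
      have h2 : ∀ x : G, χ (x * z * x⁻¹ * u) = χ (z * u) := by
        intro x
        have h3 : x * z * x⁻¹ = z := by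
          have h4 := Subgroup.mem_center_iff.mp hz x
          rw [h4]; group
        rw [h3]
      simp only [h2, Finset.sum_const, Finset.card_univ, nsmul_eq_mul] at h1
      have hG : (Fintype.card G : ℂ) ≠ 0 := by exact_mod_cast Fintype.card_pos.ne'
      rw [Nat.card_eq_fintype_card] at h1
      have h5 : (Fintype.card G : ℂ) * (χ (z * u) * χ 1) = (Fintype.card G : ℂ) * (χ z * χ u) := by
        rw [← mul_assoc, h1]
        field_simp
      exact mul_left_cancel₀ hG h5
    have hsum : (∑ u : G, if u ∈ H then χ (z * u) else 0) * χ 1 =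
        χ z * ∑ u : G, if u ∈ H then χ (1 * u) else 0 := by
      rw [Finset.sum_mul, Finset.mul_sum]
      refine Finset.sum_congr rfl fun u _ => ?_
      split_ifs
      · rw [hmul u, one_mul]
      · simp
    have h3 : ω z * χ 1 = χ z * ω 1 := by
      rw [hω, hAvg_apply, hAvg_apply, mul_assoc, hsum]
      ring
    have h4 := congrArg Complex.normSq h3
    rw [Complex.normSq_mul, Complex.normSq_mul] at h4
    exact h4
  -- (U)
  have hU : (Fintype.card G : ℝ) *
      ∑ g ∈ Finset.univ.filter (fun g => P g ∧ g ∉ Subgroup.center G), F g ≤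
      M * ((Fintype.card G : ℝ) - ∑ z ∈ Finset.univ.filter (· ∈ Subgroup.center G), F z) := by
    set S := Finset.univ.filter (fun g => P g ∧ g ∉ Subgroup.center G) with hS'
    let c : G → ℕ := fun g' => if g' ∈ Subgroup.center G then 0 else Nat.card Nn
    have hmeet : ∀ (g' x : G), x⁻¹ * g' * x ∈ S →
        Subgroup.centralizer ({g'} : Set G) ⊓ H.map (MulAut.conj x).toMonoidHom ≠ ⊥ := by
      intro g' x hx
      simp only [hS', Finset.mem_filter, Finset.mem_univ, true_and] at hx
      obtain ⟨⟨y, hy, hy1, hc⟩, -⟩ := hx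
      intro hbot
      have hw : x * y * x⁻¹ ∈ Subgroup.centralizer ({g'} : Set G) ⊓
          H.map (MulAut.conj x).toMonoidHom := by
        refine Subgroup.mem_inf.mpr ⟨?_, ?_⟩
        · rw [Subgroup.mem_centralizer_iff]
          intro t ht
          rw [Set.mem_singleton_iff] at ht
          subst ht
          have h1 : x * (x⁻¹ * t * x * y) * x⁻¹ = x * (y * (x⁻¹ * t * x)) * x⁻¹ := by rw [hc]
          calc t * (x * y * x⁻¹) = x * (x⁻¹ * t * x * y) * x⁻¹ := by group
            _ = x * (y * (x⁻¹ * t * x)) * x⁻¹ := h1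
            _ = x * y * x⁻¹ * t := by group
        · exact Subgroup.mem_map.mpr ⟨y, hy, by simp⟩
      rw [hbot, Subgroup.mem_bot] at hw
      apply hy1
      have h2 : y = x⁻¹ * (x * y * x⁻¹) * x := by group
      rw [h2, hw]; group
    have hc : ∀ g' : G, (Finset.univ.filter (fun x : G => x⁻¹ * g' * x ∈ S)).card ≤ c g' := by
      intro g'
      by_cases hg' : g' ∈ Subgroup.center G
      · have hemp : Finset.univ.filter (fun x : G => x⁻¹ * g' * x ∈ S) = ∅ := by
          apply Finset.filter_eq_empty_iff.mpr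
          intro x _ hx
          simp only [hS', Finset.mem_filter, Finset.mem_univ, true_and] at hx
          apply hx.2
          have h1 : x⁻¹ * g' * x = g' := by
            have h2 := Subgroup.mem_center_iff.mp hg' x⁻¹
            rw [h2]; group
          rw [h1]; exact hg'
        rw [hemp]; simp
      · show _ ≤ (if g' ∈ Subgroup.center G then 0 else Nat.card Nn)
        rw [if_neg hg']
        rcases (Finset.univ.filter (fun x : G => x⁻¹ * g' * x ∈ S)).eq_empty_or_nonempty with
          he | ⟨x₀, hx₀⟩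
        · rw [he]; simp
        · have hcard : Nat.card Nn = (Finset.univ.filter (· ∈ Nn)).card := by
            rw [Nat.card_eq_fintype_card, Fintype.card_subtype]
          rw [hcard]
          apply Finset.card_le_card_of_injOn (fun x => x₀⁻¹ * x)
          · intro x hx
            have hx' := (Finset.mem_filter.mp (Finset.mem_coe.mp hx)).2
            have hx₀' := (Finset.mem_filter.mp hx₀).2
            have heq := hone g' hg' x₀ x (hmeet g' x₀ hx₀') (hmeet g' x hx')
            refine Finset.mem_coe.mpr (Finset.mem_filter.mpr ⟨Finset.mem_univ _, ?_⟩)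
            rw [hNn, Subgroup.mem_normalizer_iff]
            intro h
            constructor
            · intro hh
              have h1 : x * h * x⁻¹ ∈ H.map (MulAut.conj x).toMonoidHom :=
                Subgroup.mem_map.mpr ⟨h, hh, by simp⟩
              rw [← heq] at h1
              obtain ⟨h', hh', he'⟩ := Subgroup.mem_map.mp h1
              have he2 : x₀ * h' * x₀⁻¹ = x * h * x⁻¹ := by simpa using he'
              have h2 : x₀⁻¹ * x * h * (x₀⁻¹ * x)⁻¹ = h' := by
                calc x₀⁻¹ * x * h * (x₀⁻¹ * x)⁻¹ = x₀⁻¹ * (x * h * x⁻¹) * x₀ := by group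
                  _ = x₀⁻¹ * (x₀ * h' * x₀⁻¹) * x₀ := by rw [he2]
                  _ = h' := by group
              rw [h2]; exact hh'
            · intro hh
              have h1 : x₀ * (x₀⁻¹ * x * h * (x₀⁻¹ * x)⁻¹) * x₀⁻¹ ∈
                  H.map (MulAut.conj x₀).toMonoidHom :=
                Subgroup.mem_map.mpr ⟨_, hh, by simp⟩
              rw [heq] at h1
              obtain ⟨h', hh', he'⟩ := Subgroup.mem_map.mp h1
              have he2 : x * h' * x⁻¹ = x₀ * (x₀⁻¹ * x * h * (x₀⁻¹ * x)⁻¹) * x₀⁻¹ := by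
                simpa using he'
              have h2 : h = h' := by
                have h3 : x * h' * x⁻¹ = x * h * x⁻¹ := by
                  rw [he2]; group
                have h4 := mul_right_cancel h3
                exact (mul_left_cancel h4).symm
              rw [h2]; exact hh'
          · intro x _ x' _ hxx
            exact mul_left_cancel hxx
    have h1 := card_mul_sum_le S F hFc hF0 c hc
    have h2 : ∑ g' : G, F g' * (c g' : ℝ) =
        M * ((Fintype.card G : ℝ) - ∑ z ∈ Finset.univ.filter (· ∈ Subgroup.center G), F z) := by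
      have h3 : ∀ g' : G, F g' * (c g' : ℝ) =
          M * F g' - M * (if g' ∈ Subgroup.center G then F g' else 0) := by
        intro g'
        show F g' * ((if g' ∈ Subgroup.center G then 0 else Nat.card Nn : ℕ) : ℝ) = _
        split_ifs
        · simp
        · rw [hM]; ring
      simp only [h3, Finset.sum_sub_distrib, ← Finset.mul_sum]
      rw [hT, ← Finset.sum_filter, mul_sub]
    rw [← h2]; exact h1
  -- splitting
  have hsplit : ∑ g ∈ Finset.univ.filter P, F g =
      ∑ g ∈ Finset.univ.filter (fun g => P g ∧ g ∉ Subgroup.center G), F g +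
      ∑ z ∈ Finset.univ.filter (· ∈ Subgroup.center G), F z := by
    rw [← Finset.sum_filter_add_sum_filter_not (Finset.univ.filter P) (· ∉ Subgroup.center G)]
    congr 1
    · rw [Finset.filter_filter]
    · rw [Finset.filter_filter]
      congr 1
      ext g
      simp only [Finset.mem_filter, Finset.mem_univ, true_and, not_not]
      exact ⟨fun h => h.2, fun h => ⟨hZP g h, h⟩⟩
  -- final arithmetic
  set A := ∑ g ∈ Finset.univ.filter P, F g with hA
  set T := ∑ z ∈ Finset.univ.filter (· ∈ Subgroup.center G), F z with hTdef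
  set B := ∑ z ∈ Finset.univ.filter (· ∈ Subgroup.center G), Complex.normSq (ω z) with hB
  set K := Complex.normSq (χ 1) with hK
  set a2 := Complex.normSq (ω 1) with ha2
  have hKpos : 0 < K := Complex.normSq_pos.mpr hχ1
  have hTK : K ≤ T := by
    have h1 : (1 : G) ∈ Finset.univ.filter (· ∈ Subgroup.center G) := by simp
    exact Finset.single_le_sum (f := F) (fun z _ => hF0 z) h1
  have hBK : B * K = T * a2 := by
    rw [hB, hTdef, Finset.sum_mul, Finset.sum_mul]
    refine Finset.sum_congr rfl fun z hz => ?_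
    exact hS z (by simpa using hz)
  have hA1 : M + q * B ≤ A := by
    rw [hL1]; linarith [hL2, hL3]
  have hU' : (Fintype.card G : ℝ) * (A - T) ≤ M * ((Fintype.card G : ℝ) - T) := by
    have h1 : A - T = ∑ g ∈ Finset.univ.filter (fun g => P g ∧ g ∉ Subgroup.center G), F g := by
      rw [hsplit]; ring
    rw [h1]; exact hU
  by_contra hcon
  push Not at hcon
  have h1 : T * K ≤ q * B * K := by
    calc T * K ≤ T * (q * a2) := mul_le_mul_of_nonneg_left hcon (le_trans hKpos.le hTK)
      _ = q * (T * a2) := by ring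
      _ = q * (B * K) := by rw [hBK]
      _ = q * B * K := by ring
  have h2 : T ≤ q * B := le_of_mul_le_mul_right h1 hKpos
  have h3 : M ≤ A - T := by linarith
  have h4 : (Fintype.card G : ℝ) * M ≤ (Fintype.card G : ℝ) * (A - T) :=
    mul_le_mul_of_nonneg_left h3 hGpos.le
  have h5 : 0 < M * T := mul_pos hMpos (lt_of_lt_of_le hKpos hTK)
  nlinarith

end Bound

section Closure

variable {G : Type*} [Group G] [Fintype G]

theorem hAvg_finset_sum (H : Subgroup G) {ι : Type*} (s : Finset ι) (f : ι → G → ℂ) :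
    hAvg H (∑ i ∈ s, f i) = ∑ i ∈ s, hAvg H (f i) := by
  classical
  funext g
  rw [hAvg_apply, Finset.sum_apply]
  simp only [hAvg_apply, Finset.sum_apply]
  rw [← Finset.mul_sum, Finset.sum_comm]
  congr 1
  refine Finset.sum_congr rfl fun u _ => ?_
  split_ifs
  · rfl
  · simp

/-- The inner product of the restriction to `H` with the trivial character, as an average. -/
theorem classInner_res_one_eq_hAvg (H : Subgroup G) [Fintype H] (χ : G → ℂ) :
    classInner (fun h : H => χ h) (fun _ => 1) = hAvg H χ 1 := by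
  classical
  unfold classInner
  rw [hAvg_apply]
  congr 1
  simp only [map_one, mul_one, one_mul]
  rw [← Finset.sum_filter,
    Finset.sum_subtype (Finset.univ.filter (· ∈ H)) (p := (· ∈ H)) (fun x => by simp)]

/-- The kernel of a character is a normal subgroup. -/
theorem exists_normal_ker_of_char {χ : G → ℂ} (hχ : IsCharacter G χ) :
    ∃ K : Subgroup G, K.Normal ∧ ∀ g : G, g ∈ K ↔ χ g = χ 1 := by
  obtain ⟨n, ρ, rfl⟩ := hχ
  refine ⟨MonoidHom.ker ρ, MonoidHom.normal_ker ρ, fun g => ?_⟩
  rw [MonoidHom.mem_ker, Representation.char_one, character_eq_finrank_iff ρ g]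
  rfl

/-- **Feit-Thompson**, second part: if moreover no proper normal subgroup contains `H` and `χ` is
not linear, then `|H| < (1 + χ(1))²`. -/
theorem ft_bound_closure (H : Subgroup G)
    (hab : ∀ a ∈ H, ∀ b ∈ H, a * b = b * a) (hZ : H ⊓ Subgroup.center G = ⊥)
    (hone : ∀ g : G, g ∉ Subgroup.center G → ∀ a b : G,
      Subgroup.centralizer ({g} : Set G) ⊓ H.map (MulAut.conj a).toMonoidHom ≠ ⊥ →
      Subgroup.centralizer ({g} : Set G) ⊓ H.map (MulAut.conj b).toMonoidHom ≠ ⊥ →
      H.map (MulAut.conj a).toMonoidHom = H.map (MulAut.conj b).toMonoidHom)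
    (χ : G → ℂ) (hχ : IsIrrCharacter G χ) (hχ1 : χ 1 ≠ 1)
    (hnc : ∀ M : Subgroup G, M.Normal → H ≤ M → M = ⊤) :
    (Nat.card H : ℝ) < (1 + (χ 1).re) ^ 2 := by
  classical
  letI := fintypeIrr G
  obtain ⟨k, hk0, hk⟩ := Cfsg.Agent.H83.IsIrrCharacter.one_eq hχ
  have hk2 : 2 ≤ k := by
    rcases Nat.lt_or_ge k 2 with h | h
    · exfalso
      apply hχ1
      have h1 : k = 1 := by omega
      rw [hk, h1]; simp
    · exact h
  have hχch : IsCharacter G χ := isCharacter_of_isIrrCharacter hχ
  set Θ : G → ℂ := χ * fun g => conj (χ g) with hΘ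
  have hΘc : IsCharacter G Θ := isCharacter_mul hχch (isCharacter_conj hχch)
  obtain ⟨m, hm⟩ := isCharacter_iff.mp hΘc
  rw [finsum_irr_eq_sum] at hm
  let triv : IrrCharacter G := Cfsg.Agent.H83.trivChar G
  have hmtriv : m triv = 1 := by
    have h1 : classInner Θ triv.1 = (m triv : ℂ) := by
      have h0 := classInner_finsum_irr (fun ψ => (m ψ : ℂ)) triv
      rw [finsum_irr_eq_sum] at h0
      rw [hm]
      exact h0
    have h2 : classInner Θ triv.1 = 1 := by
      have h3 := irr_inner_self (⟨χ, hχ⟩ : IrrCharacter G)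
      rw [← h3]
      unfold classInner
      congr 1
      refine Finset.sum_congr rfl fun g _ => ?_
      show χ g * conj (χ g) * conj (1 : ℂ) = χ g * conj (χ g)
      simp
    rw [h2] at h1
    exact_mod_cast h1.symm
  -- the functional `L`
  set L : (G → ℂ) → ℂ := fun f => hAvg H f 1 with hL
  have hLΘ : L Θ = ∑ ψ : IrrCharacter G, (m ψ : ℂ) * L ψ.1 := by
    show hAvg H Θ 1 = _
    rw [hm, hAvg_finset_sum, Finset.sum_apply]
    refine Finset.sum_congr rfl fun ψ _ => ?_
    rw [hAvg_smul]; rfl
  have hLΘk : (k : ℝ) ≤ (L Θ).re := by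
    haveI : Fintype H := Fintype.ofFinite H
    have hres : IsCharacter H (fun h : H => χ h) := isCharacter_restrict H hχch
    have e1 : L Θ = classInner (fun h : H => χ h) (fun h : H => χ h) := by
      show hAvg H Θ 1 = _
      rw [← classInner_res_one_eq_hAvg H Θ]
      unfold classInner
      congr 1
      refine Finset.sum_congr rfl fun h _ => ?_
      simp [hΘ]
    obtain ⟨a, b, ha, hb, hab'⟩ := Clifford.classInner_char_eq_natCast_sum hres hres
    letI := fintypeIrr H
    rw [finsum_irr_eq_sum] at hab'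
    have hba : ∀ ψ, b ψ = a ψ := by
      intro ψ
      have h1 : ((b ψ : ℕ) : ℂ) = (a ψ : ℂ) := by
        rw [← hb ψ, ← classInner_conj_symm, ha ψ, Complex.conj_natCast]
      exact_mod_cast h1
    have hk' : k = ∑ ψ : IrrCharacter H, a ψ := by
      have h1 := congrFun (classFunction_eq_finsum (isClassFunction_of_isCharacter hres)) 1
      rw [finsum_irr_eq_sum, Finset.sum_apply] at h1
      have h2 : ∀ ψ : IrrCharacter H,
          (classInner (fun h : H => χ h) ψ.1 • (ψ.1 : H → ℂ)) 1 = (a ψ : ℂ) := by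
        intro ψ
        rw [Pi.smul_apply, ha ψ,
          irr_one_of_comm (fun x y => Subtype.ext (hab x x.2 y y.2)) ψ.2, smul_eq_mul, mul_one]
      rw [Finset.sum_congr rfl (fun ψ _ => h2 ψ)] at h1
      have h3 : χ ((1 : H) : G) = (k : ℂ) := by
        rw [Subgroup.coe_one, hk]
      rw [h3] at h1
      exact_mod_cast h1
    rw [e1, hab', Complex.natCast_re]
    have h4 : k ≤ ∑ ψ : IrrCharacter H, a ψ * b ψ := by
      rw [hk']
      refine Finset.sum_le_sum fun ψ _ => ?_
      rw [hba ψ]
      exact Nat.le_mul_self _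
    exact_mod_cast h4
  have hbound : ∀ ψ : IrrCharacter G, ψ ≠ triv →
      (Nat.card H : ℝ) * Complex.normSq (L ψ.1) < Complex.normSq (ψ.1 1) := by
    intro ψ hψ
    apply ft_bound H hab hZ hone ψ.1 ψ.2
    by_contra hcon
    push Not at hcon
    obtain ⟨K, hKn, hK⟩ := exists_normal_ker_of_char (isCharacter_of_isIrrCharacter ψ.2)
    have hHK : H ≤ K := fun h hh => (hK h).mpr (hcon h hh)
    have hKtop := hnc K hKn hHK
    have hconst : ∀ g : G, ψ.1 g = ψ.1 1 := fun g => (hK g).mp (by rw [hKtop]; trivial)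
    have h1 : classInner ψ.1 triv.1 = ψ.1 1 := by
      unfold classInner
      have h2 : ∀ g : G, ψ.1 g * conj (triv.1 g) = ψ.1 1 := by
        intro g
        rw [hconst g]
        show ψ.1 1 * conj (1 : ℂ) = _
        simp
      simp only [h2, Finset.sum_const, Finset.card_univ, nsmul_eq_mul, Nat.card_eq_fintype_card]
      rw [← mul_assoc, inv_mul_cancel₀ (by exact_mod_cast Fintype.card_pos.ne'), one_mul]
    have h3 : ψ.1 = triv.1 := Clifford.eq_of_classInner_ne_zero ψ.2 triv.2 (by
      rw [h1]; exact Cfsg.Agent.H83.IsIrrCharacter.one_ne_zero ψ.2)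
    exact hψ (Subtype.ext h3)
  -- degrees
  have hdeg : ∀ ψ : IrrCharacter G, ∃ n : ℕ, 0 < n ∧ ψ.1 1 = (n : ℂ) := fun ψ =>
    Cfsg.Agent.H83.IsIrrCharacter.one_eq ψ.2
  choose n hn0 hn using hdeg
  have hntriv : n triv = 1 := by
    have h0 := hn triv
    have h1 : triv.1 1 = 1 := rfl
    rw [h1] at h0
    exact_mod_cast h0.symm
  have hLtriv : L triv.1 = 1 := by
    show hAvg H (fun _ => (1 : ℂ)) 1 = 1
    rw [hAvg_apply, sum_mem_const, mul_one, inv_mul_cancel₀ (card_ne_zero_complex H)]
  have hk2sum : (k : ℝ) ^ 2 = ∑ ψ : IrrCharacter G, (m ψ : ℝ) * (n ψ : ℝ) := by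
    have h1 := congrFun hm 1
    rw [Finset.sum_apply] at h1
    have h2 : Θ 1 = ((k : ℂ)) ^ 2 := by
      show χ 1 * conj (χ 1) = _
      rw [hk, Complex.conj_natCast]; ring
    rw [h2] at h1
    have h3 : ∀ ψ : IrrCharacter G,
        ((m ψ : ℂ) • (ψ.1 : G → ℂ)) 1 = ((m ψ * n ψ : ℕ) : ℂ) := by
      intro ψ
      rw [Pi.smul_apply, hn ψ, smul_eq_mul]
      push_cast
      ring
    rw [Finset.sum_congr rfl (fun ψ _ => h3 ψ)] at h1
    have h4 : k ^ 2 = ∑ ψ : IrrCharacter G, m ψ * n ψ := by exact_mod_cast h1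
    have h5 : ((k ^ 2 : ℕ) : ℝ) = ((∑ ψ : IrrCharacter G, m ψ * n ψ : ℕ) : ℝ) := by rw [h4]
    push_cast at h5
    exact h5
  set r : ℝ := Real.sqrt (Nat.card H : ℝ) with hr
  have hr0 : 0 ≤ r := Real.sqrt_nonneg _
  have hrr : r * r = (Nat.card H : ℝ) := Real.mul_self_sqrt (Nat.cast_nonneg _)
  have hstrict : ∀ ψ : IrrCharacter G, ψ ≠ triv → r * ‖L ψ.1‖ < (n ψ : ℝ) := by
    intro ψ hψ
    have h1 := hbound ψ hψ
    rw [hn ψ, Complex.normSq_natCast] at h1
    have h2 : (r * ‖L ψ.1‖) ^ 2 < (n ψ : ℝ) ^ 2 := by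
      have h3 : (r * ‖L ψ.1‖) ^ 2 = (Nat.card H : ℝ) * Complex.normSq (L ψ.1) := by
        rw [mul_pow, Complex.normSq_eq_norm_sq, sq r, hrr]
      rw [h3]
      nlinarith [h1]
    exact lt_of_pow_lt_pow_left₀ 2 (Nat.cast_nonneg _) h2
  have e_deg : (k : ℝ) ^ 2 = 1 + ∑ ψ ∈ Finset.univ.erase triv, (m ψ : ℝ) * (n ψ : ℝ) := by
    rw [hk2sum, ← Finset.add_sum_erase Finset.univ _ (Finset.mem_univ triv), hmtriv, hntriv]
    simp
  have e_L : (k : ℝ) ≤ 1 + ∑ ψ ∈ Finset.univ.erase triv, (m ψ : ℝ) * ‖L ψ.1‖ := by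
    have h1 : (L Θ).re ≤ ∑ ψ : IrrCharacter G, (m ψ : ℝ) * ‖L ψ.1‖ := by
      rw [hLΘ, Complex.re_sum]
      refine Finset.sum_le_sum fun ψ _ => ?_
      have h2 : ((m ψ : ℂ) * L ψ.1).re = (m ψ : ℝ) * (L ψ.1).re := by
        rw [← Complex.ofReal_natCast, Complex.re_ofReal_mul]
      rw [h2]
      exact mul_le_mul_of_nonneg_left (Complex.re_le_norm _) (Nat.cast_nonneg _)
    have h3 := hLΘk.trans h1
    rw [← Finset.add_sum_erase Finset.univ _ (Finset.mem_univ triv), hmtriv, hLtriv] at h3
    simpa using h3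
  have hk2r : (2 : ℝ) ≤ k := by exact_mod_cast hk2
  have hpos : 0 < ∑ ψ ∈ Finset.univ.erase triv, (m ψ : ℝ) * ((n ψ : ℝ) - r * ‖L ψ.1‖) := by
    apply Finset.sum_pos'
    · intro ψ hψ
      exact mul_nonneg (Nat.cast_nonneg _)
        (sub_nonneg.mpr (hstrict ψ (Finset.ne_of_mem_erase hψ)).le)
    · by_contra hno
      push Not at hno
      have hzero : ∑ ψ ∈ Finset.univ.erase triv, (m ψ : ℝ) * (n ψ : ℝ) = 0 := by
        apply Finset.sum_eq_zero
        intro ψ hψ
        have h1 := hno ψ hψ
        have h2 := hstrict ψ (Finset.ne_of_mem_erase hψ)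
        have h3 : (m ψ : ℝ) = 0 := by
          by_contra hm0
          have hmpos : 0 < (m ψ : ℝ) := lt_of_le_of_ne (Nat.cast_nonneg _) (Ne.symm hm0)
          have h4 := mul_pos hmpos (sub_pos.mpr h2)
          linarith
        rw [h3, zero_mul]
      rw [hzero, add_zero] at e_deg
      nlinarith
  have hsum : r * ∑ ψ ∈ Finset.univ.erase triv, (m ψ : ℝ) * ‖L ψ.1‖ <
      ∑ ψ ∈ Finset.univ.erase triv, (m ψ : ℝ) * (n ψ : ℝ) := by
    have h1 : ∑ ψ ∈ Finset.univ.erase triv, (m ψ : ℝ) * ((n ψ : ℝ) - r * ‖L ψ.1‖) =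
        ∑ ψ ∈ Finset.univ.erase triv, (m ψ : ℝ) * (n ψ : ℝ) -
          r * ∑ ψ ∈ Finset.univ.erase triv, (m ψ : ℝ) * ‖L ψ.1‖ := by
      rw [Finset.mul_sum, ← Finset.sum_sub_distrib]
      refine Finset.sum_congr rfl fun ψ _ => ?_
      ring
    linarith
  have h1 : r * ((k : ℝ) - 1) < (k : ℝ) ^ 2 - 1 := by
    have h2 : r * ((k : ℝ) - 1) ≤ r * ∑ ψ ∈ Finset.univ.erase triv, (m ψ : ℝ) * ‖L ψ.1‖ :=
      mul_le_mul_of_nonneg_left (by linarith) hr0
    linarith
  have h2 : r < (k : ℝ) + 1 := by
    by_contra hcon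
    push Not at hcon
    nlinarith
  have hre : (χ 1).re = (k : ℝ) := by rw [hk]; simp
  rw [hre, ← hrr]
  nlinarith

end Closure

end Cfsg.Agent.Lib.Helper96
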