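import Cfsg.Agent.Lib.Helper96.Frob

set_option autoImplicit false

namespace Cfsg.Agent.Lib.Helper96

open MulAction Pointwise

variable {G : Type*} [Group G]

/-- The Frobenius kernel is closed under inverses. -/
theorem frobKernel_inv_mem {H : Subgroup G} {x : G} (hx : x ∈ Cfsg.frobeniusKernel H) :
    x⁻¹ ∈ Cfsg.frobeniusKernel H := by
  rcases hx with h | h
  · left; rw [h, inv_one]
  · right
    intro g hg
    apply h g
    have := (MulAut.conj g • H).inv_mem hg
    rwa [inv_inv] at this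

/-- The product of two involutions lying in different conjugates of a Frobenius complement lies in
no conjugate of the complement. -/
theorem frob_invol_mul_not_mem {H : Subgroup G} (hH : Cfsg.IsFrobeniusComplement H)
    {s u a b : G} (hs : s ∈ MulAut.conj a • H) (hu : u ∈ MulAut.conj b • H)
    (hs1 : s ≠ 1) (hu1 : u ≠ 1) (hs2 : s * s = 1) (hu2 : u * u = 1) (hab : a⁻¹ * b ∉ H) (c : G) :
    s * u ∉ MulAut.conj c • H := by
  intro hsu
  have hsi : s⁻¹ = s := inv_eq_of_mul_eq_one_left hs2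
  have hui : u⁻¹ = u := inv_eq_of_mul_eq_one_left hu2
  have hne : s * u ≠ 1 := by
    intro h
    have hsu' : s = u := by
      have h1 : s = u⁻¹ := eq_inv_of_mul_eq_one_left h
      rw [h1, hui]
    exact hab (frob_inv_mul_mem hH hs1 hs (hsu' ▸ hu))
  have hinv : (s * u)⁻¹ ∈ MulAut.conj c • H := inv_mem hsu
  have hinv_ne : (s * u)⁻¹ ≠ 1 := by
    intro h; exact hne (inv_eq_one.mp h)
  have hconj : (s * u)⁻¹ ∈ MulAut.conj (u * c) • H := by
    rw [mem_conj_smul_iff] at hsu ⊢
    have h1 : (u * c)⁻¹ * (s * u)⁻¹ * (u * c) = c⁻¹ * (s * u) * c := by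
      calc (u * c)⁻¹ * (s * u)⁻¹ * (u * c) = c⁻¹ * (u⁻¹ * u⁻¹) * s⁻¹ * u * c := by group
        _ = c⁻¹ * (u * u) * s * u * c := by rw [hui, hsi]
        _ = c⁻¹ * (s * u) * c := by rw [hu2]; group
    rw [h1]; exact hsu
  have h1 : c⁻¹ * (u * c) ∈ H := frob_inv_mul_mem hH hinv_ne hinv hconj
  have huc : u ∈ MulAut.conj c • H := by
    rw [mem_conj_smul_iff]; convert h1 using 1; group
  have hsc : s ∈ MulAut.conj c • H := by
    have h2 : s = (s * u) * u⁻¹ := by group
    rw [h2]; exact mul_mem hsu (inv_mem huc)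
  have h2 : a⁻¹ * c ∈ H := frob_inv_mul_mem hH hs1 hs hsc
  have h3 : b⁻¹ * c ∈ H := frob_inv_mul_mem hH hu1 hu huc
  apply hab
  have h4 : a⁻¹ * b = (a⁻¹ * c) * (b⁻¹ * c)⁻¹ := by group
  rw [h4]; exact H.mul_mem h2 (H.inv_mem h3)

/-- If a Frobenius complement contains an involution, then the Frobenius kernel is closed under
multiplication. -/
theorem frob_kernel_mul_mem [Finite G] {H : Subgroup G} (hH : Cfsg.IsFrobeniusComplement H)
    {t : G} (ht : t ∈ H) (ht1 : t ≠ 1) (ht2 : t * t = 1) {x y : G}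
    (hx : x ∈ Cfsg.frobeniusKernel H) (hy : y ∈ Cfsg.frobeniusKernel H) :
    x * y ∈ Cfsg.frobeniusKernel H := by
  classical
  let S : G ⧸ H → G := fun α => α.out * t * α.out⁻¹
  have hS_mem : ∀ α, S α ∈ MulAut.conj α.out • H := by
    intro α
    rw [mem_conj_smul_iff]
    have h1 : α.out⁻¹ * S α * α.out = t := by simp only [S]; group
    rw [h1]; exact ht
  have hS1 : ∀ α, S α ≠ 1 := by
    intro α h
    apply ht1
    have h1 : t = α.out⁻¹ * S α * α.out := by simp only [S]; group
    rw [h1, h]; group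
  have hS2 : ∀ α, S α * S α = 1 := by
    intro α
    calc S α * S α = α.out * (t * t) * α.out⁻¹ := by simp only [S]; group
      _ = 1 := by rw [ht2]; group
  have hout : ∀ α β : G ⧸ H, α.out⁻¹ * β.out ∈ H → α = β := by
    intro α β h
    rw [← QuotientGroup.out_eq' α, ← QuotientGroup.out_eq' β]
    exact QuotientGroup.eq.mpr h
  have hSS : ∀ α β, S α * S β ∈ Cfsg.frobeniusKernel H := by
    intro α β
    by_cases hαβ : α = β
    · left; rw [hαβ]; exact hS2 β
    · right
      intro c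
      exact frob_invol_mul_not_mem hH (hS_mem α) (hS_mem β) (hS1 α) (hS1 β) (hS2 α) (hS2 β)
        (fun h => hαβ (hout α β h)) c
  have hSinj : Function.Injective S := by
    intro α β h
    apply hout
    exact frob_inv_mul_mem hH (hS1 α) (hS_mem α) (h ▸ hS_mem β)
  have hsurj : ∀ β, ∀ z ∈ Cfsg.frobeniusKernel H, ∃ α, S α * S β = z := by
    intro β
    let F : G ⧸ H → Cfsg.frobeniusKernel H := fun α => ⟨S α * S β, hSS α β⟩
    have hFinj : Function.Injective F := by
      intro α α' h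
      have h1 : S α * S β = S α' * S β := congrArg Subtype.val h
      exact hSinj (mul_right_cancel h1)
    have hcard : Nat.card (Cfsg.frobeniusKernel H) ≤ Nat.card (G ⧸ H) := by
      rw [frob_card_kernel hH]; exact le_of_eq rfl
    have hFsurj : Function.Surjective F :=
      (Function.Injective.bijective_of_nat_card_le hFinj hcard).2
    intro z hz
    obtain ⟨α, hα⟩ := hFsurj ⟨z, hz⟩
    exact ⟨α, congrArg Subtype.val hα⟩
  let β : G ⧸ H := ((1 : G) : G ⧸ H)
  obtain ⟨α, hα⟩ := hsurj β x hx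
  obtain ⟨γ, hγ⟩ := hsurj β y⁻¹ (frobKernel_inv_mem hy)
  have hy' : y = S β * S γ := by
    have h1 : y = (S γ * S β)⁻¹ := by rw [hγ, inv_inv]
    rw [h1, mul_inv_rev, inv_eq_of_mul_eq_one_left (hS2 β), inv_eq_of_mul_eq_one_left (hS2 γ)]
  rw [← hα, hy']
  have h2 : S α * S β * (S β * S γ) = S α * S γ := by
    rw [mul_assoc, ← mul_assoc (S β), hS2 β, one_mul]
  rw [h2]; exact hSS α γ

end Cfsg.Agent.Lib.Helper96
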