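import Cfsg.Agent.Lib.Helper96.Frob2

set_option autoImplicit false

namespace Cfsg.Agent.Lib.Helper96

open MulAction Pointwise

variable {G : Type*} [Group G]

/-- A Frobenius complement in terms of elements. -/
theorem isFrob_of {H : Subgroup G} (h1 : H ≠ ⊥) (h2 : H ≠ ⊤)
    (h3 : ∀ g x : G, g ∉ H → x ∈ H → g⁻¹ * x * g ∈ H → x = 1) :
    Cfsg.IsFrobeniusComplement H := by
  refine ⟨h1, h2, ?_⟩
  intro g hg
  rw [eq_bot_iff]
  intro x hx
  rw [Subgroup.mem_inf] at hx
  rw [Subgroup.mem_bot]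
  exact h3 g x hg hx.1 (mem_conj_smul_iff.mp hx.2)

theorem frob_eq_one {H : Subgroup G} (hH : Cfsg.IsFrobeniusComplement H) {g x : G} (hg : g ∉ H)
    (hx : x ∈ H) (hgx : g⁻¹ * x * g ∈ H) : x = 1 := by
  have h1 : x ∈ H ⊓ MulAut.conj g • H := Subgroup.mem_inf.mpr ⟨hx, mem_conj_smul_iff.mpr hgx⟩
  rw [hH.2.2 g hg, Subgroup.mem_bot] at h1
  exact h1

/-- A conjugate of a Frobenius complement is a Frobenius complement. -/
theorem isFrob_conj {H : Subgroup G} (hH : Cfsg.IsFrobeniusComplement H) (c : G) :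
    Cfsg.IsFrobeniusComplement (MulAut.conj c • H) := by
  apply isFrob_of
  · intro h
    apply hH.1
    rw [Subgroup.eq_bot_iff_forall]
    intro x hx
    have h1 : c * x * c⁻¹ ∈ MulAut.conj c • H := by
      rw [mem_conj_smul_iff]
      have h2 : c⁻¹ * (c * x * c⁻¹) * c = x := by group
      rw [h2]; exact hx
    rw [h, Subgroup.mem_bot] at h1
    have h3 : x = c⁻¹ * (c * x * c⁻¹) * c := by group
    rw [h3, h1]; group
  · intro h
    apply hH.2.1
    rw [Subgroup.eq_top_iff']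
    intro x
    have h1 : c * x * c⁻¹ ∈ MulAut.conj c • H := by rw [h]; exact Subgroup.mem_top _
    rw [mem_conj_smul_iff] at h1
    have h2 : c⁻¹ * (c * x * c⁻¹) * c = x := by group
    rw [h2] at h1; exact h1
  · intro g x hg hx hgx
    rw [mem_conj_smul_iff] at hg hx hgx
    have h1 : c⁻¹ * x * c = 1 := by
      apply frob_eq_one hH hg hx
      convert hgx using 1; group
    have h3 : x = c * (c⁻¹ * x * c) * c⁻¹ := by group
    rw [h3, h1]; group

/-- A nontrivial intersection of two Frobenius complements is a Frobenius complement. -/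
theorem isFrob_inf {A B : Subgroup G} (hA : Cfsg.IsFrobeniusComplement A)
    (hB : Cfsg.IsFrobeniusComplement B) (h : A ⊓ B ≠ ⊥) : Cfsg.IsFrobeniusComplement (A ⊓ B) := by
  apply isFrob_of h
  · intro htop
    apply hA.2.1
    rw [eq_top_iff, ← htop]
    exact inf_le_left
  · intro g x hg hx hgx
    rw [Subgroup.mem_inf] at hg hx hgx
    by_cases hgA : g ∈ A
    · have hgB : g ∉ B := fun hb => hg ⟨hgA, hb⟩
      exact frob_eq_one hB hgB hx.2 hgx.2
    · exact frob_eq_one hA hgA hx.1 hgx.1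

theorem frob_two_mul_index_le [Finite G] {A : Subgroup G} (hA : Cfsg.IsFrobeniusComplement A) :
    2 * A.index ≤ Nat.card G := by
  have h1 := A.card_mul_index
  have h2 : 2 ≤ Nat.card A := (Subgroup.one_lt_card_iff_ne_bot A).mpr hA.1
  calc 2 * A.index ≤ Nat.card A * A.index := Nat.mul_le_mul_right _ h2
    _ = Nat.card G := h1

theorem frob_ncard_kernel [Finite G] {A : Subgroup G} (hA : Cfsg.IsFrobeniusComplement A) :
    (Cfsg.frobeniusKernel A).ncard = A.index := by
  rw [← Nat.card_coe_set_eq]; exact frob_card_kernel hA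

/-- Any two Frobenius complements have conjugates with a common nonidentity element. -/
theorem frob_exists_common [Finite G] {A B : Subgroup G} (hA : Cfsg.IsFrobeniusComplement A)
    (hB : Cfsg.IsFrobeniusComplement B) :
    ∃ x : G, x ≠ 1 ∧ ∃ s t : G, x ∈ MulAut.conj s • A ∧ x ∈ MulAut.conj t • B := by
  by_contra hcon
  push Not at hcon
  have hcover : Cfsg.frobeniusKernel A ∪ Cfsg.frobeniusKernel B = Set.univ := by
    rw [Set.eq_univ_iff_forall]
    intro x
    by_cases hx : x = 1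
    · left; left; exact hx
    · by_cases hxA : ∃ s : G, x ∈ MulAut.conj s • A
      · obtain ⟨s, hs⟩ := hxA
        right; right
        intro t
        exact hcon x hx s t hs
      · left; right
        push Not at hxA
        exact hxA
  have h1 : (1 : G) ∈ (Cfsg.frobeniusKernel A ∩ Cfsg.frobeniusKernel B : Set G) :=
    ⟨Or.inl rfl, Or.inl rfl⟩
  have hcard := Set.ncard_union_add_ncard_inter (Cfsg.frobeniusKernel A) (Cfsg.frobeniusKernel B)
  rw [hcover, Set.ncard_univ, frob_ncard_kernel hA, frob_ncard_kernel hB] at hcard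
  have hpos : 0 < (Cfsg.frobeniusKernel A ∩ Cfsg.frobeniusKernel B).ncard :=
    (Set.ncard_pos (Set.toFinite _)).mpr ⟨1, h1⟩
  have h2A := frob_two_mul_index_le hA
  have h2B := frob_two_mul_index_le hB
  omega

/-- If two Frobenius complements `A`, `B` meet nontrivially, every nonidentity element lying in a
conjugate of `A` and in a conjugate of `B` lies in a conjugate of `A ⊓ B`. -/
theorem frob_mem_conj_inf [Finite G] {A B : Subgroup G} (hA : Cfsg.IsFrobeniusComplement A)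
    (hB : Cfsg.IsFrobeniusComplement B) (hD : A ⊓ B ≠ ⊥) {x s t : G} (hx : x ≠ 1)
    (hs : x ∈ MulAut.conj s • A) (ht : x ∈ MulAut.conj t • B) :
    ∃ r : G, x ∈ MulAut.conj r • (A ⊓ B) := by
  have hxE : x ∈ MulAut.conj s • A ⊓ MulAut.conj t • B := Subgroup.mem_inf.mpr ⟨hs, ht⟩
  have hEbot : MulAut.conj s • A ⊓ MulAut.conj t • B ≠ ⊥ := by
    intro h
    rw [h, Subgroup.mem_bot] at hxE
    exact hx hxE
  have hEF := isFrob_inf (isFrob_conj hA s) (isFrob_conj hB t) hEbot
  have hDF := isFrob_inf hA hB hD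
  obtain ⟨y, hy1, s', t', hys, hyt⟩ := frob_exists_common hEF hDF
  rw [mem_conj_smul_iff, Subgroup.mem_inf] at hys hyt
  have hysA : (s' * s)⁻¹ * y * (s' * s) ∈ A := by
    have h1 := mem_conj_smul_iff.mp hys.1
    convert h1 using 1; group
  have hysB : (s' * t)⁻¹ * y * (s' * t) ∈ B := by
    have h1 := mem_conj_smul_iff.mp hys.2
    convert h1 using 1; group
  have hA1 : (s' * s)⁻¹ * t' ∈ A :=
    frob_inv_mul_mem hA hy1 (mem_conj_smul_iff.mpr hysA) (mem_conj_smul_iff.mpr hyt.1)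
  have hB1 : (s' * t)⁻¹ * t' ∈ B :=
    frob_inv_mul_mem hB hy1 (mem_conj_smul_iff.mpr hysB) (mem_conj_smul_iff.mpr hyt.2)
  refine ⟨s'⁻¹ * t', ?_⟩
  rw [mem_conj_smul_iff, Subgroup.mem_inf]
  rw [mem_conj_smul_iff] at hs ht
  constructor
  · have h2 : (s'⁻¹ * t')⁻¹ * x * (s'⁻¹ * t')
        = ((s' * s)⁻¹ * t')⁻¹ * (s⁻¹ * x * s) * ((s' * s)⁻¹ * t') := by group
    rw [h2]; exact A.mul_mem (A.mul_mem (A.inv_mem hA1) hs) hA1
  · have h2 : (s'⁻¹ * t')⁻¹ * x * (s'⁻¹ * t')
        = ((s' * t)⁻¹ * t')⁻¹ * (t⁻¹ * x * t) * ((s' * t)⁻¹ * t') := by group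
    rw [h2]; exact B.mul_mem (B.mul_mem (B.inv_mem hB1) ht) hB1

/-- Two Frobenius complements that meet nontrivially are comparable. -/
theorem frob_le_or_le [Finite G] {A B : Subgroup G} (hA : Cfsg.IsFrobeniusComplement A)
    (hB : Cfsg.IsFrobeniusComplement B) (hD : A ⊓ B ≠ ⊥) : A ≤ B ∨ B ≤ A := by
  by_contra hcon
  push Not at hcon
  obtain ⟨hAB, hBA⟩ := hcon
  have hDF := isFrob_inf hA hB hD
  have hsub : Cfsg.frobeniusKernel (A ⊓ B) ⊆ Cfsg.frobeniusKernel A ∪ Cfsg.frobeniusKernel B := by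
    intro x hx
    rcases hx with h | h
    · left; left; exact h
    · by_contra hcon2
      rw [Set.mem_union, not_or] at hcon2
      obtain ⟨h1, h2⟩ := hcon2
      have hx1 : x ≠ 1 := fun h' => h1 (Or.inl h')
      have hsA : ∃ s : G, x ∈ MulAut.conj s • A := by
        by_contra hc; push Not at hc; exact h1 (Or.inr hc)
      have htB : ∃ t : G, x ∈ MulAut.conj t • B := by
        by_contra hc; push Not at hc; exact h2 (Or.inr hc)
      obtain ⟨s, hs⟩ := hsA
      obtain ⟨t, ht⟩ := htB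
      obtain ⟨r, hr⟩ := frob_mem_conj_inf hA hB hD hx1 hs ht
      exact h r hr
  have hcard1 := Set.ncard_le_ncard hsub (Set.toFinite _)
  have hcard2 := Set.ncard_union_add_ncard_inter (Cfsg.frobeniusKernel A) (Cfsg.frobeniusKernel B)
  have h1 : (1 : G) ∈ (Cfsg.frobeniusKernel A ∩ Cfsg.frobeniusKernel B : Set G) :=
    ⟨Or.inl rfl, Or.inl rfl⟩
  have hpos : 0 < (Cfsg.frobeniusKernel A ∩ Cfsg.frobeniusKernel B).ncard :=
    (Set.ncard_pos (Set.toFinite _)).mpr ⟨1, h1⟩
  rw [frob_ncard_kernel hA, frob_ncard_kernel hB] at hcard2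
  rw [frob_ncard_kernel hDF] at hcard1
  have hiA : (A ⊓ B).relIndex A * A.index = (A ⊓ B).index := Subgroup.relIndex_mul_index inf_le_left
  have hiB : (A ⊓ B).relIndex B * B.index = (A ⊓ B).index := Subgroup.relIndex_mul_index inf_le_right
  have hi0 : (A ⊓ B).index ≠ 0 := Subgroup.index_ne_zero_of_finite
  have hrA : 2 ≤ (A ⊓ B).relIndex A := by
    have h1 : (A ⊓ B).relIndex A ≠ 1 := by
      rw [Ne, Subgroup.relIndex_eq_one]
      intro h; exact hAB (h.trans inf_le_right)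
    have h0 : (A ⊓ B).relIndex A ≠ 0 := by
      intro h; rw [h, zero_mul] at hiA; exact hi0 hiA.symm
    omega
  have hrB : 2 ≤ (A ⊓ B).relIndex B := by
    have h1 : (A ⊓ B).relIndex B ≠ 1 := by
      rw [Ne, Subgroup.relIndex_eq_one]
      intro h; exact hBA (h.trans inf_le_left)
    have h0 : (A ⊓ B).relIndex B ≠ 0 := by
      intro h; rw [h, zero_mul] at hiB; exact hi0 hiB.symm
    omega
  have h2A : 2 * A.index ≤ (A ⊓ B).index := by
    rw [← hiA]; exact Nat.mul_le_mul_right _ hrA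
  have h2B : 2 * B.index ≤ (A ⊓ B).index := by
    rw [← hiB]; exact Nat.mul_le_mul_right _ hrB
  omega

/-- Of two Frobenius complements, the one of smaller order is conjugate into the other. -/
theorem frob_exists_conj_le [Finite G] {H H₀ : Subgroup G} (hH : Cfsg.IsFrobeniusComplement H)
    (hH₀ : Cfsg.IsFrobeniusComplement H₀) (hle : Nat.card H₀ ≤ Nat.card H) :
    ∃ g : G, MulAut.conj g • H₀ ≤ H := by
  obtain ⟨x, hx1, s, t, hs, ht⟩ := frob_exists_common hH₀ hH
  have hF₁ := isFrob_conj hH₀ (t⁻¹ * s)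
  have hy : t⁻¹ * x * t ∈ H ⊓ MulAut.conj (t⁻¹ * s) • H₀ := by
    rw [Subgroup.mem_inf]
    refine ⟨mem_conj_smul_iff.mp ht, ?_⟩
    rw [mem_conj_smul_iff]
    have h1 := mem_conj_smul_iff.mp hs
    convert h1 using 1; group
  have hy1 : t⁻¹ * x * t ≠ 1 := by
    intro h
    apply hx1
    have h3 : x = t * (t⁻¹ * x * t) * t⁻¹ := by group
    rw [h3, h]; group
  have hD : H ⊓ MulAut.conj (t⁻¹ * s) • H₀ ≠ ⊥ := by
    intro h
    rw [h, Subgroup.mem_bot] at hy
    exact hy1 hy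
  have hcard : Nat.card (MulAut.conj (t⁻¹ * s) • H₀ : Subgroup G) = Nat.card H₀ :=
    (Nat.card_congr (Subgroup.equivSMul (MulAut.conj (t⁻¹ * s)) H₀).toEquiv).symm
  rcases frob_le_or_le hH hF₁ hD with h | h
  · have h2 : H = MulAut.conj (t⁻¹ * s) • H₀ :=
      Subgroup.eq_of_le_of_card_ge h (by rw [hcard]; exact hle)
    exact ⟨t⁻¹ * s, h2 ▸ le_refl _⟩
  · exact ⟨t⁻¹ * s, h⟩

end Cfsg.Agent.Lib.Helper96
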