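import Cfsg.Agent.Lib.Helper96.Frob3
import Cfsg.Agent.S0031

set_option autoImplicit false

namespace Cfsg.Agent.Lib.Helper96

open MulAction Pointwise

/-- A fixed-point-free automorphism: `(φ x)⁻¹ x ∈ N` forces `x ∈ N` for `φ`-invariant `N`. -/
theorem fpf_mem_of_inv_mul_mem {K : Type*} [Group K] [Finite K] (φ : K ≃* K)
    (hφ : MonoidHom.FixedPointFree (φ : K →* K)) (N : Subgroup K) (hN : ∀ n ∈ N, φ n ∈ N)
    (x : K) (hx : (φ x)⁻¹ * x ∈ N) : x ∈ N := by
  let ψ : N →* N := ((φ : K →* K).comp N.subtype).codRestrict N (fun n => hN n n.2)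
  have hψ : MonoidHom.FixedPointFree ψ := by
    intro n hn
    have h1 : φ (n : K) = n := congrArg Subtype.val hn
    exact Subtype.ext (hφ _ h1)
  obtain ⟨n, hn⟩ := hψ.commutatorMap_surjective ⟨x⁻¹ * φ x, by
    have h2 := N.inv_mem hx
    simpa [mul_inv_rev] using h2⟩
  have h1 : MonoidHom.commutatorMap (φ : K →* K) (n : K)
      = MonoidHom.commutatorMap (φ : K →* K) x⁻¹ := by
    have h3 := congrArg Subtype.val hn
    simp only [MonoidHom.commutatorMap_apply] at h3 ⊢
    rw [map_inv, div_eq_mul_inv, div_eq_mul_inv, inv_inv]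
    have h5 : ((n / ψ n : N) : K) = (n : K) * (φ (n : K))⁻¹ := by
      rw [div_eq_mul_inv]; rfl
    exact h5.symm.trans h3
  have h4 := hφ.commutatorMap_injective h1
  have hx' : x⁻¹ ∈ N := h4 ▸ n.2
  simpa using N.inv_mem hx'

theorem mem_smul_sylow_iff {K : Type*} [Group K] {r : ℕ} (a x : K) (P : Sylow r K) :
    x ∈ (a • P : Sylow r K) ↔ a⁻¹ * x * a ∈ P := by
  change x ∈ ((a • P : Sylow r K) : Subgroup K) ↔ _
  rw [Sylow.smul_def, Sylow.pointwise_smul_def,
    Subgroup.mem_pointwise_smul_iff_inv_smul_mem, MulAut.smul_def, MulAut.conj_inv_apply]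
  rfl

theorem mem_aut_smul_sylow_iff {K : Type*} [Group K] {r : ℕ} (φ : MulAut K) (x : K)
    (P : Sylow r K) : x ∈ (φ • P : Sylow r K) ↔ φ⁻¹ x ∈ P := by
  change x ∈ ((φ • P : Sylow r K) : Subgroup K) ↔ _
  rw [Sylow.pointwise_smul_def, Subgroup.mem_pointwise_smul_iff_inv_smul_mem, MulAut.smul_def]
  rfl

theorem aut_smul_smul_sylow {K : Type*} [Group K] {r : ℕ} (φ : MulAut K) (k : K)
    (P : Sylow r K) : φ • (k • P) = (φ k) • (φ • P) := by
  apply Sylow.ext
  ext x
  change x ∈ (φ • (k • P) : Sylow r K) ↔ x ∈ ((φ k) • (φ • P) : Sylow r K)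
  rw [mem_aut_smul_sylow_iff, mem_smul_sylow_iff, mem_smul_sylow_iff, mem_aut_smul_sylow_iff]
  have h1 : φ⁻¹ ((φ k)⁻¹ * x * φ k) = k⁻¹ * φ⁻¹ x * k := by
    rw [map_mul, map_mul, map_inv, MulAut.inv_apply_self]
  rw [h1]

/-- A fixed-point-free automorphism of a finite group fixes at most one Sylow `r`-subgroup. -/
theorem fpf_sylow_unique {K : Type*} [Group K] [Finite K] (φ : MulAut K)
    (hφ : MonoidHom.FixedPointFree ((φ : K ≃* K) : K →* K)) {r : ℕ} [Fact r.Prime]
    (P Q : Sylow r K) (hP : φ • P = P) (hQ : φ • Q = Q) : P = Q := by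
  obtain ⟨k, hk⟩ := MulAction.exists_smul_eq K P Q
  have h1 := aut_smul_smul_sylow φ k P
  rw [hk, hQ, hP] at h1
  have h2 : ((φ k)⁻¹ * k) • P = P := by
    rw [mul_smul, hk, h1, inv_smul_smul]
  have h3 : (φ k)⁻¹ * k ∈ Subgroup.normalizer ((P : Subgroup K) : Set K) :=
    Sylow.smul_eq_iff_mem_normalizer.mp h2
  have h4 : k ∈ Subgroup.normalizer ((P : Subgroup K) : Set K) := by
    refine fpf_mem_of_inv_mul_mem φ hφ _ (fun n hn => ?_) k h3
    apply Sylow.smul_eq_iff_mem_normalizer.mp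
    have h5 := aut_smul_smul_sylow φ n P
    rw [Sylow.smul_eq_iff_mem_normalizer.mpr hn, hP] at h5
    exact h5.symm
  rw [← hk]
  exact (Sylow.smul_eq_iff_mem_normalizer.mpr h4).symm

/-- If `y` acts fixed-point-freely by conjugation on the nontrivial normal subgroup `K` of the
finite group `G`, there is a nontrivial abelian subgroup `V ≤ K` normalized by every `b` with
`b⁻¹ y b ∈ ⟨y⟩`. -/
theorem fpf_exists_invariant_abelian {G : Type*} [Group G] [Finite G] (K : Subgroup G) [K.Normal]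
    (hK : K ≠ ⊥) (y : G) (hy : K ⊓ Subgroup.centralizer {y} = ⊥) :
    ∃ V : Subgroup G, V ≤ K ∧ V ≠ ⊥ ∧ (∀ a ∈ V, ∀ b ∈ V, a * b = b * a) ∧
      ∀ b : G, b⁻¹ * y * b ∈ Subgroup.zpowers y → b ∈ Subgroup.normalizer (V : Set G) := by
  classical
  have hcard : Nat.card K ≠ 1 := by
    intro h
    exact hK ((Subgroup.card_eq_one).mp h)
  haveI : Fact (Nat.card K).minFac.Prime := ⟨Nat.minFac_prime hcard⟩
  set r := (Nat.card K).minFac with hr
  let φ : MulAut K := MulAut.conjNormal y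
  have hφapp : ∀ (g : G) (k : K), ((MulAut.conjNormal g : MulAut K) k : G) = g * k * g⁻¹ :=
    fun g k => MulAut.conjNormal_apply g k
  have hφ : MonoidHom.FixedPointFree ((φ : K ≃* K) : K →* K) := by
    intro k hk
    have h1 : y * (k : G) * y⁻¹ = k := by
      have h0 := congrArg Subtype.val hk
      rw [← hφapp y k]; exact h0
    have h2 : (k : G) ∈ K ⊓ Subgroup.centralizer {y} := by
      rw [Subgroup.mem_inf]
      refine ⟨k.2, ?_⟩
      rw [Subgroup.mem_centralizer_iff]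
      intro z hz
      rw [Set.mem_singleton_iff] at hz
      subst hz
      calc z * (k : G) = (z * (k : G) * z⁻¹) * z := by group
        _ = k * z := by rw [h1]
    rw [hy, Subgroup.mem_bot] at h2
    exact Subtype.ext h2
  obtain ⟨P, hP⟩ := Cfsg.Agent.S0031.result (φ : K ≃* K) hφ r
  have hP' : φ • P = P := by
    apply Sylow.ext
    rw [Sylow.pointwise_smul_def]
    exact hP
  -- the subgroups
  set R : Subgroup G := (P : Subgroup K).map K.subtype with hR
  have hRmem : ∀ g : G, g ∈ R ↔ ∃ hg : g ∈ K, (⟨g, hg⟩ : K) ∈ P := by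
    intro g
    rw [hR, Subgroup.mem_map]
    constructor
    · rintro ⟨k, hk, rfl⟩
      exact ⟨k.2, hk⟩
    · rintro ⟨hg, hk⟩
      exact ⟨⟨g, hg⟩, hk, rfl⟩
  refine ⟨R ⊓ Subgroup.centralizer (R : Set G), ?_, ?_, ?_, ?_⟩
  · intro g hg
    rw [Subgroup.mem_inf] at hg
    obtain ⟨hgK, -⟩ := (hRmem g).mp hg.1
    exact hgK
  · -- nontrivial: the centre of the Sylow subgroup
    have hPne : (P : Subgroup K) ≠ ⊥ :=
      P.ne_bot_of_dvd_card (Nat.minFac_dvd (Nat.card K))
    haveI : Nontrivial (P : Subgroup K) := (Subgroup.nontrivial_iff_ne_bot _).mpr hPne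
    haveI := P.2.center_nontrivial
    obtain ⟨c, hc⟩ := exists_ne (1 : Subgroup.center (P : Subgroup K))
    intro hbot
    have hcV : ((c : (P : Subgroup K)) : K).1 ∈ R ⊓ Subgroup.centralizer (R : Set G) := by
      rw [Subgroup.mem_inf]
      refine ⟨(hRmem _).mpr ⟨(c : (P : Subgroup K)).1.2, (c : (P : Subgroup K)).2⟩, ?_⟩
      rw [Subgroup.mem_centralizer_iff]
      intro g hg
      obtain ⟨hgK, hgP⟩ := (hRmem g).mp hg
      have h1 := Subgroup.mem_center_iff.mp c.2 ⟨⟨g, hgK⟩, hgP⟩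
      have h2 := congrArg (fun z : (P : Subgroup K) => ((z : K) : G)) h1
      exact h2
    rw [hbot, Subgroup.mem_bot] at hcV
    apply hc
    apply Subtype.ext
    apply Subtype.ext
    apply Subtype.ext
    exact hcV
  · intro a ha b hb
    rw [Subgroup.mem_inf] at ha hb
    exact ((Subgroup.mem_centralizer_iff.mp hb.2) a ha.1)
  · intro b hb
    let ψ : MulAut K := MulAut.conjNormal b
    -- ψ • P is φ-invariant
    have hψP : ψ • P = P := by
      symm
      apply fpf_sylow_unique φ hφ P (ψ • P) hP'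
      obtain ⟨j, hj⟩ := Subgroup.mem_zpowers_iff.mp hb
      have h1 : φ * ψ = ψ * φ ^ j := by
        have h2 : y * b = b * y ^ j := by rw [hj]; group
        calc φ * ψ = MulAut.conjNormal (y * b) := (map_mul _ y b).symm
          _ = MulAut.conjNormal (b * y ^ j) := by rw [h2]
          _ = ψ * φ ^ j := by rw [map_mul, map_zpow]
      have h3 : φ ^ j • P = P := by
        have h4 : φ ∈ MulAction.stabilizer (MulAut K) P := hP'
        exact (Subgroup.zpow_mem _ h4 j : φ ^ j ∈ MulAction.stabilizer (MulAut K) P)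
      rw [← mul_smul, h1, mul_smul, h3]
    have hψmem : ∀ k : K, ψ k ∈ P ↔ k ∈ P := by
      intro k
      have h1 := mem_aut_smul_sylow_iff ψ (ψ k) P
      rw [hψP, MulAut.inv_apply_self] at h1
      exact h1
    have hRb : ∀ g : G, g ∈ R ↔ b * g * b⁻¹ ∈ R := by
      intro g
      constructor
      · intro hg
        obtain ⟨hgK, hgP⟩ := (hRmem g).mp hg
        have h1 := (hψmem ⟨g, hgK⟩).mpr hgP
        exact (hRmem _).mpr ⟨(ψ ⟨g, hgK⟩).2, h1⟩
      · intro hg
        obtain ⟨hgK, hgP⟩ := (hRmem _).mp hg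
        have hgK' : g ∈ K := by
          have h1 := Subgroup.Normal.conj_mem (inferInstance : K.Normal) _ hgK b⁻¹
          have h2 : b⁻¹ * (b * g * b⁻¹) * b⁻¹⁻¹ = g := by group
          rw [h2] at h1; exact h1
        have h3 : ψ ⟨g, hgK'⟩ = ⟨b * g * b⁻¹, hgK⟩ := Subtype.ext (hφapp b ⟨g, hgK'⟩)
        have h4 : ψ ⟨g, hgK'⟩ ∈ P := by rw [h3]; exact hgP
        exact (hRmem g).mpr ⟨hgK', (hψmem _).mp h4⟩
    rw [Subgroup.mem_set_normalizer_iff]
    intro h
    change h ∈ R ⊓ Subgroup.centralizer (R : Set G) ↔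
      b * h * b⁻¹ ∈ R ⊓ Subgroup.centralizer (R : Set G)
    rw [Subgroup.mem_inf, Subgroup.mem_inf, ← hRb h]
    refine and_congr_right (fun _ => ?_)
    rw [Subgroup.mem_centralizer_iff, Subgroup.mem_centralizer_iff]
    constructor
    · intro hc g hg
      -- g = b g' b⁻¹ with g' ∈ R
      have hg' : b⁻¹ * g * b ∈ R := by
        rw [hRb]
        have h2 : b * (b⁻¹ * g * b) * b⁻¹ = g := by group
        rw [h2]; exact hg
      have h1 := hc _ hg'
      calc g * (b * h * b⁻¹) = b * ((b⁻¹ * g * b) * h) * b⁻¹ := by group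
        _ = b * (h * (b⁻¹ * g * b)) * b⁻¹ := by rw [h1]
        _ = b * h * b⁻¹ * g := by group
    · intro hc g hg
      have hg' : b * g * b⁻¹ ∈ R := (hRb g).mp hg
      have h1 := hc _ hg'
      calc g * h = b⁻¹ * ((b * g * b⁻¹) * (b * h * b⁻¹)) * b := by group
        _ = b⁻¹ * ((b * h * b⁻¹) * (b * g * b⁻¹)) * b := by rw [h1]
        _ = h * g := by group

/-- The statement of S0041 for a fixed group, used as a hypothesis. -/
def S41 (G : Type*) [Group G] : Prop :=
  ∀ (A V : Subgroup G) [IsMulCommutative V], V ≠ ⊥ → A ≤ Subgroup.normalizer (V : Set G) →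
    (∀ a ∈ A, a ≠ 1 → V ⊓ Subgroup.centralizer {a} = ⊥) →
    (IsMulCommutative A ∨ ∃ p q : ℕ, p.Prime ∧ q.Prime ∧ Nat.card A = p * q) → IsCyclic A

/-- Core: a subgroup `B ≤ H` normalizing `⟨y⟩` for some `1 ≠ y ∈ B`, which is abelian or of
order `pq`, is cyclic, when `H` acts fixed-point-freely on `K`. -/
theorem fpf_isCyclic_core {G : Type*} [Group G] [Finite G] (h41 : S41 G) (K H : Subgroup G)
    [K.Normal] (hK : K ≠ ⊥)
    (hfpf : ∀ h ∈ H, h ≠ 1 → K ⊓ Subgroup.centralizer {h} = ⊥)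
    (B : Subgroup G) (hB : B ≤ H) (y : G) (hyB : y ∈ B) (hy1 : y ≠ 1)
    (hnorm : ∀ b ∈ B, b⁻¹ * y * b ∈ Subgroup.zpowers y)
    (hA : IsMulCommutative B ∨ ∃ p q : ℕ, p.Prime ∧ q.Prime ∧ Nat.card B = p * q) :
    IsCyclic B := by
  obtain ⟨V, hVK, hVbot, hVcomm, hVnorm⟩ :=
    fpf_exists_invariant_abelian K hK y (hfpf y (hB hyB) hy1)
  have : IsMulCommutative V := ⟨⟨fun a b => Subtype.ext (hVcomm a a.2 b b.2)⟩⟩
  refine h41 B V hVbot (fun b hb => hVnorm b (hnorm b hb)) ?_ hA
  intro a ha ha1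
  rw [eq_bot_iff, ← hfpf a (hB ha) ha1]
  exact inf_le_inf_right _ hVK

/-- Abelian subgroups of a group acting fixed-point-freely are cyclic. -/
theorem fpf_isCyclic_of_comm {G : Type*} [Group G] [Finite G] (h41 : S41 G) (K H : Subgroup G)
    [K.Normal] (hK : K ≠ ⊥)
    (hfpf : ∀ h ∈ H, h ≠ 1 → K ⊓ Subgroup.centralizer {h} = ⊥)
    (B : Subgroup G) (hB : B ≤ H) (hcomm : ∀ a ∈ B, ∀ b ∈ B, a * b = b * a) : IsCyclic B := by
  by_cases hbot : B = ⊥
  · subst hbot
    exact isCyclic_of_subsingleton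
  · obtain ⟨y, hyB, hy1⟩ := (Subgroup.ne_bot_iff_exists_ne_one).mp hbot |>.imp
      (fun y hy => hy) |> fun ⟨y, hy⟩ => (⟨(y : G), y.2, fun h => hy (Subtype.ext h)⟩ :
        ∃ y : G, y ∈ B ∧ y ≠ 1)
    haveI : IsMulCommutative B := ⟨⟨fun a b => Subtype.ext (hcomm a a.2 b b.2)⟩⟩
    refine fpf_isCyclic_core h41 K H hK hfpf B hB y hyB hy1 ?_ (Or.inl inferInstance)
    intro b hb
    have h1 : b⁻¹ * y * b = y := by
      rw [mul_assoc, hcomm y hyB b hb, ← mul_assoc, inv_mul_cancel, one_mul]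
    rw [h1]
    exact Subgroup.mem_zpowers y

/-- Subgroups of order `pq` of a group acting fixed-point-freely are cyclic. -/
theorem fpf_isCyclic_of_card {G : Type*} [Group G] [Finite G] (h41 : S41 G) (K H : Subgroup G)
    [K.Normal] (hK : K ≠ ⊥)
    (hfpf : ∀ h ∈ H, h ≠ 1 → K ⊓ Subgroup.centralizer {h} = ⊥)
    (B : Subgroup G) (hB : B ≤ H) {p q : ℕ} (hp : p.Prime) (hq : q.Prime)
    (hcard : Nat.card B = p * q) : IsCyclic B := by
  wlog hpq : p ≤ q generalizing p q
  · exact this hq hp (by rw [hcard, mul_comm]) (le_of_not_ge hpq)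
  rcases hpq.eq_or_lt with heq | hlt
  · subst heq
    haveI : Fact p.Prime := ⟨hp⟩
    have hc := (IsPGroup.isMulCommutative_of_card_eq_prime_sq (G := B) (p := p)
      (by rw [hcard, sq])).is_comm.comm
    exact fpf_isCyclic_of_comm h41 K H hK hfpf B hB (fun a ha b hb =>
      congrArg Subtype.val (hc ⟨a, ha⟩ ⟨b, hb⟩))
  · haveI : Fact q.Prime := ⟨hq⟩
    obtain ⟨y₀, hy₀⟩ := exists_prime_orderOf_dvd_card' (G := B) q
      (by rw [hcard]; exact dvd_mul_left q p)
    have hzc : Nat.card (Subgroup.zpowers y₀) = q := by rw [Nat.card_zpowers, hy₀]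
    have hidx : (Subgroup.zpowers y₀).index = p := by
      have h1 := (Subgroup.zpowers y₀).card_mul_index
      rw [hzc, hcard] at h1
      exact Nat.eq_of_mul_eq_mul_left hq.pos (by rw [h1, mul_comm])
    have hmin : (Nat.card B).minFac = p := by
      rw [hcard]
      have h2 : (p * q).minFac ∣ p * q := Nat.minFac_dvd _
      have h3 : (p * q).minFac.Prime := Nat.minFac_prime (by
        have := hp.one_lt; have := hq.one_lt; nlinarith)
      have h4 : (p * q).minFac ≤ p := Nat.minFac_le_of_dvd hp.two_le (dvd_mul_right p q)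
      rcases (Nat.Prime.dvd_mul h3).mp h2 with h5 | h5
      · exact (Nat.prime_dvd_prime_iff_eq h3 hp).mp h5
      · have h6 := (Nat.prime_dvd_prime_iff_eq h3 hq).mp h5
        omega
    haveI hnormal : (Subgroup.zpowers y₀).Normal :=
      Subgroup.normal_of_index_eq_minFac_card (by rw [hidx, hmin])
    refine fpf_isCyclic_core h41 K H hK hfpf B hB (y₀ : G) y₀.2 ?_ ?_
      (Or.inr ⟨p, q, hp, hq, hcard⟩)
    · intro h
      have h1 : y₀ = 1 := Subtype.ext h
      rw [h1, orderOf_one] at hy₀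
      exact hq.one_lt.ne hy₀
    · intro b hb
      have h1 : (⟨b, hb⟩ : B)⁻¹ * y₀ * (⟨b, hb⟩ : B)⁻¹⁻¹ ∈ Subgroup.zpowers y₀ :=
        hnormal.conj_mem y₀ (Subgroup.mem_zpowers y₀) _
      rw [inv_inv] at h1
      obtain ⟨j, hj⟩ := Subgroup.mem_zpowers_iff.mp h1
      rw [Subgroup.mem_zpowers_iff]
      refine ⟨j, ?_⟩
      have h2 := congrArg Subtype.val hj
      simpa using h2

/-- In a cyclic subgroup, two elements of the same positive order generate the same subgroup. -/
theorem mem_zpowers_of_orderOf_eq {G : Type*} [Group G] [Finite G] (C : Subgroup G) [IsCyclic C]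
    {a b : G} (ha : a ∈ C) (hb : b ∈ C) (hab : orderOf a = orderOf b) :
    b ∈ Subgroup.zpowers a := by
  classical
  have : Fintype C := Fintype.ofFinite C
  by_contra hcon
  have hn0 : 0 < orderOf a := orderOf_pos a
  have hle := IsCyclic.card_pow_eq_one_le (α := C) hn0
  let a' : C := ⟨a, ha⟩
  have ha' : orderOf a' = orderOf a := Subgroup.orderOf_mk a ha
  let S : Finset C := Finset.image (fun k : Fin (orderOf a) => a' ^ (k : ℕ)) Finset.univ
  have hS : S.card = orderOf a := by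
    rw [Finset.card_image_of_injective, Finset.card_univ, Fintype.card_fin]
    intro k l hkl
    apply Fin.ext
    apply pow_injOn_Iio_orderOf (x := a')
    · rw [Set.mem_Iio, ha']; exact k.2
    · rw [Set.mem_Iio, ha']; exact l.2
    · exact hkl
  have hSsub : insert (⟨b, hb⟩ : C) S ⊆ Finset.univ.filter (fun x : C => x ^ orderOf a = 1) := by
    intro x hx
    rw [Finset.mem_filter]
    refine ⟨Finset.mem_univ _, ?_⟩
    rcases Finset.mem_insert.mp hx with h | h
    · rw [h]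
      apply Subtype.ext
      change b ^ orderOf a = 1
      rw [hab]; exact pow_orderOf_eq_one b
    · obtain ⟨k, -, hk⟩ := Finset.mem_image.mp h
      have h2 : a' ^ orderOf a = 1 := by rw [← ha']; exact pow_orderOf_eq_one a'
      rw [← hk, ← pow_mul, mul_comm, pow_mul, h2, one_pow]
  have hbS : (⟨b, hb⟩ : C) ∉ S := by
    intro h
    obtain ⟨k, -, hk⟩ := Finset.mem_image.mp h
    apply hcon
    have h1 : a ^ (k : ℕ) = b := congrArg Subtype.val hk
    rw [← h1]
    exact Subgroup.pow_mem _ (Subgroup.mem_zpowers a) _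
  have hcard := Finset.card_le_card hSsub
  rw [Finset.card_insert_of_notMem hbS, hS] at hcard
  omega

end Cfsg.Agent.Lib.Helper96
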