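import Mathlib
import Cfsg.Agent.H17.MnDefs

set_option autoImplicit false

/-! Piece S5634-D2 (helper96): groups between the monomial group and `GL₂` without elementary
transvections. -/

namespace Cfsg.Agent.Lib.Helper96.Mn

open Cfsg Cfsg.Geo Cfsg.Agent.H17.Mn
open scoped MatrixGroups Matrix

variable {F : Type*} [Field F]

theorem isMon_of_diag2 (A : Matrix (Fin 2) (Fin 2) F) (h01 : A 0 1 = 0) (h10 : A 1 0 = 0) :
    IsMon A := by
  intro j i i' h1 h2
  fin_cases j <;> fin_cases i <;> fin_cases i' <;> simp_all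

theorem isMon_of_anti2 (A : Matrix (Fin 2) (Fin 2) F) (h00 : A 0 0 = 0) (h11 : A 1 1 = 0) :
    IsMon A := by
  intro j i i' h1 h2
  fin_cases j <;> fin_cases i <;> fin_cases i' <;> simp_all

/-- The diagonal matrix `diag(x, y)`. -/
def dg2 (x y : F) (hx : x ≠ 0) (hy : y ≠ 0) : GL (Fin 2) F :=
  ⟨!![x, 0; 0, y], !![x⁻¹, 0; 0, y⁻¹],
    by rw [Matrix.mul_fin_two, Matrix.one_fin_two]; simp [hx, hy],
    by rw [Matrix.mul_fin_two, Matrix.one_fin_two]; simp [hx, hy]⟩

/-- The antidiagonal matrix with entries `x` (top right) and `y` (bottom left). -/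
def anti2 (x y : F) (hx : x ≠ 0) (hy : y ≠ 0) : GL (Fin 2) F :=
  ⟨!![0, x; y, 0], !![0, y⁻¹; x⁻¹, 0],
    by rw [Matrix.mul_fin_two, Matrix.one_fin_two]; simp [hx, hy],
    by rw [Matrix.mul_fin_two, Matrix.one_fin_two]; simp [hx, hy]⟩

theorem dg2_val (x y : F) (hx : x ≠ 0) (hy : y ≠ 0) :
    ((dg2 x y hx hy : GL (Fin 2) F) : Matrix (Fin 2) (Fin 2) F) = !![x, 0; 0, y] := rfl

theorem dg2_inv_val (x y : F) (hx : x ≠ 0) (hy : y ≠ 0) :
    (((dg2 x y hx hy)⁻¹ : GL (Fin 2) F) : Matrix (Fin 2) (Fin 2) F) = !![x⁻¹, 0; 0, y⁻¹] := rfl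

theorem anti2_val (x y : F) (hx : x ≠ 0) (hy : y ≠ 0) :
    ((anti2 x y hx hy : GL (Fin 2) F) : Matrix (Fin 2) (Fin 2) F) = !![0, x; y, 0] := rfl

theorem dg2_mem (x y : F) (hx : x ≠ 0) (hy : y ≠ 0) : dg2 x y hx hy ∈ mono (Fin 2) F :=
  (mem_mono_iff _).mpr ⟨isMon_of_diag2 _ rfl rfl, isMon_of_diag2 _ rfl rfl⟩

theorem anti2_mem (x y : F) (hx : x ≠ 0) (hy : y ≠ 0) : anti2 x y hx hy ∈ mono (Fin 2) F :=
  (mem_mono_iff _).mpr ⟨isMon_of_anti2 _ rfl rfl, isMon_of_anti2 _ rfl rfl⟩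

theorem gl2_eta (t : GL (Fin 2) F) :
    (t : Matrix (Fin 2) (Fin 2) F) = !![(t : Matrix (Fin 2) (Fin 2) F) 0 0,
      (t : Matrix (Fin 2) (Fin 2) F) 0 1; (t : Matrix (Fin 2) (Fin 2) F) 1 0,
      (t : Matrix (Fin 2) (Fin 2) F) 1 1] := Matrix.eta_fin_two _

theorem gl2_det_ne (t : GL (Fin 2) F) :
    (t : Matrix (Fin 2) (Fin 2) F) 0 0 * (t : Matrix (Fin 2) (Fin 2) F) 1 1 -
      (t : Matrix (Fin 2) (Fin 2) F) 0 1 * (t : Matrix (Fin 2) (Fin 2) F) 1 0 ≠ 0 := by
  have h := (Matrix.isUnits_det_units t).ne_zero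
  rwa [Matrix.det_fin_two] at h

section Main

variable (M' : Subgroup (GL (Fin 2) F)) (hM' : mono (Fin 2) F ≤ M')
  (hno : ∀ g ∈ M', ¬ IsElemTv g)
include hM' hno

/-- no upper triangular element with exactly one zero -/
theorem d2_upper (t : GL (Fin 2) F) (ht : t ∈ M')
    (h10 : (t : Matrix (Fin 2) (Fin 2) F) 1 0 = 0) (h00 : (t : Matrix (Fin 2) (Fin 2) F) 0 0 ≠ 0)
    (h01 : (t : Matrix (Fin 2) (Fin 2) F) 0 1 ≠ 0) (h11 : (t : Matrix (Fin 2) (Fin 2) F) 1 1 ≠ 0) :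
    False := by
  apply hno (t * (dg2 _ _ h00 h11)⁻¹) (M'.mul_mem ht (M'.inv_mem (hM' (dg2_mem _ _ h00 h11))))
  refine ⟨0, 1, by decide, (t : Matrix (Fin 2) (Fin 2) F) 0 1 / (t : Matrix (Fin 2) (Fin 2) F) 1 1,
    div_ne_zero h01 h11, ?_⟩
  rw [Units.val_mul, dg2_inv_val, gl2_eta t, h10, Matrix.mul_fin_two]
  ext i j
  fin_cases i <;> fin_cases j <;>
    simp [Matrix.transvection, Matrix.single, h00, h11, div_eq_mul_inv]

/-- no lower triangular element with exactly one zero -/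
theorem d2_lower (t : GL (Fin 2) F) (ht : t ∈ M')
    (h01 : (t : Matrix (Fin 2) (Fin 2) F) 0 1 = 0) (h00 : (t : Matrix (Fin 2) (Fin 2) F) 0 0 ≠ 0)
    (h10 : (t : Matrix (Fin 2) (Fin 2) F) 1 0 ≠ 0) (h11 : (t : Matrix (Fin 2) (Fin 2) F) 1 1 ≠ 0) :
    False := by
  apply hno (t * (dg2 _ _ h00 h11)⁻¹) (M'.mul_mem ht (M'.inv_mem (hM' (dg2_mem _ _ h00 h11))))
  refine ⟨1, 0, by decide, (t : Matrix (Fin 2) (Fin 2) F) 1 0 / (t : Matrix (Fin 2) (Fin 2) F) 0 0,
    div_ne_zero h10 h00, ?_⟩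
  rw [Units.val_mul, dg2_inv_val, gl2_eta t, h01, Matrix.mul_fin_two]
  ext i j
  fin_cases i <;> fin_cases j <;>
    simp [Matrix.transvection, Matrix.single, h00, h11, div_eq_mul_inv]

/-- no element with exactly one zero, in the top left corner -/
theorem d2_zero00 (t : GL (Fin 2) F) (ht : t ∈ M')
    (h00 : (t : Matrix (Fin 2) (Fin 2) F) 0 0 = 0) (h01 : (t : Matrix (Fin 2) (Fin 2) F) 0 1 ≠ 0)
    (h10 : (t : Matrix (Fin 2) (Fin 2) F) 1 0 ≠ 0) (h11 : (t : Matrix (Fin 2) (Fin 2) F) 1 1 ≠ 0) :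
    False := by
  have hv : ((t * anti2 1 1 one_ne_zero one_ne_zero : GL (Fin 2) F) : Matrix (Fin 2) (Fin 2) F) =
      !![(t : Matrix (Fin 2) (Fin 2) F) 0 1, 0; (t : Matrix (Fin 2) (Fin 2) F) 1 1,
        (t : Matrix (Fin 2) (Fin 2) F) 1 0] := by
    rw [Units.val_mul, anti2_val, gl2_eta t, h00, Matrix.mul_fin_two]
    simp
  apply d2_lower M' hM' hno (t * anti2 1 1 one_ne_zero one_ne_zero)
    (M'.mul_mem ht (hM' (anti2_mem _ _ _ _)))
  · rw [hv]; rfl
  · rw [hv]; exact h01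
  · rw [hv]; exact h11
  · rw [hv]; exact h10

/-- no element with exactly one zero, in the bottom right corner -/
theorem d2_zero11 (t : GL (Fin 2) F) (ht : t ∈ M')
    (h11 : (t : Matrix (Fin 2) (Fin 2) F) 1 1 = 0) (h00 : (t : Matrix (Fin 2) (Fin 2) F) 0 0 ≠ 0)
    (h01 : (t : Matrix (Fin 2) (Fin 2) F) 0 1 ≠ 0) (h10 : (t : Matrix (Fin 2) (Fin 2) F) 1 0 ≠ 0) :
    False := by
  have hv : ((t * anti2 1 1 one_ne_zero one_ne_zero : GL (Fin 2) F) : Matrix (Fin 2) (Fin 2) F) =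
      !![(t : Matrix (Fin 2) (Fin 2) F) 0 1, (t : Matrix (Fin 2) (Fin 2) F) 0 0; 0,
        (t : Matrix (Fin 2) (Fin 2) F) 1 0] := by
    rw [Units.val_mul, anti2_val, gl2_eta t, h11, Matrix.mul_fin_two]
    simp
  apply d2_upper M' hM' hno (t * anti2 1 1 one_ne_zero one_ne_zero)
    (M'.mul_mem ht (hM' (anti2_mem _ _ _ _)))
  · rw [hv]; rfl
  · rw [hv]; exact h01
  · rw [hv]; exact h00
  · rw [hv]; exact h10

omit hno in
/-- normalisation of an element without zeros -/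
theorem d2_norm (t : GL (Fin 2) F) (ht : t ∈ M')
    (h00 : (t : Matrix (Fin 2) (Fin 2) F) 0 0 ≠ 0) (h01 : (t : Matrix (Fin 2) (Fin 2) F) 0 1 ≠ 0)
    (h10 : (t : Matrix (Fin 2) (Fin 2) F) 1 0 ≠ 0) :
    ∃ s1 ∈ M', (s1 : Matrix (Fin 2) (Fin 2) F) = !![1, 1; 1,
      (t : Matrix (Fin 2) (Fin 2) F) 0 0 * (t : Matrix (Fin 2) (Fin 2) F) 1 1 /
        ((t : Matrix (Fin 2) (Fin 2) F) 0 1 * (t : Matrix (Fin 2) (Fin 2) F) 1 0)] := by
  refine ⟨dg2 ((t : Matrix (Fin 2) (Fin 2) F) 0 0)⁻¹ ((t : Matrix (Fin 2) (Fin 2) F) 1 0)⁻¹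
      (inv_ne_zero h00) (inv_ne_zero h10) * t *
      dg2 1 ((t : Matrix (Fin 2) (Fin 2) F) 0 0 / (t : Matrix (Fin 2) (Fin 2) F) 0 1) one_ne_zero
        (div_ne_zero h00 h01),
    M'.mul_mem (M'.mul_mem (hM' (dg2_mem _ _ _ _)) ht) (hM' (dg2_mem _ _ _ _)), ?_⟩
  rw [Units.val_mul, Units.val_mul, dg2_val, dg2_val]
  conv_lhs => rw [gl2_eta t]
  rw [Matrix.mul_fin_two, Matrix.mul_fin_two]
  ext i j
  fin_cases i <;> fin_cases j <;> simp <;> field_simp

/-- an element without zeros has `ad + bc = 0` -/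
theorem d2_rel (t : GL (Fin 2) F) (ht : t ∈ M')
    (h00 : (t : Matrix (Fin 2) (Fin 2) F) 0 0 ≠ 0) (h01 : (t : Matrix (Fin 2) (Fin 2) F) 0 1 ≠ 0)
    (h10 : (t : Matrix (Fin 2) (Fin 2) F) 1 0 ≠ 0) (h11 : (t : Matrix (Fin 2) (Fin 2) F) 1 1 ≠ 0) :
    (t : Matrix (Fin 2) (Fin 2) F) 0 0 * (t : Matrix (Fin 2) (Fin 2) F) 1 1 +
      (t : Matrix (Fin 2) (Fin 2) F) 0 1 * (t : Matrix (Fin 2) (Fin 2) F) 1 0 = 0 := by
  by_contra hne
  obtain ⟨s1, hs1, hs1v⟩ := d2_norm M' hM' t ht h00 h01 h10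
  have hdet := gl2_det_ne t
  obtain ⟨a, ha⟩ : ∃ a, a = (t : Matrix (Fin 2) (Fin 2) F) 0 0 := ⟨_, rfl⟩
  obtain ⟨b, hb⟩ : ∃ b, b = (t : Matrix (Fin 2) (Fin 2) F) 0 1 := ⟨_, rfl⟩
  obtain ⟨c, hc⟩ : ∃ c, c = (t : Matrix (Fin 2) (Fin 2) F) 1 0 := ⟨_, rfl⟩
  obtain ⟨d, hd⟩ : ∃ d, d = (t : Matrix (Fin 2) (Fin 2) F) 1 1 := ⟨_, rfl⟩
  rw [← ha, ← hb, ← hc, ← hd] at hs1v hdet hne
  rw [← ha] at h00
  rw [← hb] at h01
  rw [← hc] at h10
  rw [← hd] at h11
  obtain ⟨δ, hδ⟩ : ∃ δ, δ = a * d / (b * c) := ⟨_, rfl⟩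
  rw [← hδ] at hs1v
  have hbc : b * c ≠ 0 := mul_ne_zero h01 h10
  have hδ0 : δ ≠ 0 := by rw [hδ]; exact div_ne_zero (mul_ne_zero h00 h11) hbc
  have hδ1 : 1 - δ ≠ 0 := by
    intro h
    apply hdet
    have : δ = 1 := by linear_combination -h
    rw [hδ, div_eq_one_iff_eq hbc] at this
    linear_combination this
  have hδm : 1 + δ ≠ 0 := by
    intro h
    apply hne
    have : δ = -1 := by linear_combination h
    rw [hδ, div_eq_iff hbc] at this
    linear_combination this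
  have hW := hM' (anti2_mem (-δ) 1 (neg_ne_zero.mpr hδ0) one_ne_zero)
  have hv : ((s1 * anti2 (-δ) 1 (neg_ne_zero.mpr hδ0) one_ne_zero * s1 : GL (Fin 2) F) :
      Matrix (Fin 2) (Fin 2) F) = !![1 - δ, 1 - δ ^ 2; 0, δ - δ ^ 2] := by
    rw [Units.val_mul, Units.val_mul, anti2_val, hs1v, Matrix.mul_fin_two, Matrix.mul_fin_two]
    ext i j
    fin_cases i <;> fin_cases j <;> simp <;> ring
  apply d2_upper M' hM' hno _ (M'.mul_mem (M'.mul_mem hs1 hW) hs1)
  · rw [hv]; rfl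
  · rw [hv]; exact hδ1
  · rw [hv]
    show 1 - δ ^ 2 ≠ 0
    have : 1 - δ ^ 2 = (1 - δ) * (1 + δ) := by ring
    rw [this]
    exact mul_ne_zero hδ1 hδm
  · rw [hv]
    show δ - δ ^ 2 ≠ 0
    have : δ - δ ^ 2 = δ * (1 - δ) := by ring
    rw [this]
    exact mul_ne_zero hδ0 hδ1

/-- **S5634-D2** -/
theorem d2 (s : GL (Fin 2) F) (hs : s ∈ M') :
    s ∈ mono (Fin 2) F ∨ ((∀ i j, (s : Matrix (Fin 2) (Fin 2) F) i j ≠ 0) ∧
      (s : Matrix (Fin 2) (Fin 2) F) 0 0 * (s : Matrix (Fin 2) (Fin 2) F) 1 1 +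
        (s : Matrix (Fin 2) (Fin 2) F) 0 1 * (s : Matrix (Fin 2) (Fin 2) F) 1 0 = 0 ∧
      ∀ u : F, u ≠ 0 → u ^ 4 = 1) := by
  have hdet := gl2_det_ne s
  by_cases h00 : (s : Matrix (Fin 2) (Fin 2) F) 0 0 = 0
  · -- then `b, c ≠ 0`
    have h01 : (s : Matrix (Fin 2) (Fin 2) F) 0 1 ≠ 0 := by
      intro h; apply hdet; rw [h00, h]; ring
    have h10 : (s : Matrix (Fin 2) (Fin 2) F) 1 0 ≠ 0 := by
      intro h; apply hdet; rw [h00, h]; ring
    by_cases h11 : (s : Matrix (Fin 2) (Fin 2) F) 1 1 = 0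
    · left
      refine (mem_mono_iff _).mpr ⟨isMon_of_anti2 _ h00 h11, ?_⟩
      have hinv : ((s⁻¹ : GL (Fin 2) F) : Matrix (Fin 2) (Fin 2) F) * (s : Matrix (Fin 2) (Fin 2) F) = 1 := by
        rw [← Units.val_mul, inv_mul_cancel, Units.val_one]
      have e01 := congrFun (congrFun hinv 0) 1
      have e10 := congrFun (congrFun hinv 1) 0
      rw [Matrix.mul_apply, Fin.sum_univ_two] at e01 e10
      rw [h11, mul_zero, add_zero] at e01
      rw [h00, mul_zero, zero_add] at e10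
      simp only [Matrix.one_apply] at e01 e10
      refine isMon_of_anti2 _ ?_ ?_
      · rcases mul_eq_zero.mp (e01.trans (by simp)) with h | h
        · exact h
        · exact absurd h h01
      · rcases mul_eq_zero.mp (e10.trans (by simp)) with h | h
        · exact h
        · exact absurd h h10
    · exact (d2_zero00 M' hM' hno s hs h00 h01 h10 h11).elim
  · by_cases h11 : (s : Matrix (Fin 2) (Fin 2) F) 1 1 = 0
    · have h01 : (s : Matrix (Fin 2) (Fin 2) F) 0 1 ≠ 0 := by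
        intro h; apply hdet; rw [h11, h]; ring
      have h10 : (s : Matrix (Fin 2) (Fin 2) F) 1 0 ≠ 0 := by
        intro h; apply hdet; rw [h11, h]; ring
      exact (d2_zero11 M' hM' hno s hs h11 h00 h01 h10).elim
    · by_cases h01 : (s : Matrix (Fin 2) (Fin 2) F) 0 1 = 0
      · by_cases h10 : (s : Matrix (Fin 2) (Fin 2) F) 1 0 = 0
        · left
          refine (mem_mono_iff _).mpr ⟨isMon_of_diag2 _ h01 h10, ?_⟩
          have hinv : ((s⁻¹ : GL (Fin 2) F) : Matrix (Fin 2) (Fin 2) F) * (s : Matrix (Fin 2) (Fin 2) F) = 1 := by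
            rw [← Units.val_mul, inv_mul_cancel, Units.val_one]
          have e01 := congrFun (congrFun hinv 0) 1
          have e10 := congrFun (congrFun hinv 1) 0
          rw [Matrix.mul_apply, Fin.sum_univ_two] at e01 e10
          rw [h01, mul_zero, zero_add] at e01
          rw [h10, mul_zero, add_zero] at e10
          simp only [Matrix.one_apply] at e01 e10
          refine isMon_of_diag2 _ ?_ ?_
          · rcases mul_eq_zero.mp (e01.trans (by simp)) with h | h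
            · exact h
            · exact absurd h h11
          · rcases mul_eq_zero.mp (e10.trans (by simp)) with h | h
            · exact h
            · exact absurd h h00
        · exact (d2_lower M' hM' hno s hs h01 h00 h10 h11).elim
      · by_cases h10 : (s : Matrix (Fin 2) (Fin 2) F) 1 0 = 0
        · exact (d2_upper M' hM' hno s hs h10 h00 h01 h11).elim
        · right
          have hrel := d2_rel M' hM' hno s hs h00 h01 h10 h11
          refine ⟨?_, hrel, ?_⟩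
          · intro i j
            fin_cases i <;> fin_cases j
            · exact h00
            · exact h01
            · exact h10
            · exact h11
          · -- the normalised element is `[[1,1],[1,-1]]`
            obtain ⟨s1, hs1, hs1v⟩ := d2_norm M' hM' s hs h00 h01 h10
            have hδ : (s : Matrix (Fin 2) (Fin 2) F) 0 0 * (s : Matrix (Fin 2) (Fin 2) F) 1 1 /
                ((s : Matrix (Fin 2) (Fin 2) F) 0 1 * (s : Matrix (Fin 2) (Fin 2) F) 1 0) = -1 := by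
              rw [div_eq_iff (mul_ne_zero h01 h10)]
              linear_combination hrel
            rw [hδ] at hs1v
            have h2 : (2 : F) ≠ 0 := by
              intro h2
              apply hdet
              have : (s : Matrix (Fin 2) (Fin 2) F) 0 1 * (s : Matrix (Fin 2) (Fin 2) F) 1 0 *
                  (2 : F) = 0 := by rw [h2, mul_zero]
              linear_combination hrel - this
            intro u hu
            by_cases hu1 : u = 1
            · rw [hu1, one_pow]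
            by_cases hum : u = -1
            · rw [hum]; norm_num
            have hp : 1 + u ≠ 0 := fun h => hum (by linear_combination h)
            have hm : 1 - u ≠ 0 := fun h => hu1 (by linear_combination -h)
            have hv : ((s1 * dg2 1 u one_ne_zero hu * s1 : GL (Fin 2) F) :
                Matrix (Fin 2) (Fin 2) F) = !![1 + u, 1 - u; 1 - u, 1 + u] := by
              rw [Units.val_mul, Units.val_mul, dg2_val, hs1v, Matrix.mul_fin_two,
                Matrix.mul_fin_two]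
              ext i j
              fin_cases i <;> fin_cases j <;> simp <;> ring
            have hz := d2_rel M' hM' hno (s1 * dg2 1 u one_ne_zero hu * s1)
              (M'.mul_mem (M'.mul_mem hs1 (hM' (dg2_mem _ _ _ _))) hs1)
              (by rw [hv]; exact hp) (by rw [hv]; exact hm) (by rw [hv]; exact hm)
              (by rw [hv]; exact hp)
            rw [hv] at hz
            have hz' : (1 + u) * (1 + u) + (1 - u) * (1 - u) = 0 := hz
            have hu2 : u ^ 2 = -1 := by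
              have : (2 : F) * (u ^ 2 + 1) = 0 := by linear_combination hz'
              rcases mul_eq_zero.mp this with h | h
              · exact absurd h h2
              · linear_combination h
            calc u ^ 4 = (u ^ 2) ^ 2 := by ring
              _ = 1 := by rw [hu2]; norm_num

end Main

end Cfsg.Agent.Lib.Helper96.Mn
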