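import Mathlib
import Cfsg.Prelude.Def_Blocks
import Cfsg.Agent.H4.Irr
import Cfsg.Agent.H4.Chars
import Cfsg.Agent.H4.RealClasses
import Cfsg.Agent.H4.PaQb
import Cfsg.Agent.H20.SubgroupIdem

/-!
# S4707 piece W8 (`char_numeric`): orthogonality relations give `Σχ = 0`, `Σχ² = |G|`,
`Σχ³ ≥ |G|`
-/

set_option autoImplicit false

namespace Cfsg.Agent.Lib.Helper96.PD

open Equiv MulAction Cfsg Cfsg.Agent.H4

open scoped ComplexConjugate

theorem char_numeric {G : Type*} [Group G] [Fintype G] (S : Finset G)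
    (χ θ : Cfsg.IrrCharacter G) (c : G → ℤ) (hc : ∀ g, (χ : G → ℂ) g = (c g : ℂ))
    (d : ℤ) (hd : 1 < d) (hχ1 : c 1 = d) (hS : ∀ g ∈ S, c g = -1)
    (hθ : ∀ g, g ∉ S → (θ : G → ℂ) g = (χ : G → ℂ) g - 1) :
    (∑ g, c g = 0) ∧ (∑ g, c g ^ 2 = (Fintype.card G : ℤ)) ∧ (∀ g, c g ≤ d) ∧
      (Fintype.card G : ℤ) ≤ ∑ g, c g ^ 3 := by
  classical
  have hcardC : (Nat.card G : ℂ) ≠ 0 := by
    rw [Nat.card_eq_fintype_card]
    exact_mod_cast Fintype.card_ne_zero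
  have hne : χ ≠ trivialIrr G := by
    intro h
    have h1 : (χ : G → ℂ) 1 = 1 := by rw [h]; rfl
    rw [hc 1, hχ1] at h1
    have h2 : d = 1 := by exact_mod_cast h1
    omega
  have hconj : ∀ g, conj (χ.1 g) = χ.1 g := by
    intro g
    have h0 : χ.1 g = (c g : ℂ) := hc g
    rw [h0]
    exact map_intCast _ _
  -- 1
  have h1 : ∑ g, c g = 0 := by
    have h0 := irr_inner_ne hne
    unfold classInner at h0
    have h2 : ∑ g : G, χ.1 g * conj ((trivialIrr G).1 g) = 0 := by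
      rcases mul_eq_zero.mp h0 with h | h
      · exact absurd (inv_eq_zero.mp h) hcardC
      · exact h
    have h3 : ∑ g : G, (c g : ℂ) = 0 := by
      rw [← h2]
      refine Finset.sum_congr rfl (fun g _ => ?_)
      have h4 : (trivialIrr G).1 g = 1 := rfl
      have h5 : χ.1 g = (c g : ℂ) := hc g
      rw [h4, map_one, mul_one, h5]
    exact_mod_cast h3
  -- 2
  have h2 : ∑ g, c g ^ 2 = (Fintype.card G : ℤ) := by
    have h0 := irr_inner_self χ
    unfold classInner at h0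
    rw [inv_mul_eq_iff_eq_mul₀ hcardC, mul_one] at h0
    have h4 : ∑ g : G, ((c g : ℂ)) ^ 2 = (Fintype.card G : ℂ) := by
      rw [← Nat.card_eq_fintype_card, ← h0]
      refine Finset.sum_congr rfl (fun g _ => ?_)
      have h5 : χ.1 g = (c g : ℂ) := hc g
      rw [hconj g, h5]
      ring
    exact_mod_cast h4
  -- 3
  have h3 : ∀ g, c g ≤ d := by
    intro g
    have h0 := Cfsg.Agent.H20.irr_norm_le χ g
    rw [hc g, hc 1, hχ1] at h0
    have h5 : ‖((c g : ℤ) : ℂ)‖ = |(c g : ℝ)| := by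
      rw [← Complex.ofReal_intCast, Complex.norm_real]
      rfl
    have h6 : ((d : ℤ) : ℂ).re = (d : ℝ) := by simp
    rw [h5, h6] at h0
    have h7 : (c g : ℝ) ≤ d := (le_abs_self _).trans h0
    exact_mod_cast h7
  refine ⟨h1, h2, h3, ?_⟩
  -- 4
  have hθθ : IsCharacter G (θ.1 * fun g => conj (θ.1 g)) :=
    isCharacter_mul (isCharacter_of_isIrrCharacter θ.2)
      (isCharacter_conj (isCharacter_of_isIrrCharacter θ.2))
  obtain ⟨n, hn⟩ := classInner_isCharacter_nat hθθ (isCharacter_of_isIrrCharacter χ.2)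
  unfold classInner at hn
  rw [inv_mul_eq_iff_eq_mul₀ hcardC] at hn
  obtain ⟨t, ht⟩ : ∃ t : G → ℝ, t = fun g => Complex.normSq (θ.1 g) := ⟨_, rfl⟩
  have hA : ∑ g, t g * (c g : ℝ) = (Fintype.card G : ℝ) * n := by
    have h0 : ∑ g : G, ((t g * (c g : ℝ) : ℝ) : ℂ) = (((Fintype.card G : ℝ) * n : ℝ) : ℂ) := by
      push_cast
      rw [← Nat.card_eq_fintype_card, ← hn]
      refine Finset.sum_congr rfl (fun g _ => ?_)
      have h5 : χ.1 g = (c g : ℂ) := hc g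
      rw [ht]
      simp only [Pi.mul_apply]
      rw [hconj g, h5, Complex.mul_conj]
    exact_mod_cast h0
  have hB : ∑ g, t g = (Fintype.card G : ℝ) := by
    have h0 := irr_inner_self θ
    unfold classInner at h0
    rw [inv_mul_eq_iff_eq_mul₀ hcardC, mul_one] at h0
    have h5 : ∑ g : G, ((t g : ℝ) : ℂ) = ((Fintype.card G : ℝ) : ℂ) := by
      push_cast
      rw [← Nat.card_eq_fintype_card, ← h0]
      refine Finset.sum_congr rfl (fun g _ => ?_)
      rw [ht, Complex.mul_conj]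
    exact_mod_cast h5
  have htR : ∀ g, g ∉ S → t g = ((c g : ℝ) - 1) ^ 2 := by
    intro g hg
    rw [ht]
    simp only
    have h5 : θ.1 g = (c g : ℂ) - 1 := by
      have h6 := hθ g hg
      rw [hc g] at h6
      exact h6
    have h7 : ((c g : ℂ) - 1) = (((c g : ℝ) - 1 : ℝ) : ℂ) := by
      push_cast
      ring
    rw [h5, h7, Complex.normSq_ofReal]
    ring
  have hcS : ∀ g ∈ S, (c g : ℝ) = -1 := by
    intro g hg
    rw [hS g hg]
    norm_num
  have hAs := Finset.sum_add_sum_compl S (fun g => t g * (c g : ℝ))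
  have hBs := Finset.sum_add_sum_compl S t
  have hA1 : ∑ g ∈ S, t g * (c g : ℝ) = - ∑ g ∈ S, t g := by
    rw [← Finset.sum_neg_distrib]
    refine Finset.sum_congr rfl (fun g hg => ?_)
    rw [hcS g hg]
    ring
  have hA2 : ∑ g ∈ Sᶜ, t g * (c g : ℝ) = ∑ g ∈ Sᶜ, ((c g : ℝ) - 1) ^ 2 * (c g : ℝ) :=
    Finset.sum_congr rfl (fun g hg => by rw [htR g (Finset.mem_compl.mp hg)])
  have hB2 : ∑ g ∈ Sᶜ, t g = ∑ g ∈ Sᶜ, ((c g : ℝ) - 1) ^ 2 :=
    Finset.sum_congr rfl (fun g hg => htR g (Finset.mem_compl.mp hg))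
  have hFs := Finset.sum_add_sum_compl S (fun g => ((c g : ℝ) - 1) ^ 2 * ((c g : ℝ) + 1))
  have hF1 : ∑ g ∈ S, ((c g : ℝ) - 1) ^ 2 * ((c g : ℝ) + 1) = 0 :=
    Finset.sum_eq_zero (fun g hg => by rw [hcS g hg]; ring)
  have hF2 : ∑ g ∈ Sᶜ, ((c g : ℝ) - 1) ^ 2 * ((c g : ℝ) + 1) =
      ∑ g ∈ Sᶜ, ((c g : ℝ) - 1) ^ 2 * (c g : ℝ) + ∑ g ∈ Sᶜ, ((c g : ℝ) - 1) ^ 2 := by
    rw [← Finset.sum_add_distrib]
    exact Finset.sum_congr rfl (fun g _ => by ring)
  have hFG : ∑ g, ((c g : ℝ) - 1) ^ 2 * ((c g : ℝ) + 1) =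
      (∑ g, (c g : ℝ) ^ 3) - (∑ g, (c g : ℝ) ^ 2) - (∑ g, (c g : ℝ)) + Fintype.card G := by
    have h0 : ∀ g : G, ((c g : ℝ) - 1) ^ 2 * ((c g : ℝ) + 1) =
        (c g : ℝ) ^ 3 - (c g : ℝ) ^ 2 - (c g : ℝ) + 1 := by
      intro g; ring
    rw [Finset.sum_congr rfl (fun g _ => h0 g), Finset.sum_add_distrib, Finset.sum_sub_distrib,
      Finset.sum_sub_distrib, Finset.sum_const, Finset.card_univ, nsmul_eq_mul, mul_one]
  have h1R : ∑ g, (c g : ℝ) = 0 := by exact_mod_cast h1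
  have h2R : ∑ g, (c g : ℝ) ^ 2 = Fintype.card G := by exact_mod_cast h2
  have hnn : (0 : ℝ) ≤ (Fintype.card G : ℝ) * n := by positivity
  have hfinal : (Fintype.card G : ℝ) ≤ ∑ g, (c g : ℝ) ^ 3 := by linarith
  exact_mod_cast hfinal

end Cfsg.Agent.Lib.Helper96.PD
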