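import Mathlib

/-!
# S4707 piece W9 (`order_arith`): pure arithmetic giving `|G| = p (p - 1) (p - 2)`
-/

set_option autoImplicit false

namespace Cfsg.Agent.Lib.Helper96.PD

open Equiv MulAction

theorem order_arith {G : Type*} [Group G] [Fintype G] {p : ℕ} (hp : 3 < p) (S : Finset G)
    (c : G → ℤ) (hS : ∀ g ∈ S, c g = -1)
    (hcount : 2 * p * S.card = (p - 1) * Fintype.card G)
    (h1 : ∑ g, c g = 0) (h2 : ∑ g, c g ^ 2 = (Fintype.card G : ℤ))
    (h3 : (Fintype.card G : ℤ) ≤ ∑ g, c g ^ 3) (hle : ∀ g, c g ≤ (p : ℤ) - 1)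
    (hone : c 1 = (p : ℤ) - 1) (hfaith : ∀ g, c g = (p : ℤ) - 1 → g = 1) :
    Fintype.card G = p * (p - 1) * (p - 2) := by
  classical
  have hp3 : (3 : ℤ) < p := by exact_mod_cast hp
  obtain ⟨T, hT⟩ : ∃ T : G → ℤ,
      T = fun x => c x * (c x - 1) * ((p : ℤ) - 1 - c x) := ⟨_, rfl⟩
  have hTexp : ∀ x, T x = -(c x) ^ 3 + (p : ℤ) * (c x) ^ 2 - ((p : ℤ) - 1) * c x := by
    intro x
    rw [hT]
    ring
  have hsum : ∑ x, T x ≤ ((p : ℤ) - 1) * Fintype.card G := by
    rw [Finset.sum_congr rfl (fun x _ => hTexp x)]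
    rw [Finset.sum_sub_distrib, Finset.sum_add_distrib, Finset.sum_neg_distrib,
      ← Finset.mul_sum, ← Finset.mul_sum, h1, h2]
    linarith
  have hTS : ∀ x ∈ S, T x = 2 * p := by
    intro x hx
    rw [hT]
    simp only [hS x hx]
    ring
  have hcc : ∀ x, 0 ≤ c x * (c x - 1) := by
    intro x
    rcases le_or_gt (c x) 0 with h | h
    · exact mul_nonneg_of_nonpos_of_nonpos h (by linarith)
    · exact mul_nonneg (by linarith) (by omega)
  have hTnn : ∀ x, 0 ≤ T x := by
    intro x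
    rw [hT]
    exact mul_nonneg (hcc x) (by linarith [hle x])
  have hsplit := Finset.sum_add_sum_compl S T
  have hcountZ : (2 * (p : ℤ) * S.card) = ((p : ℤ) - 1) * Fintype.card G := by
    have h0 : ((2 * p * S.card : ℕ) : ℤ) = (((p - 1) * Fintype.card G : ℕ) : ℤ) := by
      rw [hcount]
    rw [Nat.cast_mul ((p - 1)), Nat.cast_sub (by omega)] at h0
    push_cast at h0
    linarith
  have hSsum : ∑ x ∈ S, T x = ((p : ℤ) - 1) * Fintype.card G := by
    rw [Finset.sum_congr rfl hTS, Finset.sum_const, nsmul_eq_mul]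
    linarith
  have hcompl : ∑ x ∈ Sᶜ, T x = 0 := by
    apply le_antisymm
    · linarith
    · exact Finset.sum_nonneg (fun x _ => hTnn x)
  have hT0 : ∀ x, x ∉ S → T x = 0 := fun x hx =>
    (Finset.sum_eq_zero_iff_of_nonneg (fun x _ => hTnn x)).mp hcompl x (Finset.mem_compl.mpr hx)
  have hq : ∑ x, c x * (c x - 1) = Fintype.card G := by
    have h0 : ∀ x, c x * (c x - 1) = c x ^ 2 - c x := by
      intro x; ring
    rw [Finset.sum_congr rfl (fun x _ => h0 x), Finset.sum_sub_distrib, h1, h2, sub_zero]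
  have hqS : ∑ x ∈ S, c x * (c x - 1) = 2 * S.card := by
    have h0 : ∀ x ∈ S, c x * (c x - 1) = 2 := by
      intro x hx
      rw [hS x hx]
      norm_num
    rw [Finset.sum_congr rfl h0, Finset.sum_const, nsmul_eq_mul]
    ring
  have h1S : (1 : G) ∉ S := by
    intro h
    have h0 := hS 1 h
    rw [hone] at h0
    linarith
  have hqC : ∑ x ∈ Sᶜ, c x * (c x - 1) = ((p : ℤ) - 1) * ((p : ℤ) - 2) := by
    rw [Finset.sum_eq_single (1 : G)]
    · rw [hone]; ring
    · intro x hx hx1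
      have hxS : x ∉ S := Finset.mem_compl.mp hx
      have h0 := hT0 x hxS
      rw [hT] at h0
      rcases mul_eq_zero.mp h0 with h | h
      · exact h
      · exfalso
        exact hx1 (hfaith x (by linarith))
    · intro h
      exact absurd (Finset.mem_compl.mpr h1S) h
  have hqsplit := Finset.sum_add_sum_compl S (fun x => c x * (c x - 1))
  have e1 : (Fintype.card G : ℤ) = 2 * S.card + ((p : ℤ) - 1) * ((p : ℤ) - 2) := by
    linarith
  have hfin : (Fintype.card G : ℤ) = p * ((p : ℤ) - 1) * ((p : ℤ) - 2) := by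
    have e2 : (p : ℤ) * (Fintype.card G : ℤ) =
        2 * (p : ℤ) * S.card + p * (((p : ℤ) - 1) * ((p : ℤ) - 2)) := by
      rw [e1]; ring
    linarith
  have hcast : ((p * (p - 1) * (p - 2) : ℕ) : ℤ) = p * ((p : ℤ) - 1) * ((p : ℤ) - 2) := by
    rw [Nat.cast_mul, Nat.cast_mul, Nat.cast_sub (by omega), Nat.cast_sub (by omega)]
    push_cast
    ring
  exact_mod_cast hfin.trans hcast.symm

end Cfsg.Agent.Lib.Helper96.PD
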