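import Mathlib
import Cfsg.Agent.H91.SMDefs
import Cfsg.Agent.H85.StLin

/-!
# S2086-REL4 (helper96, for helper91): `Comm ρ` implies `Rel3 ρ` when `n ≥ 4`.
-/

set_option autoImplicit false

namespace Cfsg.Agent.Lib.Helper96.SM

open Matrix Subgroup Cfsg.Agent.H91.SM
open scoped commutatorElement

universe u v

/-- the commutator of two elementary matrices `x_ij(a)`, `x_jk(b)` is `x_ik(ab)`. -/
theorem tv_comm {n : ℕ} {K : Type*} [Field K] {i j k : Fin n} (hij : i ≠ j) (hjk : j ≠ k)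
    (hik : i ≠ k) (a b : K) : ⁅(tv hij a : SLn n K), tv hjk b⁆ = tv hik (a * b) := by
  rw [commutatorElement_def, Cfsg.Agent.H85.StLin.tr_inv, Cfsg.Agent.H85.StLin.tr_inv]
  exact Cfsg.Agent.H45.transvection_comm_rel hij hjk hik a b

/-- in a central extension the commutator only depends on the images (left variable). -/
theorem comm_congr_left {E G : Type*} [Group E] [Group G] (ρ : E →* G) (hc : ρ.ker ≤ center E)
    {x x' : E} (h : ρ x = ρ x') (w : E) : ⁅x, w⁆ = ⁅x', w⁆ := by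
  have hz : x⁻¹ * x' ∈ center E := by
    apply hc
    rw [MonoidHom.mem_ker, map_mul, map_inv, h, inv_mul_cancel]
  have hzc : ∀ g : E, g * (x⁻¹ * x') = (x⁻¹ * x') * g := fun g => (mem_center_iff.1 hz g)
  have hx' : x' = x * (x⁻¹ * x') := by group
  rw [hx', commutatorElement_def, commutatorElement_def]
  have h1 : x * (x⁻¹ * x') * w * (x * (x⁻¹ * x'))⁻¹ = x * (w * (x⁻¹ * x')) * (x⁻¹ * x')⁻¹ * x⁻¹ := by
    rw [hzc w]; group
  rw [h1]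
  group

/-- a fourth index. -/
theorem exists_fourth {n : ℕ} (hn : 4 ≤ n) (i j l : Fin n) :
    ∃ k : Fin n, k ≠ i ∧ k ≠ j ∧ k ≠ l := by
  by_contra hcon
  push Not at hcon
  have hsub : (Finset.univ : Finset (Fin n)) ⊆ {i, j, l} := by
    intro k _
    simp only [Finset.mem_insert, Finset.mem_singleton]
    by_cases h1 : k = i
    · exact Or.inl h1
    · by_cases h2 : k = j
      · exact Or.inr (Or.inl h2)
      · exact Or.inr (Or.inr (hcon k h1 h2))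
  have h1 := Finset.card_le_card hsub
  have h2 : ({i, j, l} : Finset (Fin n)).card ≤ 3 := Finset.card_le_three
  rw [Finset.card_univ, Fintype.card_fin] at h1
  omega

theorem rel4 (hI : IdStmt.{v}) (hInd : IndStmt.{u, v}) : Rel4Stmt.{u, v} := by
  intro n K _ E _ ρ hsurj hker hn hComm
  have hIndρ : Ind ρ := hInd ρ hsurj hker hComm
  intro i j l hij hjl hil a b u w p q hu hw hp hq
  obtain ⟨k, hki, hkj, hkl⟩ := exists_fourth hn i j l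
  have hik : i ≠ k := Ne.symm hki
  obtain ⟨u₁, hu₁⟩ := hsurj (tv hik 1)
  obtain ⟨v₁, hv₁⟩ := hsurj (tv hkj a)
  -- `⁅u₁, v₁⁆` lifts `x_ij(a)`
  have h1 : ρ ⁅u₁, v₁⁆ = tv hij a := by
    rw [map_commutatorElement, hu₁, hv₁, tv_comm hik hkj hij, one_mul]
  -- `⁅v₁, w⁆` lifts `x_kl(ab)`
  have h2 : ρ ⁅v₁, w⁆ = tv hkl (a * b) := by
    rw [map_commutatorElement, hv₁, hw, tv_comm hkj hjl hkl]
  have e1 : ⁅u, w⁆ = ⁅⁅u₁, v₁⁆, w⁆ := comm_congr_left ρ hker (hu.trans h1.symm) w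
  -- `⁅⁅u₁, v₁⁆, w⁆` lifts `x_il(ab)`
  have h3 : ρ ⁅⁅u₁, v₁⁆, w⁆ = tv hil (a * b) := by
    rw [map_commutatorElement, h1, hw, tv_comm hij hjl hil]
  have c1 : u₁ * w = w * u₁ := hComm i k j l hik hjl hil hkj 1 b u₁ w hu₁ hw
  have c2 : ⁅u₁, v₁⁆ * ⁅v₁, w⁆ = ⁅v₁, w⁆ * ⁅u₁, v₁⁆ :=
    hComm i j k l hij hkl hil (Ne.symm hkj) a (a * b) _ _ h1 h2
  have c3 : ⁅v₁, w⁆ * ⁅⁅u₁, v₁⁆, w⁆ = ⁅⁅u₁, v₁⁆, w⁆ * ⁅v₁, w⁆ :=
    hComm k l i l hkl hil hkl (Ne.symm hil) (a * b) (a * b) _ _ h2 h3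
  have e2 : ⁅u₁, ⁅v₁, w⁆⁆ = ⁅⁅u₁, v₁⁆, w⁆ := hI u₁ v₁ w c1 c2 c3
  have e3 : ⁅u₁, ⁅v₁, w⁆⁆ = ⁅p, q⁆ :=
    hIndρ i l k j hik hkl hij hjl hil hkj (a * b) u₁ ⁅v₁, w⁆ p q hu₁ h2 hp hq
  rw [e1, ← e2, e3]

end Cfsg.Agent.Lib.Helper96.SM
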