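import Mathlib

set_option autoImplicit false

namespace Cfsg.Agent.Lib.Helper96

open MulAction

/-- The stabilizer of a point in a subgroup is the `subgroupOf` of the stabilizer. -/
theorem stabilizer_subgroup_eq {G Ω : Type*} [Group G] [MulAction G Ω] (P : Subgroup G) (ω : Ω) :
    stabilizer P ω = (stabilizer G ω).subgroupOf P := by
  ext x
  simp [mem_stabilizer_iff, Subgroup.mem_subgroupOf, Subgroup.smul_def]

/-- If `p ^ j` divides the index of a point stabilizer then it divides the size of the orbit of that
point under a Sylow `p`-subgroup. -/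
theorem pow_dvd_card_sylow_orbit {G Ω : Type*} [Group G] [Finite G] [MulAction G Ω]
    {p : ℕ} [Fact p.Prime] (P : Sylow p G) (ω : Ω) (j : ℕ)
    (h : p ^ j ∣ (stabilizer G ω).index) :
    p ^ j ∣ (stabilizer (P : Subgroup G) ω).index := by
  rw [stabilizer_subgroup_eq]
  change p ^ j ∣ (stabilizer G ω).relIndex (P : Subgroup G)
  set S := stabilizer G ω
  have h1 : S.relIndex (P : Subgroup G) * (P : Subgroup G).index = (S ⊓ (P : Subgroup G)).index := by
    rw [← Subgroup.inf_relIndex_right, Subgroup.relIndex_mul_index inf_le_right]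
  have h2 : (S ⊓ (P : Subgroup G)).relIndex S * S.index = (S ⊓ (P : Subgroup G)).index :=
    Subgroup.relIndex_mul_index inf_le_left
  have h3 : p ^ j ∣ S.relIndex (P : Subgroup G) * (P : Subgroup G).index := by
    rw [h1, ← h2]
    exact Dvd.dvd.mul_left h _
  have hcop : Nat.Coprime (p ^ j) (P : Subgroup G).index := by
    apply Nat.Coprime.pow_left
    exact (Nat.Prime.coprime_iff_not_dvd Fact.out).mpr P.not_dvd_index
  exact hcop.dvd_of_dvd_mul_right h3

end Cfsg.Agent.Lib.Helper96
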